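import Cfsg.Agent.Lib.Helper23.AlphaB
import Cfsg.Agent.Lib.Helper64.BG9

set_option autoImplicit false
set_option linter.style.haveILetI false

/-!
# Bender–Glauberman Lemma 10.4

From the Uniqueness Theorem (as a statement) and BG 10.3 (as a statement).
-/

namespace Cfsg.Agent.Lib.Helper96.BG104

open Subgroup Cfsg Cfsg.Agent.Lib.Helper33 Cfsg.Agent.Lib.Helper63

universe u

variable {G : Type u} [Group G] [Finite G]

/-- The statement of BG 10.3 for the maximal subgroup `M`. -/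
def Stmt103 (M : Subgroup G) : Prop :=
  ∀ X : Subgroup G, X ≤ M → (∀ q : ℕ, q.Prime → q ∣ Nat.card X → q ∉ alpha M) →
    ¬ RankLE 1 ↥(alphaCore M ⊓ centralizer (X : Set G)) →
    InUniqueMaximal (M ⊓ centralizer (X : Set G))

/-- `M(C_G(x)) = {M}`. -/
def CentUniq (M : Subgroup G) (x : G) : Prop :=
  centralizer ({x} : Set G) ≤ M ∧
    ∀ L : Subgroup G, IsCoatom L → centralizer ({x} : Set G) ≤ L → L = M

omit [Finite G] in
theorem centralizer_zpowers_eq (x : G) :
    centralizer ((zpowers x : Subgroup G) : Set G) = centralizer ({x} : Set G) := by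
  ext g
  rw [mem_centralizer_iff, mem_centralizer_iff]
  constructor
  · intro h y hy
    rw [Set.mem_singleton_iff] at hy
    subst hy
    exact h y (mem_zpowers y)
  · rintro h _ ⟨n, rfl⟩
    have h1 : Commute x g := h x rfl
    exact (h1.zpow_left n).eq

omit [Finite G] in
theorem centralizer_singleton_conj (n x : G) :
    centralizer ({n * x * n⁻¹} : Set G) = cj n (centralizer ({x} : Set G)) := by
  ext g
  rw [mem_cj, mem_centralizer_singleton_iff, mem_centralizer_singleton_iff]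
  constructor
  · intro h
    calc n⁻¹ * g * n * x = n⁻¹ * (g * (n * x * n⁻¹)) * n := by group
      _ = n⁻¹ * ((n * x * n⁻¹) * g) * n := by rw [h]
      _ = x * (n⁻¹ * g * n) := by group
  · intro h
    calc g * (n * x * n⁻¹) = n * ((n⁻¹ * g * n) * x) * n⁻¹ := by group
      _ = n * (x * (n⁻¹ * g * n)) * n⁻¹ := by rw [h]
      _ = n * x * n⁻¹ * g := by group


/-- the centre of a Sylow subgroup of `M`, as a subgroup of `G` -/
def zc {p : ℕ} {M : Subgroup G} (P : Sylow p M) : Subgroup G :=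
  ((center ↥(P : Subgroup M)).map (P : Subgroup M).subtype).map M.subtype

omit [Finite G] in
theorem mem_zc_iff {p : ℕ} {M : Subgroup G} (P : Sylow p M) (x : G) :
    x ∈ zc P ↔ x ∈ (P : Subgroup M).map M.subtype ∧
      ∀ y ∈ (P : Subgroup M).map M.subtype, y * x = x * y := by
  unfold zc
  constructor
  · rintro ⟨m, ⟨z, hz, rfl⟩, rfl⟩
    refine ⟨⟨(z : M), z.2, rfl⟩, ?_⟩
    rintro _ ⟨y, hy, rfl⟩
    have h := (mem_center_iff.mp hz) ⟨y, hy⟩
    have h2 := congrArg (fun w : ↥(P : Subgroup M) => ((w : M) : G)) h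
    simpa using h2
  · rintro ⟨⟨m, hm, rfl⟩, hc⟩
    refine ⟨m, ⟨⟨m, hm⟩, ?_, rfl⟩, rfl⟩
    show (⟨m, hm⟩ : ↥(P : Subgroup M)) ∈ center ↥(P : Subgroup M)
    rw [mem_center_iff]
    rintro ⟨y, hy⟩
    apply Subtype.ext
    apply Subtype.ext
    have := hc (y : G) ⟨y, hy, rfl⟩
    simpa using this

omit [Finite G] in
theorem zc_le {p : ℕ} {M : Subgroup G} (P : Sylow p M) : zc P ≤ M := by
  intro x hx
  obtain ⟨⟨m, _, rfl⟩, -⟩ := (mem_zc_iff P x).mp hx
  exact m.2

omit [Finite G] in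
theorem conj_mem_zc {p : ℕ} {M : Subgroup G} (P : Sylow p M) {n x : G}
    (hn : n ∈ normalizer (((P : Subgroup M).map M.subtype : Subgroup G) : Set G))
    (hx : x ∈ zc P) : n * x * n⁻¹ ∈ zc P := by
  rw [mem_zc_iff] at hx ⊢
  obtain ⟨hxP, hxc⟩ := hx
  refine ⟨(mem_normalizer_iff.mp hn x).mp hxP, ?_⟩
  intro y hy
  have hy' : n⁻¹ * y * n⁻¹⁻¹ ∈ (P : Subgroup M).map M.subtype :=
    (mem_normalizer_iff.mp (inv_mem hn) y).mp hy
  rw [inv_inv] at hy'
  have := hxc _ hy'
  calc y * (n * x * n⁻¹) = n * ((n⁻¹ * y * n) * x) * n⁻¹ := by group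
    _ = n * (x * (n⁻¹ * y * n)) * n⁻¹ := by rw [this]
    _ = n * x * n⁻¹ * y := by group

theorem exists_mem_zc_orderOf {p : ℕ} [hp : Fact p.Prime] {M : Subgroup G}
    (hpM : p ∣ Nat.card M) (P : Sylow p M) : ∃ x ∈ zc P, orderOf x = p := by
  have hcard : Nat.card (P : Subgroup M) = p ^ (Nat.card M).factorization p :=
    P.card_eq_multiplicity
  have hpos : 0 < (Nat.card M).factorization p :=
    hp.out.factorization_pos_of_dvd Nat.card_pos.ne' hpM
  haveI : Nontrivial (P : Subgroup M) := by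
    rw [← Finite.one_lt_card_iff_nontrivial, hcard]
    exact Nat.one_lt_pow hpos.ne' hp.out.one_lt
  have hPp : IsPGroup p (P : Subgroup M) := P.isPGroup'
  haveI := hPp.center_nontrivial
  have hcp : IsPGroup p (center ↥(P : Subgroup M)) := hPp.to_subgroup _
  obtain ⟨k, hk⟩ := IsPGroup.iff_card.mp hcp
  have hk0 : k ≠ 0 := by
    rintro rfl
    rw [pow_zero] at hk
    have := Finite.one_lt_card_iff_nontrivial.mpr (inferInstance : Nontrivial (center ↥(P : Subgroup M)))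
    omega
  have hdvd : p ∣ Nat.card (center ↥(P : Subgroup M)) := by
    rw [hk]; exact dvd_pow_self p hk0
  obtain ⟨z, hz⟩ := exists_prime_orderOf_dvd_card' p hdvd
  refine ⟨(((z : ↥(P : Subgroup M)) : M) : G), ⟨_, ⟨_, z.2, rfl⟩, rfl⟩, ?_⟩
  rw [Subgroup.orderOf_coe, Subgroup.orderOf_coe, Subgroup.orderOf_coe, hz]

/-- Step A of BG 10.4. -/
theorem exists_not_centUniq (hG : IsMinSimpleOddOrder G) {M : Subgroup G} (hM : IsCoatom M)
    (p : ℕ) [hpf : Fact p.Prime] (hpM : p ∣ Nat.card M) (hp : p ∉ sigma M) (P : Sylow p M) :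
    ∃ x ∈ zc P, orderOf x = p ∧ ¬ CentUniq M x := by
  by_contra hcon
  push Not at hcon
  apply hp
  refine ⟨hpf.out, hpM, P, ?_⟩
  obtain ⟨x₀, hx₀, hx₀p⟩ := exists_mem_zc_orderOf hpM P
  have hM0 : M ≠ ⊥ := by
    rintro rfl
    rw [Subgroup.card_bot] at hpM
    exact hpf.out.one_lt.ne' (Nat.dvd_one.mp hpM)
  have hNM : normalizer (M : Set G) = M :=
    Cfsg.Agent.Lib.Helper23.normalizer_eq_of_isCoatom hG hM hM0 le_rfl le_normalizer
  intro n hn
  have hx₁ : n * x₀ * n⁻¹ ∈ zc P := conj_mem_zc P hn hx₀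
  have hx₁p : orderOf (n * x₀ * n⁻¹) = p := by
    have : n * x₀ * n⁻¹ = MulAut.conj n x₀ := by simp [MulAut.conj_apply]
    rw [this, MulEquiv.orderOf_eq, hx₀p]
  have h0 := hcon x₀ hx₀ hx₀p
  have h1 := hcon _ hx₁ hx₁p
  have hle : centralizer ({n * x₀ * n⁻¹} : Set G) ≤ cj n M := by
    rw [centralizer_singleton_conj]
    exact cj_mono h0.1
  have hco : IsCoatom (cj n M) := by
    rw [cj_eq_smul]
    exact Cfsg.Agent.Lib.Helper64.BG9.isCoatom_smul _ hM
  have heq : cj n M = M := h1.2 _ hco hle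
  have : n ∈ normalizer (M : Set G) := cj_eq_self_iff.mp heq
  rw [hNM] at this
  exact this


/-- Step B of BG 10.4. -/
theorem isZGroup_of_not_centUniq (hG : IsMinSimpleOddOrder G) (hU : BG10.UniqStmt G)
    {M : Subgroup G} (hM : IsCoatom M) (h103 : Stmt103 M) (p : ℕ) [hpf : Fact p.Prime]
    (hp : p ∉ sigma M) {x : G} (hxM : x ∈ M) (hxp : orderOf x = p) (hx : ¬ CentUniq M x) :
    IsZGroup ↥(alphaCore M ⊓ centralizer ({x} : Set G)) := by
  set D := alphaCore M ⊓ centralizer ({x} : Set G) with hD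
  rw [isZGroup_iff]
  intro q hq Q
  by_contra hnc
  apply hx
  haveI : Fact q.Prime := ⟨hq⟩
  set Q' : Subgroup G := (Q : Subgroup D).map D.subtype with hQ'
  have hQ'D : Q' ≤ D := Subgroup.map_subtype_le _
  let e : ↥(Q : Subgroup D) ≃* ↥Q' := (Q : Subgroup D).equivMapOfInjective D.subtype D.subtype_injective
  have hQ'p : IsPGroup q Q' := Q.isPGroup'.map D.subtype
  have hQ'nc : ¬ IsCyclic Q' := by
    intro h
    exact hnc (isCyclic_of_surjective e.symm e.symm.surjective)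
  have h1 : ¬ RankLE 1 ↥Q' := Cfsg.Agent.Lib.Helper64.BG9.not_rankLE_one_of_noncyclic hG Q' hQ'p hQ'nc
  have h2 : ¬ RankLE 1 ↥D := by
    intro h
    apply h1
    intro r hr
    exact BG10.pRankLE_of_injective (Subgroup.inclusion hQ'D) (Subgroup.inclusion_injective hQ'D) (h r hr)
  have hx1 : x ≠ 1 := by
    rintro rfl
    rw [orderOf_one] at hxp
    exact hpf.out.one_lt.ne hxp
  have hXM : zpowers x ≤ M := by rw [zpowers_le]; exact hxM
  have hXα : ∀ r : ℕ, r.Prime → r ∣ Nat.card (zpowers x) → r ∉ alpha M := by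
    intro r hr hrd hrα
    rw [Nat.card_zpowers, hxp] at hrd
    have : r = p := (Nat.prime_dvd_prime_iff_eq hr hpf.out).mp hrd
    subst this
    exact hp (Cfsg.Agent.Lib.Helper23.alpha_subset_sigma hG hU hM hrα)
  have hK := h103 (zpowers x) hXM hXα (by rw [centralizer_zpowers_eq]; exact h2)
  rw [centralizer_zpowers_eq] at hK
  have hCtop : centralizer ({x} : Set G) ≠ ⊤ :=
    Cfsg.Agent.Lib.Helper64.BG9.centralizer_singleton_ne_top hG hx1
  refine ⟨BG10.le_of_inUniqueMaximal hK hM inf_le_left hCtop inf_le_right, ?_⟩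
  intro L hL hCL
  obtain ⟨M₀, _, huniq⟩ := hK
  have e1 : L = M₀ := huniq L ⟨hL, inf_le_right.trans hCL⟩
  have e2 : M = M₀ := huniq M ⟨hM, inf_le_left⟩
  rw [e1, e2]

/-- **Bender–Glauberman Lemma 10.4**, from the Uniqueness Theorem and 10.3 as statements. -/
theorem bg10_4 (hG : IsMinSimpleOddOrder G) (hU : BG10.UniqStmt G) {M : Subgroup G}
    (hM : IsCoatom M) (h103 : Stmt103 M) (p : ℕ) [Fact p.Prime] (hpM : p ∣ Nat.card M)
    (hp : p ∉ sigma M) (P : Sylow p M) :
    ∃ x : G, x ∈ ((center ↥(P : Subgroup M)).map (P : Subgroup M).subtype).map M.subtype ∧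
      orderOf x = p ∧ IsZGroup ↥(alphaCore M ⊓ centralizer ({x} : Set G)) ∧
      ¬ (centralizer ({x} : Set G) ≤ M ∧
        ∀ L : Subgroup G, IsCoatom L → centralizer ({x} : Set G) ≤ L → L = M) := by
  obtain ⟨x, hx, hxp, hxu⟩ := exists_not_centUniq hG hM p hpM hp P
  exact ⟨x, hx, hxp, isZGroup_of_not_centUniq hG hU hM h103 p hp (zc_le P hx) hxp hxu, hxu⟩

end Cfsg.Agent.Lib.Helper96.BG104
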