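import Cfsg.Agent.Lib.Helper23.AlphaB
import Cfsg.Agent.Lib.Helper64.BG9
import Cfsg.Agent.Lib.Helper24.PxQ
import Cfsg.Agent.Lib.Helper24.Omega1
import Cfsg.Agent.Lib.Helper24.SylowInv
import Cfsg.Agent.Lib.Helper32.BG95A

set_option autoImplicit false
set_option linter.style.haveILetI false

/-!
# Bender–Glauberman Lemma 10.3

From the Uniqueness Theorem (as a statement) and the Hall property of `M_α` (BG 10.2).
-/

namespace Cfsg.Agent.Lib.Helper96.BG103

open Subgroup Cfsg Cfsg.Agent.Lib.Helper33 Cfsg.Agent.Lib.Helper63 Cfsg.Agent.Lib.Helper24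

universe u

variable {G : Type u} [Group G] [Finite G]

omit [Finite G] in
theorem alphaCore_conj_mem (M : Subgroup G) {m s : G} (hm : m ∈ M) (hs : s ∈ alphaCore M) :
    m * s * m⁻¹ ∈ alphaCore M := by
  obtain ⟨s', hs', rfl⟩ := hs
  have h1 : (⟨m, hm⟩ : ↥M) * s' * (⟨m, hm⟩ : ↥M)⁻¹ ∈ piCore (alpha M) ↥M :=
    (inferInstance : (piCore (alpha M) ↥M).Normal).conj_mem s' hs' ⟨m, hm⟩
  exact ⟨_, h1, rfl⟩

omit [Finite G] in
theorem le_normalizer_alphaCore (M : Subgroup G) :
    M ≤ normalizer ((alphaCore M : Subgroup G) : Set G) := by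
  intro m hm
  rw [Subgroup.mem_normalizer_iff]
  intro s
  constructor
  · intro hs
    exact alphaCore_conj_mem M hm hs
  · intro hs
    have h1 := alphaCore_conj_mem M (M.inv_mem hm) hs
    have h2 : m⁻¹ * (m * s * m⁻¹) * m⁻¹⁻¹ = s := by group
    rwa [h2] at h1

omit [Finite G] in
theorem mem_normalizer_centralizer_of_mem {H : Subgroup G} {g : G}
    (hg : g ∈ normalizer (H : Set G)) :
    g ∈ normalizer ((centralizer (H : Set G) : Subgroup G) : Set G) := by
  rw [← cj_eq_self_iff] at hg ⊢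
  rw [← centralizer_cj, hg]

omit [Finite G] in
/-- rank transfer along an inclusion of subgroups -/
theorem not_pRankLE_mono {q k : ℕ} {H K : Subgroup G} (hHK : H ≤ K) (h : ¬ PRankLE q k ↥H) :
    ¬ PRankLE q k ↥K := fun hK =>
  h (BG10.pRankLE_of_injective (Subgroup.inclusion hHK) (Subgroup.inclusion_injective hHK) hK)

omit [Finite G] in
/-- an abelian subgroup of exponent `q` and order `> q ^ k` inside `K` -/
theorem not_pRankLE_of_le {q k : ℕ} {B K : Subgroup G} (hBK : B ≤ K)
    (hBc : ∀ x ∈ B, ∀ y ∈ B, x * y = y * x) (hBe : ∀ x ∈ B, x ^ q = 1)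
    (hcard : q ^ k < Nat.card B) : ¬ PRankLE q k ↥K := by
  intro h
  have h1 := h (B.subgroupOf K) ⟨⟨fun x y => Subtype.ext (Subtype.ext (hBc _ x.2 _ y.2))⟩⟩
    (fun a ha => Subtype.ext (by simpa using hBe a.1 ha))
  have h2 : Nat.card (B.subgroupOf K) = Nat.card B :=
    Nat.card_congr (Subgroup.subgroupOfEquivOfLe hBK).toEquiv
  omega


/-- Enlarging an abelian subgroup `B` of exponent `q` by an element `s ∉ B` of order `q`
centralizing `B`: the rank of `C_G(B)` is at least 3 when `|B| > q`. -/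
theorem not_pRankLE_two_centralizer {q : ℕ} [hqf : Fact q.Prime] {B : Subgroup G}
    (hBc : ∀ x ∈ B, ∀ y ∈ B, x * y = y * x) (hBe : ∀ x ∈ B, x ^ q = 1)
    (hBcard : q ^ 1 < Nat.card B) {s : G} (hsq : orderOf s = q) (hsB : s ∉ B)
    (hsc : ∀ b ∈ B, b * s = s * b) : ¬ PRankLE q 2 ↥(centralizer (B : Set G)) := by
  have hq : q.Prime := hqf.out
  set Z := zpowers s with hZ
  set B' := B ⊔ Z with hB'
  have hBB : B ≤ centralizer (B : Set G) := by
    intro b hb
    rw [mem_centralizer_iff]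
    intro y hy
    exact hBc y hy b hb
  have hZB : Z ≤ centralizer (B : Set G) := by
    rw [hZ, zpowers_le, mem_centralizer_iff]
    intro b hb
    exact hsc b hb
  have hBZ : B ≤ centralizer (Z : Set G) := le_centralizer_iff.mp hZB
  have hZZ : Z ≤ centralizer (Z : Set G) := by
    rintro _ ⟨n, rfl⟩
    rw [mem_centralizer_iff]
    rintro _ ⟨m, rfl⟩
    exact (zpow_mul_comm s m n)
  have h1 : B' ≤ centralizer (B : Set G) := sup_le hBB hZB
  have h2 : B' ≤ centralizer (Z : Set G) := sup_le hBZ hZZ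
  have h3 : B' ≤ centralizer (B' : Set G) :=
    sup_le (le_centralizer_iff.mp h1) (le_centralizer_iff.mp h2)
  have hB'c : ∀ x ∈ B', ∀ y ∈ B', x * y = y * x := by
    intro x hx y hy
    exact ((mem_centralizer_iff.mp (h3 hy)) x hx)
  let T : Subgroup G :=
    { carrier := {x | x ∈ B' ∧ x ^ q = 1}
      one_mem' := ⟨one_mem _, one_pow _⟩
      mul_mem' := fun {a b} ha hb => ⟨mul_mem ha.1 hb.1, by
        rw [(show Commute a b from hB'c a ha.1 b hb.1).mul_pow, ha.2, hb.2, one_mul]⟩
      inv_mem' := fun {a} ha => ⟨inv_mem ha.1, by rw [inv_pow, ha.2, inv_one]⟩ }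
  have hB'T : B' ≤ T := by
    refine sup_le (fun b hb => ⟨(le_sup_left : B ≤ B') hb, hBe b hb⟩) ?_
    rw [hZ, zpowers_le]
    exact ⟨(le_sup_right : Z ≤ B') (mem_zpowers s), by rw [← hsq]; exact pow_orderOf_eq_one s⟩
  have hB'e : ∀ x ∈ B', x ^ q = 1 := fun x hx => (hB'T hx).2
  -- cardinality
  have hBq : IsPGroup q B := fun b =>
    ⟨1, by rw [pow_one]; exact Subtype.ext (by simpa using hBe b.1 b.2)⟩
  obtain ⟨k, hk⟩ := IsPGroup.iff_card.mp hBq
  have hk2 : 2 ≤ k := by
    by_contra hlt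
    push Not at hlt
    have : q ^ k ≤ q ^ 1 := Nat.pow_le_pow_right hq.pos (by omega)
    omega
  have hq2B : q ^ 2 ≤ Nat.card B := by
    rw [hk]; exact Nat.pow_le_pow_right hq.pos hk2
  have hlt : B < B' := by
    refine lt_of_le_of_ne le_sup_left ?_
    intro h
    apply hsB
    rw [h]
    exact (le_sup_right : Z ≤ B') (mem_zpowers s)
  have hdvd : Nat.card B ∣ Nat.card B' := Subgroup.card_dvd_of_le hlt.le
  have hne : Nat.card B ≠ Nat.card B' := by
    intro h
    exact hlt.ne (Subgroup.eq_of_le_of_card_ge hlt.le h.ge)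
  have hB'card : q ^ 2 < Nat.card B' := by
    obtain ⟨c, hc⟩ := hdvd
    have hpos : 0 < Nat.card B' := Nat.card_pos
    have hc2 : 2 ≤ c := by
      rcases c with _ | _ | c
      · rw [hc] at hpos; simp at hpos
      · exfalso; apply hne; rw [hc]; simp
      · omega
    calc q ^ 2 ≤ Nat.card B := hq2B
      _ < Nat.card B * 2 := by have := Nat.card_pos (α := B); omega
      _ ≤ Nat.card B * c := Nat.mul_le_mul_left _ hc2
      _ = Nat.card B' := hc.symm
  exact not_pRankLE_of_le h1 hB'c hB'e hB'card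

/-- **Bender–Glauberman Lemma 10.3**, from the Uniqueness Theorem and 10.2 as statements. -/
theorem bg10_3 (hG : IsMinSimpleOddOrder G) (hU : BG10.UniqStmt G) {M : Subgroup G}
    (hM : IsCoatom M) (hHall : IsPiHallOf (alpha M) (alphaCore M) M)
    (X : Subgroup G) (hXM : X ≤ M)
    (hXα : ∀ q : ℕ, q.Prime → q ∣ Nat.card X → q ∉ alpha M)
    (hr : ¬ RankLE 1 ↥(alphaCore M ⊓ centralizer (X : Set G))) :
    InUniqueMaximal (M ⊓ centralizer (X : Set G)) := by
  set Mα := alphaCore M with hMα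
  set K := M ⊓ centralizer (X : Set G) with hK
  have hKM : K ≤ M := inf_le_left
  have hKtop : K ≠ ⊤ := fun h => hM.1 (top_le_iff.mp (h ▸ hKM))
  obtain ⟨hMαM, hMαπ, hMαi⟩ := hHall
  -- the prime `q` and the subgroup `B`
  set D := Mα ⊓ centralizer (X : Set G) with hD
  unfold RankLE at hr
  push Not at hr
  obtain ⟨q, hq, hrq⟩ := hr
  haveI : Fact q.Prime := ⟨hq⟩
  obtain ⟨B₀, hB₀, hB₀c⟩ := BG10.exists_of_not_pRankLE' hrq
  set B : Subgroup G := B₀.map D.subtype with hB
  have hBD : B ≤ D := map_subtype_le _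
  have hBMα : B ≤ Mα := hBD.trans inf_le_left
  have hBX : B ≤ centralizer (X : Set G) := hBD.trans inf_le_right
  have hBM : B ≤ M := hBMα.trans hMαM
  have hBK : B ≤ K := le_inf hBM hBX
  have hBc : ∀ x ∈ B, ∀ y ∈ B, x * y = y * x := by
    rintro _ ⟨x, hx, rfl⟩ _ ⟨y, hy, rfl⟩
    have := hB₀.1.is_comm.comm ⟨x, hx⟩ ⟨y, hy⟩
    have h2 := congrArg (fun w : ↥B₀ => ((w : D) : G)) this
    simpa using h2
  have hBe : ∀ x ∈ B, x ^ q = 1 := by
    rintro _ ⟨x, hx, rfl⟩
    have := hB₀.2 x hx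
    simpa using congrArg (fun w : ↥D => (w : G)) this
  have hBcard : q ^ 1 < Nat.card B := by
    rw [hB, card_map_of_injective D.subtype_injective]; exact hB₀c
  have hBq : IsPGroup q B := fun b =>
    ⟨1, by rw [pow_one]; exact Subtype.ext (by simpa using hBe b.1 b.2)⟩
  -- `q ∈ α(M)`
  have hqα : q ∈ alpha M := by
    apply hMαπ q hq
    obtain ⟨k, hk⟩ := IsPGroup.iff_card.mp hBq
    have hk0 : k ≠ 0 := by
      rintro rfl
      rw [pow_zero] at hk
      rw [hk, pow_one] at hBcard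
      have := hq.one_lt
      omega
    have : q ∣ Nat.card B := by rw [hk]; exact dvd_pow_self q hk0
    exact this.trans (Subgroup.card_dvd_of_le hBMα)
  have hcop : (Nat.card X).Coprime (Nat.card Mα) :=
    Nat.coprime_of_dvd (fun r hr hrX hrM => hXα r hr hrX (hMαπ r hr hrM))
  have hXN : X ≤ normalizer (Mα : Set G) := hXM.trans (le_normalizer_alphaCore M)
  have hXtop : X ≠ ⊤ := fun h => hM.1 (top_le_iff.mp (h ▸ hXM))
  have hXsolv : Group.IsSolvable X := Cfsg.Agent.Lib.Helper23.isSolvable_of_ne_top hG hXtop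
  have hXcB : X ≤ centralizer (B : Set G) := le_centralizer_iff.mp hBX
  have hXB : X ≤ normalizer (B : Set G) := hXcB.trans (centralizer_le_normalizer _)
  obtain ⟨P, hBP, hXP⟩ :=
    invariant_pSubgroup_le_sylow X Mα hXN hcop (Or.inl hXsolv) B hBMα hBq hXB
  obtain ⟨hP₀Mα, hP₀q, hP₀i⟩ := sylow_map_facts Mα P
  set P₀ := (P : Subgroup Mα).map Mα.subtype with hP₀
  have hP₀M : P₀ ≤ M := hP₀Mα.trans hMαM
  by_cases hc : P₀ ≤ centralizer (X : Set G)
  · -- `X` centralizes `P₀`
    have hP₀K : P₀ ≤ K := le_inf hP₀M hc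
    have hidx : ¬ q ∣ P₀.relIndex M := by
      rw [← Subgroup.relIndex_mul_relIndex P₀ Mα M hP₀Mα hMαM]
      intro h
      rcases (Nat.Prime.dvd_mul hq).mp h with h | h
      · exact hP₀i h
      · exact hMαi q hq hqα h
    obtain ⟨P', hP'⟩ := exists_sylow_map_eq M P₀ hP₀M hP₀q hidx
    have h3 : ¬ PRankLE q 2 ↥(P' : Subgroup M) := fun h => hqα.2 (BG10.pRankLE_of_sylow q P' h)
    obtain ⟨E, hE, hEc⟩ := BG10.exists_of_not_pRankLE' h3
    set E' : Subgroup G := (E.map (P' : Subgroup M).subtype).map M.subtype with hE'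
    have hE'P₀ : E' ≤ P₀ := by
      rw [← hP']
      exact map_mono (map_subtype_le _)
    have hE'ea : IsElementaryAbelian q E' := BG10.map_elemAb _ (BG10.map_elemAb _ hE)
    have hE'c : ∀ x ∈ E', ∀ y ∈ E', x * y = y * x := by
      intro x hx y hy
      have := hE'ea.1.is_comm.comm ⟨x, hx⟩ ⟨y, hy⟩
      exact congrArg Subtype.val this
    have hE'card : q ^ 2 < Nat.card E' := by
      rw [hE', card_map_of_injective M.subtype_injective,
        card_map_of_injective (Subgroup.subtype_injective _)]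
      exact hEc
    have h2K : ¬ PRankLE q 2 ↥K :=
      not_pRankLE_of_le (hE'P₀.trans hP₀K) hE'c hE'ea.2 hE'card
    have hK2 : ¬ RankLE 2 ↥K := fun h => h2K (h q hq)
    have hK1 : ¬ RankLE 1 ↥K := fun h => not_pRankLE_of_le hBK hBc hBe hBcard (h q hq)
    exact hU K hKtop hK1 (Or.inl hK2)
  · -- `X` does not centralize `P₀`
    set Y := P₀ ⊓ centralizer (X : Set G) with hY
    have hqX : (Nat.card X).Coprime q := by
      rw [Nat.coprime_comm]
      exact (Nat.Prime.coprime_iff_not_dvd hq).mpr (fun h => hXα q hq h hqα)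
    have hYq : IsPGroup q Y := hP₀q.to_le inf_le_left
    have hYX : Y ≤ centralizer (X : Set G) := inf_le_right
    have hYP₀ : Y ≤ normalizer (P₀ : Set G) := inf_le_left.trans le_normalizer
    have hnot : ¬ (P₀ ⊓ centralizer (Y : Set G) ≤ centralizer (X : Set G)) := by
      intro h
      apply hc
      have := thompson_PxQ Y X P₀ hYq hqX hP₀q hYX hYP₀ hXP h
      exact le_centralizer_iff.mp this
    set D' := P₀ ⊓ centralizer (Y : Set G) with hD'
    have hD'q : IsPGroup q D' := hP₀q.to_le inf_le_left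
    have hXcX : X ≤ normalizer ((centralizer (X : Set G) : Subgroup G) : Set G) :=
      fun x hx => mem_normalizer_centralizer_of_mem (le_normalizer hx)
    have hXY : X ≤ normalizer (Y : Set G) := fun x hx =>
      Cfsg.Agent.Lib.Helper32.mem_normalizer_inf' (hXP hx) (hXcX hx)
    have hXD' : X ≤ normalizer (D' : Set G) := fun x hx =>
      Cfsg.Agent.Lib.Helper32.mem_normalizer_inf' (hXP hx)
        (mem_normalizer_centralizer_of_mem (hXY hx))
    have hqG : q ∣ Nat.card G := by
      obtain ⟨k, hk⟩ := IsPGroup.iff_card.mp hBq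
      have hk0 : k ≠ 0 := by
        rintro rfl
        rw [pow_zero] at hk
        rw [hk, pow_one] at hBcard
        have := hq.one_lt
        omega
      have : q ∣ Nat.card B := by rw [hk]; exact dvd_pow_self q hk0
      exact this.trans (Subgroup.card_subgroup_dvd_card B)
    have hq2 : q ≠ 2 := BG10.ne_two_of_dvd hG hqG
    have hex : ∃ s ∈ D', orderOf s = q ∧ ¬ X ≤ centralizer ({s} : Set G) := by
      by_contra hcon
      push Not at hcon
      apply hnot
      have := omega1_centralizer hq2 X D' hqX hD'q hXD' (fun x hx hxo => hcon x hx hxo)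
      exact le_centralizer_iff.mp this
    obtain ⟨s, hsD', hsq, hsX⟩ := hex
    have hBY : B ≤ Y := le_inf hBP hBX
    have hsc : ∀ b ∈ B, b * s = s * b := by
      intro b hb
      exact (mem_centralizer_iff.mp hsD'.2) b (hBY hb)
    have hsB : s ∉ B := by
      intro h
      apply hsX
      intro x hx
      rw [mem_centralizer_singleton_iff]
      exact ((mem_centralizer_iff.mp (hBX h)) x hx)
    have hCB : ¬ PRankLE q 2 ↥(centralizer (B : Set G)) :=
      not_pRankLE_two_centralizer hBc hBe hBcard hsq hsB hsc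
    have hB1 : ¬ RankLE 1 ↥B := fun h => not_pRankLE_of_le le_rfl hBc hBe hBcard (h q hq)
    have hBtop : B ≠ ⊤ := fun h => hM.1 (top_le_iff.mp (h ▸ hBM))
    have hBU : InUniqueMaximal B := hU B hBtop hB1 (Or.inr (fun h => hCB (h q hq)))
    exact Cfsg.Agent.Lib.Helper32.BG95.unique_mono hBU hBK hKtop

end Cfsg.Agent.Lib.Helper96.BG103
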