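import Mathlib
import Cfsg.Agent.Lib.Helper3.CharOps
import Cfsg.Agent.Lib.Helper3.Induced
import Cfsg.Agent.Lib.Helper25.Ind
import Cfsg.Agent.Lib.Helper80.Kernel
import Cfsg.Agent.Lib.Helper80.Conv
import Cfsg.Agent.Lib.Helper35.FrobeniusCount
import Cfsg.Agent.Lib.Helper79.Classes

set_option autoImplicit false
set_option linter.style.haveILetI false

/-! Frobenius' theorem: the Frobenius kernel is a normal subgroup complementing `H`. -/

namespace Cfsg.Agent.Lib.Helper96

open Cfsg
open scoped ComplexConjugate Pointwise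

section Generalized

variable {G : Type*} [Group G] [Fintype G]

/-- A difference of two characters of norm one with positive degree is an irreducible character. -/
theorem isIrrCharacter_of_sub {α β : G → ℂ}
    (hα : IsCharacter G α) (hβ : IsCharacter G β)
    (h : classInner (α - β) (α - β) = 1) {d : ℕ} (hd : 0 < d) (h1 : (α - β) 1 = (d : ℂ)) :
    IsIrrCharacter G (α - β) := by
  classical
  have := Fintype.ofFinite (IrrCharacter G)
  obtain ⟨ma, hma, hsa⟩ := Helper3.IsCharacter.exists_mult hα
  obtain ⟨mb, hmb, hsb⟩ := Helper3.IsCharacter.exists_mult hβ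
  set c : IrrCharacter G → ℤ := fun ψ => (ma ψ : ℤ) - (mb ψ : ℤ) with hc
  have hsum : α - β = ∑ ψ : IrrCharacter G, ((c ψ : ℤ) : ℂ) • (ψ : G → ℂ) := by
    have e1 : α - β = (∑ ψ : IrrCharacter G, (ma ψ : ℂ) • (ψ : G → ℂ)) -
        (∑ ψ : IrrCharacter G, (mb ψ : ℂ) • (ψ : G → ℂ)) := by
      rw [← hsa, ← hsb]
    rw [e1, ← Finset.sum_sub_distrib]
    apply Finset.sum_congr rfl
    intro ψ _
    rw [← sub_smul]
    congr 1
    simp [hc]
  have h2 : classInner (α - β) (α - β) =
      ∑ ψ : IrrCharacter G, ((c ψ : ℤ) : ℂ) * conj ((c ψ : ℤ) : ℂ) := by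
    conv_lhs => rw [hsum]
    exact Helper3.classInner_sum_sum _ _
  rw [h] at h2
  have h3 : (1 : ℤ) = ∑ ψ : IrrCharacter G, c ψ * c ψ := by
    have : (1 : ℂ) = ((∑ ψ : IrrCharacter G, c ψ * c ψ : ℤ) : ℂ) := by
      rw [h2]
      push_cast
      apply Finset.sum_congr rfl
      intro ψ _
      rw [map_intCast]
    exact_mod_cast this
  have h4 : ∃ ψ₀ : IrrCharacter G, c ψ₀ ≠ 0 := by
    by_contra hcon
    push Not at hcon
    simp [hcon] at h3
  obtain ⟨ψ₀, hψ₀⟩ := h4
  have hpos : ∀ ψ : IrrCharacter G, c ψ ≠ 0 → 1 ≤ c ψ * c ψ := by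
    intro ψ hψ
    have : 0 < c ψ * c ψ := mul_self_pos.mpr hψ
    omega
  have h5 : ∀ ψ : IrrCharacter G, ψ ≠ ψ₀ → c ψ = 0 := by
    intro ψ hψ
    by_contra hne
    have h6 : c ψ₀ * c ψ₀ + c ψ * c ψ ≤ ∑ φ : IrrCharacter G, c φ * c φ := by
      have hsub : ({ψ₀, ψ} : Finset (IrrCharacter G)) ⊆ Finset.univ := Finset.subset_univ _
      have h7 := Finset.sum_le_sum_of_subset_of_nonneg (f := fun φ : IrrCharacter G => c φ * c φ)
        hsub (fun i _ _ => mul_self_nonneg (c i))
      rw [Finset.sum_pair (Ne.symm hψ)] at h7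
      exact h7
    have := hpos ψ₀ hψ₀
    have := hpos ψ hne
    omega
  have h6 : c ψ₀ * c ψ₀ = 1 := by
    have h7 : ∑ φ : IrrCharacter G, c φ * c φ = c ψ₀ * c ψ₀ := by
      rw [Finset.sum_eq_single ψ₀]
      · intro φ _ hφ
        simp [h5 φ hφ]
      · intro h
        exact absurd (Finset.mem_univ _) h
    rw [h7] at h3
    exact h3.symm
  have h7 : α - β = ((c ψ₀ : ℤ) : ℂ) • (ψ₀ : G → ℂ) := by
    rw [hsum, Finset.sum_eq_single ψ₀]
    · intro φ _ hφ
      rw [h5 φ hφ]
      simp
    · intro h
      exact absurd (Finset.mem_univ _) h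
  obtain ⟨n, hn, hn1⟩ := Helper80.irr_one_eq_natCast ψ₀
  rcases mul_self_eq_one_iff.mp h6 with h8 | h8
  · rw [h7, h8]
    simp only [Int.cast_one, one_smul]
    exact ψ₀.2
  · exfalso
    have h9 := congrFun h7 1
    rw [h1, h8] at h9
    simp only [Int.reduceNeg, Int.cast_neg, Int.cast_one, Pi.smul_apply, smul_eq_mul, neg_mul,
      one_mul] at h9
    rw [hn1] at h9
    have h10 : ((d + n : ℕ) : ℂ) = 0 := by
      push_cast
      rw [h9]; ring
    have h11 : d + n = 0 := by exact_mod_cast h10
    omega

end Generalized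

section IndFrob

variable {G : Type*} [Group G] [Fintype G]

/-- the induced function of `φ` with `φ 1 = 0` vanishes on the Frobenius kernel -/
theorem indFun_eq_zero_of_mem_frobeniusKernel (H : Subgroup G) (φ : H → ℂ) (h1 : φ 1 = 0)
    {x : G} (hx : x ∈ Cfsg.frobeniusKernel H) : indFun H φ x = 0 := by
  rw [Helper25.indFun_apply]
  have : ∀ y : G, extendByZero H φ (y⁻¹ * x * y) = 0 := by
    intro y
    rcases hx with hx | hx
    · subst hx
      have e : y⁻¹ * 1 * y = ((1 : H) : G) := by simp
      rw [e, Helper25.extendByZero_coe, h1]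
    · apply Helper25.extendByZero_of_not_mem
      intro hmem
      apply hx y
      rw [Helper35.mem_conj_smul]
      exact hmem
  simp [this]

/-- for a Frobenius complement `H` and a class function `φ` on `H` with `φ 1 = 0`, the induced
function restricts to `φ` on `H` -/
theorem indFun_restrict_of_frobenius (H : Subgroup G) [Fintype H]
    (hH : Cfsg.IsFrobeniusComplement H)
    (φ : H → ℂ) (hφ : IsClassFunction H φ) (h1 : φ 1 = 0) (h : H) :
    indFun H φ (h : G) = φ h := by
  by_cases hh : h = 1
  · subst hh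
    rw [h1]
    apply indFun_eq_zero_of_mem_frobeniusKernel H φ h1
    left; rfl
  · rw [Helper25.indFun_apply]
    have hne : (h : G) ≠ 1 := fun e => hh (Subtype.ext e)
    have key : ∀ y : G, extendByZero H φ (y⁻¹ * (h : G) * y) =
        extendByZero H (fun _ : H => φ h) y := by
      intro y
      by_cases hy : y ∈ H
      · rw [Helper25.extendByZero_of_mem H _ hy]
        have hmem : y⁻¹ * (h : G) * y ∈ H := H.mul_mem (H.mul_mem (H.inv_mem hy) h.2) hy
        rw [Helper25.extendByZero_of_mem H _ hmem]
        have := hφ h (⟨y, hy⟩⁻¹ : H)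
        rw [← this]
        congr 1
        apply Subtype.ext
        simp
      · rw [Helper25.extendByZero_of_not_mem H _ hy]
        apply Helper25.extendByZero_of_not_mem
        intro hmem
        apply hy
        -- h ∈ H ⊓ conj y • H
        refine Helper35.mem_of_mem_inf_conj hH hne h.2 ?_
        rw [Helper35.mem_conj_smul]
        exact hmem
    simp only [key]
    rw [Helper25.sum_extendByZero]
    simp only [Finset.sum_const, Finset.card_univ, nsmul_eq_mul]
    rw [← Nat.card_eq_fintype_card]
    have hc : (Nat.card H : ℂ) ≠ 0 := Helper25.card_ne_zero_complex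
    field_simp

end IndFrob

section Extend

variable {G : Type*} [Group G] [Fintype G]

/-- the extension to `G` of a nontrivial irreducible character of a Frobenius complement -/
noncomputable def frobExt (H : Subgroup G) (ψ : H → ℂ) : G → ℂ :=
  fun g => indFun H (fun h => ψ h - ψ 1) g + ψ 1

theorem frobExt_apply_of_mem_kernel (H : Subgroup G) (ψ : H → ℂ) {x : G}
    (hx : x ∈ Cfsg.frobeniusKernel H) : frobExt H ψ x = ψ 1 := by
  unfold frobExt
  rw [indFun_eq_zero_of_mem_frobeniusKernel H _ (by simp) hx, zero_add]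

theorem frobExt_apply_one (H : Subgroup G) (ψ : H → ℂ) : frobExt H ψ 1 = ψ 1 :=
  frobExt_apply_of_mem_kernel H ψ (Or.inl rfl)

theorem frobExt_apply_coe (H : Subgroup G) [Fintype H] (hH : Cfsg.IsFrobeniusComplement H)
    (ψ : H → ℂ) (hψ : IsClassFunction H ψ) (h : H) : frobExt H ψ (h : G) = ψ h := by
  unfold frobExt
  rw [indFun_restrict_of_frobenius H hH _ _ (by simp) h]
  · ring
  · intro g k
    simp only [hψ g k]

theorem frobExt_isIrrCharacter (H : Subgroup G) [Fintype H] (hH : Cfsg.IsFrobeniusComplement H)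
    (ψ : H → ℂ) (hψ : IsIrrCharacter H ψ) (hne : ψ ≠ fun _ => 1) :
    IsIrrCharacter G (frobExt H ψ) := by
  obtain ⟨d, hd, hD⟩ := Helper80.irr_one_eq_natCast (⟨ψ, hψ⟩ : IrrCharacter H)
  change ψ 1 = (d : ℂ) at hD
  set D : ℂ := (d : ℂ) with hDdef
  have hDconj : conj D = D := by rw [hDdef, Complex.conj_natCast]
  set oneH : H → ℂ := fun _ => 1 with honeH
  set oneG : G → ℂ := fun _ => 1 with honeG
  have h1irrH : IsIrrCharacter H oneH := (Helper80.trivIrr H).2
  have h1irrG : IsIrrCharacter G oneG := (Helper80.trivIrr G).2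
  set φ : H → ℂ := fun h => ψ h - ψ 1 with hφ
  have hφdef : φ = ψ - D • oneH := by
    funext h
    simp [hφ, honeH, hD]
  have hψcls : IsClassFunction H ψ := Helper3.IsCharacter.isClassFunction (Helper3.IsIrrCharacter.isCharacter hψ)
  have hφcls : IsClassFunction H φ := by
    intro g k
    simp only [hφ, hψcls g k]
  set I : G → ℂ := indFun H φ with hI
  have hIcls : IsClassFunction G I := Helper25.indFun_isClassFunction H φ
  have hIres : (fun h : H => I h) = φ := by
    funext h
    exact indFun_restrict_of_frobenius H hH φ hφcls (by simp [hφ]) h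
  -- inner products on H
  have e1 : classInner ψ ψ = 1 := by rw [Helper3.classInner_irr hψ hψ, if_pos rfl]
  have e2 : classInner ψ oneH = 0 := by rw [Helper3.classInner_irr hψ h1irrH, if_neg hne]
  have e3 : classInner oneH ψ = 0 := by
    rw [Helper3.classInner_irr h1irrH hψ, if_neg (Ne.symm hne)]
  have e4 : classInner oneH oneH = 1 := by rw [Helper3.classInner_irr h1irrH h1irrH, if_pos rfl]
  have e5 : classInner oneG oneG = 1 := by rw [Helper3.classInner_irr h1irrG h1irrG, if_pos rfl]
  have f1 : classInner φ φ = 1 + D * D := by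
    rw [hφdef]
    simp only [Helper25.classInner_sub_left, Helper25.classInner_sub_right,
      Helper25.classInner_smul_left, Helper25.classInner_smul_right, e1, e2, e3, e4, hDconj]
    ring
  have f2 : classInner φ oneH = -D := by
    rw [hφdef]
    simp only [Helper25.classInner_sub_left, Helper25.classInner_smul_left, e2, e4]
    ring
  have f3 : classInner oneH φ = -D := by
    rw [hφdef]
    simp only [Helper25.classInner_sub_right, Helper25.classInner_smul_right, e3, e4, hDconj]
    ring
  have honeGcls : IsClassFunction G oneG := fun _ _ => rfl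
  have g1 : classInner I I = 1 + D * D := by
    rw [hI, Helper25.frobenius_reciprocity H φ (indFun H φ) hIcls]
    rw [← hI, hIres, f1]
  have g2 : classInner I oneG = -D := by
    rw [hI, Helper25.frobenius_reciprocity H φ oneG honeGcls]
    exact f2
  have g3 : classInner oneG I = -D := by
    rw [hI, Helper25.frobenius_reciprocity' H φ oneG honeGcls]
    exact f3
  -- the two characters
  set α : G → ℂ := indFun H ψ + D • oneG with hα
  set β : G → ℂ := D • indFun H oneH with hβ
  have hαc : IsCharacter G α := by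
    rw [hα, hDdef]
    exact Helper3.IsCharacter.add (Helper3.isCharacter_indFun H (Helper3.IsIrrCharacter.isCharacter hψ))
      (Helper3.IsCharacter.nsmul Helper3.IsCharacter.one d)
  have hβc : IsCharacter G β := by
    rw [hβ, hDdef]
    exact Helper3.IsCharacter.nsmul (Helper3.isCharacter_indFun H Helper3.IsCharacter.one) d
  have hsub : α - β = I + D • oneG := by
    rw [hα, hβ, hI, hφdef, Helper25.indFun_sub, Helper25.indFun_smul]
    abel
  have hext : frobExt H ψ = α - β := by
    rw [hsub]
    funext g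
    simp [frobExt, hI, hφ, honeG, hD]
  rw [hext]
  refine isIrrCharacter_of_sub hαc hβc ?_ hd ?_
  · rw [hsub]
    simp only [Helper25.classInner_add_left, Helper25.classInner_add_right,
      Helper25.classInner_smul_left, Helper25.classInner_smul_right, g1, g2, g3, e5, hDconj]
    ring
  · rw [← hext, frobExt_apply_one, hD]

end Extend

section Main

variable {G : Type*} [Group G] [Finite G]

/-- **Frobenius' theorem**: the Frobenius kernel is (the carrier of) a normal subgroup which
complements `H`. -/
theorem frobenius_kernel_subgroup (H : Subgroup G) (hH : Cfsg.IsFrobeniusComplement H) :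
    ∃ N : Subgroup G, (N : Set G) = Cfsg.frobeniusKernel H ∧ N.Normal ∧
      Subgroup.IsComplement' N H := by
  classical
  have := Fintype.ofFinite G
  have := Fintype.ofFinite H
  let N : Subgroup G :=
    ⨅ M : {M : Subgroup G // M.Normal ∧ Cfsg.frobeniusKernel H ⊆ (M : Set G)}, M.1
  have hNn : N.Normal := Subgroup.normal_iInf_normal (fun M => M.2.1)
  have hKN : Cfsg.frobeniusKernel H ⊆ (N : Set G) := by
    intro x hx
    rw [SetLike.mem_coe, Subgroup.mem_iInf]
    intro M
    exact M.2.2 hx
  have hNK : (N : Set G) ⊆ Cfsg.frobeniusKernel H := by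
    intro x hx
    by_cases hx1 : x = 1
    · left; exact hx1
    right
    intro g hxg
    rw [Helper35.mem_conj_smul] at hxg
    have hhN : g⁻¹ * x * g ∈ N := by
      have := hNn.conj_mem x hx g⁻¹
      simpa using this
    have hall : ∀ ψ : IrrCharacter H,
        (ψ : H → ℂ) ⟨g⁻¹ * x * g, hxg⟩ = (ψ : H → ℂ) 1 := by
      intro ψ
      by_cases hψ1 : (ψ : H → ℂ) = fun _ => 1
      · rw [hψ1]
      · have hirr := frobExt_isIrrCharacter H hH ψ.1 ψ.2 hψ1
        obtain ⟨M, hMn, hM, _⟩ :=
          Helper80.irr_exists_ker (⟨frobExt H ψ.1, hirr⟩ : IrrCharacter G)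
        have hKM : Cfsg.frobeniusKernel H ⊆ (M : Set G) := by
          intro y hy
          rw [SetLike.mem_coe, hM]
          change frobExt H ψ.1 y = frobExt H ψ.1 1
          rw [frobExt_apply_of_mem_kernel H ψ.1 hy, frobExt_apply_one]
        have hNM : N ≤ M :=
          iInf_le (fun M : {M : Subgroup G // M.Normal ∧
            Cfsg.frobeniusKernel H ⊆ (M : Set G)} => M.1) ⟨M, hMn, hKM⟩
        have h1 := (hM _).mp (hNM hhN)
        change frobExt H ψ.1 (g⁻¹ * x * g) = frobExt H ψ.1 1 at h1
        rw [frobExt_apply_one] at h1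
        have h2 := frobExt_apply_coe H hH ψ.1
          (Helper3.IsCharacter.isClassFunction (Helper3.IsIrrCharacter.isCharacter ψ.2))
          ⟨g⁻¹ * x * g, hxg⟩
        rw [← h2]; exact h1
    have hconj := Helper79.isConj_of_forall_irr_eq hall
    have h3 : (⟨g⁻¹ * x * g, hxg⟩ : H) = 1 := isConj_one_left.mp hconj
    apply hx1
    have h4 : g⁻¹ * x * g = 1 := congrArg Subtype.val h3
    calc x = g * (g⁻¹ * x * g) * g⁻¹ := by group
      _ = 1 := by rw [h4]; group
  have hNeq : (N : Set G) = Cfsg.frobeniusKernel H := Set.Subset.antisymm hNK hKN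
  refine ⟨N, hNeq, hNn, ?_⟩
  apply Subgroup.isComplement'_of_card_mul_and_disjoint
  · have h1 : Nat.card N = H.index := by
      rw [← Helper35.card_frobeniusKernel hH, ← hNeq]
      rfl
    rw [h1, mul_comm]
    exact Subgroup.card_mul_index H
  · rw [disjoint_iff, eq_bot_iff]
    rintro x ⟨hxN, hxH⟩
    rcases hNK hxN with h | h
    · exact h
    · exfalso
      apply h 1
      simpa using hxH

end Main

end Cfsg.Agent.Lib.Helper96
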