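import Mathlib
import Cfsg.Agent.Lib.Helper96.FrobeniusThm

set_option autoImplicit false
set_option linter.style.haveILetI false

/-! A Frobenius group acting on an abelian group: if the kernel has no fixed points (and coprime
order), then the complement has a nontrivial fixed point.  (The "norm/product trick".) -/

namespace Cfsg.Agent.Lib.Helper96

open Cfsg
open scoped Pointwise

section Abstract

variable {F : Type*} [Group F] [Fintype F] {A : Type*} [CommGroup A]

/-- the norm of `a` with respect to a subgroup `S` -/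
noncomputable def nrm (c : F →* MulAut A) (S : Subgroup F) [Fintype S] (a : A) : A :=
  ∏ s : S, c (s : F) a

theorem nrm_fixed (c : F →* MulAut A) (S : Subgroup F) [Fintype S] (a : A) {t : F} (ht : t ∈ S) :
    c t (nrm c S a) = nrm c S a := by
  unfold nrm
  rw [map_prod]
  apply Fintype.prod_equiv (Equiv.mulLeft (⟨t, ht⟩ : S))
  intro s
  simp [map_mul]

theorem total_fixed (c : F →* MulAut A) (a : A) (t : F) :
    c t (∏ f : F, c f a) = ∏ f : F, c f a := by
  rw [map_prod]
  apply Fintype.prod_equiv (Equiv.mulLeft t)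
  intro s
  simp [map_mul]

/-- the product trick -/
theorem exists_fixed_of_frobenius [Finite A] (c : F →* MulAut A) (H N : Subgroup F)
    (hH : Cfsg.IsFrobeniusComplement H) (hN : (N : Set F) = Cfsg.frobeniusKernel H)
    (hcop : (Nat.card A).Coprime (Nat.card N))
    (hfix : ∀ a : A, (∀ n ∈ N, c n a = a) → a = 1) (hA : ∃ a : A, a ≠ 1) :
    ∃ a : A, a ≠ 1 ∧ ∀ h ∈ H, c h a = a := by
  classical
  by_contra hcon
  push Not at hcon
  have hHfix : ∀ a : A, (∀ h ∈ H, c h a = a) → a = 1 := by
    intro a ha
    by_contra hne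
    obtain ⟨h, hh, hha⟩ := hcon a hne
    exact hha (ha h hh)
  obtain ⟨a, ha⟩ := hA
  apply ha
  -- total product is trivial
  have htot : ∏ f : F, c f a = 1 := hfix _ (fun n _ => total_fixed c a n)
  have hnN : nrm c N a = 1 := hfix _ (fun n hn => nrm_fixed c N a hn)
  have hnH : ∀ b : A, nrm c H b = 1 := fun b => hHfix _ (fun h hh => nrm_fixed c H b hh)
  -- conjugates of H
  have hconj : ∀ g : F, ∏ h : H, c (g * (h : F) * g⁻¹) a = 1 := by
    intro g
    have h1 : ∀ h : H, c (g * (h : F) * g⁻¹) a = c g (c (h : F) (c g⁻¹ a)) := by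
      intro h
      simp [map_mul]
    simp only [h1]
    rw [← map_prod]
    have := hnH (c g⁻¹ a)
    unfold nrm at this
    rw [this, map_one]
  have hconj' : ∀ g : F, ∏ h : {h : H // h ≠ 1}, c (g * ((h : H) : F) * g⁻¹) a = a⁻¹ := by
    intro g
    have h1 := hconj g
    rw [← Finset.mul_prod_erase Finset.univ (fun h : H => c (g * (h : F) * g⁻¹) a)
      (Finset.mem_univ (1 : H))] at h1
    have h2 : ∏ h : {h : H // h ≠ 1}, c (g * ((h : H) : F) * g⁻¹) a =
        ∏ h ∈ (Finset.univ : Finset H).erase 1, c (g * (h : F) * g⁻¹) a := by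
      rw [Finset.prod_subtype ((Finset.univ : Finset H).erase 1) (p := fun h => h ≠ 1)
        (by intro x; simp)]
    rw [h2]
    have h3 : c (g * ((1 : H) : F) * g⁻¹) a = a := by simp
    rw [h3] at h1
    exact eq_inv_of_mul_eq_one_right h1
  -- split the total product
  have hsplit := Finset.prod_filter_mul_prod_filter_not (Finset.univ : Finset F) (fun f => f ∈ N)
    (fun f => c f a)
  rw [htot] at hsplit
  have h1 : ∏ f ∈ (Finset.univ : Finset F).filter (fun f => f ∈ N), c f a = nrm c N a := by
    unfold nrm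
    rw [Finset.prod_subtype ((Finset.univ : Finset F).filter (fun f => f ∈ N))
      (p := fun f => f ∈ N) (by intro x; simp)]
  have h2 : (Finset.univ : Finset F).filter (fun f => ¬ f ∈ N) =
      (Finset.univ : Finset ((F ⧸ H) × {h : H // h ≠ 1})).image (Helper35.conjParam H) := by
    ext f
    simp only [Finset.mem_filter, Finset.mem_univ, true_and, Finset.mem_image]
    have : f ∈ N ↔ f ∈ Cfsg.frobeniusKernel H := by rw [← hN]; rfl
    rw [this, Helper35.frobeniusKernel_eq_compl, Set.mem_compl_iff, not_not,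
      ← Helper35.range_conjParam]
    rfl
  have h3 : ∏ f ∈ (Finset.univ : Finset F).filter (fun f => ¬ f ∈ N), c f a =
      (a⁻¹) ^ (Fintype.card (F ⧸ H)) := by
    rw [h2, Finset.prod_image (fun x _ y _ hxy => Helper35.conjParam_injective hH hxy),
      Fintype.prod_prod_type]
    have : ∀ q : F ⧸ H, ∏ h : {h : H // h ≠ 1}, c (Helper35.conjParam H (q, h)) a = a⁻¹ := by
      intro q
      exact hconj' q.out
    simp only [this, Finset.prod_const, Finset.card_univ]
  rw [h1, h3, hnN, one_mul] at hsplit
  -- a ^ index = 1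
  have hidx : a ^ H.index = 1 := by
    rw [Subgroup.index_eq_card, Nat.card_eq_fintype_card]
    rw [inv_pow, inv_eq_one] at hsplit
    exact hsplit
  have hNcard : Nat.card N = H.index := by
    rw [← Helper35.card_frobeniusKernel hH, ← hN]
    rfl
  rw [← orderOf_eq_one_iff]
  have hd1 : orderOf a ∣ H.index := orderOf_dvd_of_pow_eq_one hidx
  have hd2 : orderOf a ∣ Nat.card A := orderOf_dvd_natCard a
  rw [hNcard] at hcop
  exact Nat.eq_one_of_dvd_coprimes hcop hd2 hd1

end Abstract

end Cfsg.Agent.Lib.Helper96
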