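import Mathlib
import Cfsg.Agent.S0046

set_option autoImplicit false
set_option linter.style.haveILetI false
open scoped commutatorElement

/-! Structure of minimal non-nilpotent groups (Schmidt), on top of S0046 (solvability). -/

namespace Cfsg.Agent.Lib.Helper96

variable {G : Type*} [Group G]

/-- in a finite nilpotent group, a `p`-element and a `q`-element commute (`p ≠ q`) -/
theorem commute_of_isNilpotent [Finite G] (hn : Group.IsNilpotent G) {p q : ℕ}
    [hp : Fact p.Prime] [hq : Fact q.Prime]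
    (hpq : p ≠ q) {x y : G} {k l : ℕ} (hx : x ^ p ^ k = 1) (hy : y ^ q ^ l = 1) :
    Commute x y := by
  have h3 : ∀ (p : ℕ) (_ : Fact p.Prime) (P : Sylow p G), (P : Subgroup G).Normal :=
    ((Group.isNilpotent_of_finite_tfae (G := G)).out 0 3).mp hn
  have hxp : IsPGroup p (Subgroup.zpowers x) := by
    rintro ⟨g, hg⟩
    obtain ⟨n, rfl⟩ := Subgroup.mem_zpowers_iff.mp hg
    refine ⟨k, Subtype.ext ?_⟩
    change (x ^ n) ^ p ^ k = 1
    rw [← zpow_natCast, ← zpow_mul, mul_comm, zpow_mul, zpow_natCast, hx, one_zpow]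
  have hyq : IsPGroup q (Subgroup.zpowers y) := by
    rintro ⟨g, hg⟩
    obtain ⟨n, rfl⟩ := Subgroup.mem_zpowers_iff.mp hg
    refine ⟨l, Subtype.ext ?_⟩
    change (y ^ n) ^ q ^ l = 1
    rw [← zpow_natCast, ← zpow_mul, mul_comm, zpow_mul, zpow_natCast, hy, one_zpow]
  obtain ⟨P, hP⟩ := hxp.exists_le_sylow
  obtain ⟨Q, hQ⟩ := hyq.exists_le_sylow
  exact Subgroup.commute_of_normal_of_disjoint _ _ (h3 p hp P) (h3 q hq Q)
    (IsPGroup.disjoint_of_ne p q hpq _ _ P.2 Q.2) x y (hP (Subgroup.mem_zpowers x))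
    (hQ (Subgroup.mem_zpowers y))

/-- subgroup version -/
theorem commute_of_isNilpotent_subgroup [Finite G] (H : Subgroup G) (hn : Group.IsNilpotent H)
    {p q : ℕ} [hp : Fact p.Prime] [hq : Fact q.Prime]
    (hpq : p ≠ q) {x y : G} (hxH : x ∈ H) (hyH : y ∈ H) {k l : ℕ}
    (hx : x ^ p ^ k = 1) (hy : y ^ q ^ l = 1) :
    Commute x y := by
  have h := commute_of_isNilpotent (G := H) hn hpq (x := ⟨x, hxH⟩) (y := ⟨y, hyH⟩) (k := k) (l := l)
    (Subtype.ext (by simpa using hx)) (Subtype.ext (by simpa using hy))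
  have := congrArg Subtype.val h.eq
  exact (by simpa using this : x * y = y * x)

/-- a normal coatom has prime index -/
theorem index_prime_of_isCoatom_of_normal [Finite G] (M : Subgroup G) [hMn : M.Normal]
    (hM : IsCoatom M) : M.index.Prime := by
  have hne1 : M.index ≠ 1 := by
    rw [Ne, Subgroup.index_eq_one]; exact hM.1
  obtain ⟨p, hp, hpd⟩ := Nat.exists_prime_and_dvd hne1
  haveI : Fact p.Prime := ⟨hp⟩
  rw [Subgroup.index_eq_card] at hpd
  obtain ⟨g, hg⟩ := exists_prime_orderOf_dvd_card' (G := G ⧸ M) p hpd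
  have hK : M ≤ (Subgroup.zpowers g).comap (QuotientGroup.mk' M) := by
    intro x hx
    rw [Subgroup.mem_comap]
    have : (QuotientGroup.mk' M) x = 1 := by
      rw [← MonoidHom.mem_ker, QuotientGroup.ker_mk']; exact hx
    rw [this]; exact one_mem _
  have hKne : (Subgroup.zpowers g).comap (QuotientGroup.mk' M) ≠ M := by
    intro h
    obtain ⟨x, rfl⟩ := QuotientGroup.mk'_surjective M g
    have hx : x ∈ (Subgroup.zpowers ((QuotientGroup.mk' M) x)).comap (QuotientGroup.mk' M) := by
      rw [Subgroup.mem_comap]; exact Subgroup.mem_zpowers _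
    rw [h] at hx
    have : (QuotientGroup.mk' M) x = 1 := by
      rw [← MonoidHom.mem_ker, QuotientGroup.ker_mk']; exact hx
    rw [this, orderOf_one] at hg
    exact hp.one_lt.ne hg
  have htop := hM.2 _ (lt_of_le_of_ne hK (Ne.symm hKne))
  have hz : Subgroup.zpowers g = ⊤ := by
    rw [eq_top_iff]
    intro y _
    obtain ⟨x, rfl⟩ := QuotientGroup.mk'_surjective M y
    have : x ∈ (Subgroup.zpowers g).comap (QuotientGroup.mk' M) := by rw [htop]; trivial
    exact this
  have hcard : Nat.card (G ⧸ M) = p := by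
    rw [← Nat.card_zpowers] at hg
    rw [← hg, hz, Subgroup.card_top]
  rw [Subgroup.index_eq_card, hcard]; exact hp

/-- A nontrivial finite solvable group has a normal subgroup of prime index, which is a coatom. -/
theorem exists_normal_coatom_of_isSolvable [Finite G] [Nontrivial G] [hs : Group.IsSolvable G] :
    ∃ M : Subgroup G, M.Normal ∧ IsCoatom M ∧ M.index.Prime := by
  have hlt : commutator G < ⊤ := Group.IsSolvable.commutator_lt_top_of_nontrivial (G := G)
  obtain ⟨M, hM, hle⟩ := (eq_top_or_exists_le_coatom (commutator G)).resolve_left hlt.ne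
  have hMn : M.Normal := by
    refine ⟨fun n hn g => ?_⟩
    have h1 : ⁅g, n⁆ ∈ commutator G := by
      rw [commutator_def]
      exact Subgroup.commutator_mem_commutator (Subgroup.mem_top g) (Subgroup.mem_top n)
    have h2 : g * n * g⁻¹ = ⁅g, n⁆ * n := by
      rw [commutatorElement_def]; group
    rw [h2]
    exact M.mul_mem (hle h1) hn
  exact ⟨M, hMn, hM, index_prime_of_isCoatom_of_normal M hM⟩

/-- If `R` is a Sylow `r`-subgroup and `R ≤ K` then `r ∤ K.index`. -/
theorem not_dvd_index_of_sylow_le [Finite G] {r : ℕ} [Fact r.Prime] (R : Sylow r G) (K : Subgroup G)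
    (h : (R : Subgroup G) ≤ K) : ¬ r ∣ K.index := fun hd =>
  R.not_dvd_index (hd.trans (Subgroup.index_dvd_of_le h))

/-- A subgroup containing a Sylow `r`-subgroup for every prime `r` is everything. -/
theorem eq_top_of_forall_sylow_le [Finite G] (K : Subgroup G)
    (h : ∀ (r : ℕ) [Fact r.Prime], ∃ R : Sylow r G, (R : Subgroup G) ≤ K) : K = ⊤ := by
  rw [← Subgroup.index_eq_one]
  by_contra hne
  obtain ⟨r, hr, hrd⟩ := Nat.exists_prime_and_dvd hne
  haveI : Fact r.Prime := ⟨hr⟩
  obtain ⟨R, hR⟩ := h r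
  exact not_dvd_index_of_sylow_le R K hR hrd

/-- The Schmidt structure theorem for minimal non-nilpotent groups. -/
theorem schmidt_structure [Finite G] (hnn : ¬ Group.IsNilpotent G)
    (hmin : ∀ H : Subgroup G, H ≠ ⊤ → Group.IsNilpotent H) :
    ∃ (p q : ℕ) (_ : Fact p.Prime) (_ : Fact q.Prime), p ≠ q ∧ ∃ (P : Sylow p G) (Q : Sylow q G),
      IsCyclic P ∧ (Q : Subgroup G).Normal ∧ (P : Subgroup G) ⊔ Q = ⊤ ∧ ¬ (P : Subgroup G).Normal ∧
      ¬ (∀ x ∈ (P : Subgroup G), ∀ y ∈ (Q : Subgroup G), Commute x y) := by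
  haveI hsol : Group.IsSolvable G := Cfsg.Agent.S0046.result (fun M hM => hmin M hM.1)
  haveI : Nontrivial G := by
    by_contra h
    rw [not_nontrivial_iff_subsingleton] at h
    exact hnn inferInstance
  obtain ⟨M, hMn, hM, hMp⟩ := exists_normal_coatom_of_isSolvable (G := G)
  set p := M.index with hp
  haveI : Fact p.Prime := ⟨hMp⟩
  have hMnil : Group.IsNilpotent M := hmin M hM.1
  -- (c) Sylow r-subgroups for r ≠ p are normal
  have hc : ∀ (r : ℕ) [Fact r.Prime], r ≠ p → ∀ R : Sylow r G, (R : Subgroup G).Normal := by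
    intro r hr hrp R
    have hle : (R : Subgroup G) ≤ M := by
      rw [← Subgroup.relIndex_eq_one]
      have h1 : M.relIndex R ∣ p := Subgroup.relIndex_dvd_index_of_normal M R
      have h2 : M.relIndex R ∣ Nat.card R := by
        rw [← Subgroup.inf_relIndex_left]
        exact Subgroup.relIndex_dvd_card _ _
      obtain ⟨n, hn⟩ := IsPGroup.iff_card.mp R.2
      rw [hn] at h2
      have hcop : Nat.Coprime p (r ^ n) :=
        Nat.Coprime.pow_right n ((Nat.coprime_primes hMp hr.1).mpr (Ne.symm hrp))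
      exact Nat.eq_one_of_dvd_coprimes hcop h1 h2
    have h3 : ∀ (p : ℕ) (_ : Fact p.Prime) (P : Sylow p M), (P : Subgroup M).Normal :=
      ((Group.isNilpotent_of_finite_tfae (G := M)).out 0 3).mp hMnil
    have hRn : ((R : Subgroup G).subgroupOf M).Normal := by
      have := h3 r hr (R.subtype hle)
      rwa [Sylow.coe_subtype] at this
    have hMle : M ≤ Subgroup.normalizer ((R : Subgroup G) : Set G) :=
      (Subgroup.normal_subgroupOf_iff_le_normalizer hle).mp hRn
    have hfr := Sylow.normalizer_sup_eq_top (R.subtype hle)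
    rw [Sylow.coe_subtype, Subgroup.map_subgroupOf_eq_of_le hle] at hfr
    rw [sup_eq_left.mpr hMle] at hfr
    exact Subgroup.normalizer_eq_top_iff.mp hfr
  -- (d) some Sylow p-subgroup is not normal
  have hd : ∃ P : Sylow p G, ¬ (P : Subgroup G).Normal := by
    by_contra hcon
    push Not at hcon
    apply hnn
    refine ((Group.isNilpotent_of_finite_tfae (G := G)).out 0 3).mpr ?_
    intro r hr R
    by_cases hrp : r = p
    · subst hrp
      exact hcon R
    · exact hc r hrp R
  obtain ⟨P, hPn⟩ := hd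
  -- (e) some Sylow q-subgroup is not centralized by P
  have he : ∃ (q : ℕ) (_ : Fact q.Prime), q ≠ p ∧ ∃ Q : Sylow q G,
      ¬ (∀ x ∈ (P : Subgroup G), ∀ y ∈ (Q : Subgroup G), Commute x y) := by
    by_contra hcon
    push Not at hcon
    apply hPn
    rw [← Subgroup.normalizer_eq_top_iff]
    apply eq_top_of_forall_sylow_le
    intro r hr
    by_cases hrp : r = p
    · subst hrp
      exact ⟨P, Subgroup.le_normalizer⟩
    · obtain ⟨R⟩ : Nonempty (Sylow r G) := inferInstance
      refine ⟨R, fun y hy => ?_⟩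
      rw [Subgroup.mem_normalizer_iff]
      intro x
      have hcomm : ∀ x ∈ (P : Subgroup G), y * x * y⁻¹ = x := by
        intro x hx
        have := (hcon r hr hrp R x hx y hy).eq
        rw [← this, mul_inv_cancel_right]
      constructor
      · intro hx
        rw [hcomm x hx]; exact hx
      · intro hx
        have := hcomm _ hx
        have h2 : y * x * y⁻¹ = x := mul_left_cancel (mul_right_cancel this)
        rw [← h2]; exact hx
  obtain ⟨q, hq, hqp, Q, hQc⟩ := he
  have hQn : (Q : Subgroup G).Normal := hc q hqp Q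
  have hpq : p ≠ q := Ne.symm hqp
  have hPpow : ∀ x ∈ (P : Subgroup G), ∃ k, x ^ p ^ k = 1 := by
    intro x hx
    obtain ⟨k, hk⟩ := P.2 ⟨x, hx⟩
    exact ⟨k, by simpa using congrArg Subtype.val hk⟩
  have hQpow : ∀ y ∈ (Q : Subgroup G), ∃ l, y ^ q ^ l = 1 := by
    intro y hy
    obtain ⟨k, hk⟩ := Q.2 ⟨y, hy⟩
    exact ⟨k, by simpa using congrArg Subtype.val hk⟩
  -- (f) P ⊔ Q = ⊤
  have hf : (P : Subgroup G) ⊔ Q = ⊤ := by
    by_contra hne
    apply hQc
    intro x hx y hy
    obtain ⟨k, hk⟩ := hPpow x hx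
    obtain ⟨l, hl⟩ := hQpow y hy
    exact commute_of_isNilpotent_subgroup _ (hmin _ hne) hpq
      ((le_sup_left : (P : Subgroup G) ≤ _) hx) ((le_sup_right : (Q : Subgroup G) ≤ _) hy) hk hl
  have hdisj : (P : Subgroup G) ⊓ Q = ⊥ :=
    disjoint_iff.mp (IsPGroup.disjoint_of_ne p q hpq _ _ P.2 Q.2)
  -- (g) P cyclic
  have hg : IsCyclic P := by
    by_contra hncyc
    apply hQc
    intro x hx y hy
    have hne : Subgroup.zpowers x ⊔ (Q : Subgroup G) ≠ ⊤ := by
      intro htop
      apply hncyc
      have hXP : Subgroup.zpowers x ≤ (P : Subgroup G) := by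
        rw [Subgroup.zpowers_le]; exact hx
      have hPX : (P : Subgroup G) = Subgroup.zpowers x := by
        apply le_antisymm _ hXP
        intro z hz
        have hz' : z ∈ Subgroup.zpowers x ⊔ (Q : Subgroup G) := by rw [htop]; trivial
        rw [← SetLike.mem_coe, Subgroup.mul_normal] at hz'
        obtain ⟨a, ha, b, hb, hab⟩ := hz'
        have hab' : a * b = z := hab
        have hbP : b ∈ (P : Subgroup G) := by
          have := (P : Subgroup G).mul_mem ((P : Subgroup G).inv_mem (hXP ha)) hz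
          rw [← hab'] at this
          simpa using this
        have hb1 : b ∈ (P : Subgroup G) ⊓ Q := ⟨hbP, hb⟩
        rw [hdisj, Subgroup.mem_bot] at hb1
        rw [← hab', hb1, mul_one]; exact ha
      rw [hPX]
      infer_instance
    obtain ⟨k, hk⟩ := hPpow x hx
    obtain ⟨l, hl⟩ := hQpow y hy
    exact commute_of_isNilpotent_subgroup _ (hmin _ hne) hpq
      ((le_sup_left : Subgroup.zpowers x ≤ _) (Subgroup.mem_zpowers x))
      ((le_sup_right : (Q : Subgroup G) ≤ _) hy) hk hl
  exact ⟨p, q, inferInstance, hq, hpq, P, Q, hg, hQn, hf, hPn, hQc⟩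

end Cfsg.Agent.Lib.Helper96
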