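import Mathlib
import Cfsg.Agent.Lib.Helper96.Schmidt

set_option autoImplicit false
set_option linter.style.haveILetI false

/-! More on minimal non-nilpotent / minimal non-abelian groups. -/

namespace Cfsg.Agent.Lib.Helper96

variable {G : Type*} [Group G]

theorem isNilpotent_of_isMulCommutative {H : Type*} [Group H] [hc : IsMulCommutative H] :
    Group.IsNilpotent H := by
  letI : CommGroup H := { (inferInstance : Group H) with mul_comm := fun a b => mul_comm' a b }
  exact CommGroup.isNilpotent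

/-- A `p`-element `x` centralizing all elements of order dividing `q` of a normal abelian subgroup `Q`
centralizes every `q`-element of `Q` (`p ≠ q` primes). -/
theorem commute_of_commute_omega (Q : Subgroup G) [hQn : Q.Normal]
    (hQc : ∀ a ∈ Q, ∀ b ∈ Q, a * b = b * a) {p q : ℕ} (hp : p.Prime) (hq : q.Prime) (hpq : p ≠ q)
    (x : G) {k : ℕ} (hx : x ^ p ^ k = 1) (hcent : ∀ z ∈ Q, z ^ q = 1 → x * z = z * x) :
    ∀ (l : ℕ) (y : G), y ∈ Q → y ^ q ^ l = 1 → x * y = y * x := by
  intro l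
  induction l with
  | zero =>
    intro y _ hy
    rw [pow_zero, pow_one] at hy
    rw [hy, mul_one, one_mul]
  | succ l ih =>
    intro y hyQ hy
    have hyq : (y ^ q) ^ q ^ l = 1 := by
      rw [← pow_mul, ← pow_succ']; exact hy
    have ih1 : x * y ^ q = y ^ q * x := ih (y ^ q) (Q.pow_mem hyQ q) hyq
    set z : G := x * y * x⁻¹ * y⁻¹ with hz
    have hconj : x * y * x⁻¹ ∈ Q := hQn.conj_mem y hyQ x
    have hzQ : z ∈ Q := Q.mul_mem hconj (Q.inv_mem hyQ)
    have hzq : z ^ q = 1 := by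
      have hcm : Commute (x * y * x⁻¹) y⁻¹ := hQc _ hconj _ (Q.inv_mem hyQ)
      rw [hz, hcm.mul_pow, conj_pow, ih1, mul_inv_cancel_right, inv_pow, mul_inv_cancel]
    have hxz : x * z = z * x := hcent z hzQ hzq
    have hxy : x * y = z * y * x := by
      rw [hz]; group
    have hxzn : ∀ n : ℕ, x * z ^ n = z ^ n * x := by
      intro n
      exact ((show Commute x z from hxz).pow_right n).eq
    have key : ∀ n : ℕ, x ^ n * y = z ^ n * y * x ^ n := by
      intro n
      induction n with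
      | zero => simp
      | succ n ihn =>
        calc x ^ (n + 1) * y = x * (x ^ n * y) := by rw [pow_succ', mul_assoc]
          _ = x * (z ^ n * y * x ^ n) := by rw [ihn]
          _ = (x * z ^ n) * y * x ^ n := by simp only [mul_assoc]
          _ = z ^ n * (x * y) * x ^ n := by rw [hxzn n]; simp only [mul_assoc]
          _ = z ^ n * (z * y * x) * x ^ n := by rw [← hxy]
          _ = z ^ (n + 1) * y * x ^ (n + 1) := by
            rw [pow_succ, pow_succ']; simp only [mul_assoc]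
    have h1 := key (p ^ k)
    rw [hx, one_mul, mul_one] at h1
    have hzp : z ^ p ^ k = 1 := by
      have := congrArg (fun t => t * y⁻¹) h1
      simp only [mul_inv_cancel, mul_inv_cancel_right] at this
      exact this.symm
    have hz1 : z = 1 := by
      rw [← orderOf_eq_one_iff]
      have hcop : Nat.Coprime (p ^ k) q :=
        Nat.Coprime.pow_left k ((Nat.coprime_primes hp hq).mpr hpq)
      exact Nat.eq_one_of_dvd_coprimes hcop (orderOf_dvd_of_pow_eq_one hzp)
        (orderOf_dvd_of_pow_eq_one hzq)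
    rw [hxy, hz1, one_mul]

/-- the subgroup of elements of order dividing `q` in an abelian subgroup -/
def omegaSub (Q : Subgroup G) (hQc : ∀ a ∈ Q, ∀ b ∈ Q, a * b = b * a) (q : ℕ) : Subgroup G where
  carrier := {y | y ∈ Q ∧ y ^ q = 1}
  one_mem' := ⟨Q.one_mem, one_pow q⟩
  mul_mem' := by
    rintro a b ⟨ha, ha'⟩ ⟨hb, hb'⟩
    exact ⟨Q.mul_mem ha hb, by
      rw [(show Commute a b from hQc _ ha _ hb).mul_pow, ha', hb', one_mul]⟩
  inv_mem' := by
    rintro a ⟨ha, ha'⟩
    exact ⟨Q.inv_mem ha, by rw [inv_pow, ha', inv_one]⟩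

theorem mem_omegaSub (Q : Subgroup G) (hQc : ∀ a ∈ Q, ∀ b ∈ Q, a * b = b * a) (q : ℕ) (y : G) :
    y ∈ omegaSub Q hQc q ↔ y ∈ Q ∧ y ^ q = 1 := Iff.rfl

theorem omegaSub_le (Q : Subgroup G) (hQc : ∀ a ∈ Q, ∀ b ∈ Q, a * b = b * a) (q : ℕ) :
    omegaSub Q hQc q ≤ Q := fun _ h => h.1

instance omegaSub_normal (Q : Subgroup G) [hQn : Q.Normal] (hQc : ∀ a ∈ Q, ∀ b ∈ Q, a * b = b * a)
    (q : ℕ) : (omegaSub Q hQc q).Normal := by
  refine ⟨fun y hy g => ?_⟩
  rw [mem_omegaSub] at hy ⊢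
  exact ⟨hQn.conj_mem y hy.1 g, by rw [conj_pow, hy.2, mul_one, mul_inv_cancel]⟩

/-- if `A ⊔ B = ⊤`, `B ≤ C`, `B` normal and `A ⊓ C = ⊥` then `C ≤ B` -/
theorem le_of_sup_eq_top_of_inf_eq_bot (A B C : Subgroup G) [B.Normal] (hBC : B ≤ C)
    (hAC : A ⊓ C = ⊥) (htop : A ⊔ B = ⊤) : C ≤ B := by
  intro z hz
  have hz' : z ∈ A ⊔ B := by rw [htop]; trivial
  rw [← SetLike.mem_coe, Subgroup.mul_normal] at hz'
  obtain ⟨a, ha, b, hb, hab⟩ := hz'
  have hab' : a * b = z := hab
  have haC : a ∈ C := by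
    have := C.mul_mem hz (C.inv_mem (hBC hb))
    rw [← hab'] at this
    simpa using this
  have ha1 : a ∈ A ⊓ C := ⟨ha, haC⟩
  rw [hAC, Subgroup.mem_bot] at ha1
  rw [← hab', ha1, one_mul]; exact hb

end Cfsg.Agent.Lib.Helper96
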