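import Mathlib
import Cfsg.Agent.Lib.Helper96.Schmidt2

set_option autoImplicit false
set_option linter.style.haveILetI false
open scoped commutatorElement

/-! Further element-wise tools for minimal non-nilpotent groups. -/

namespace Cfsg.Agent.Lib.Helper96

variable {G : Type*} [Group G]

theorem isPGroup_zpowers_of_pow_eq_one {p : ℕ} {x : G} {k : ℕ} (hx : x ^ p ^ k = 1) :
    IsPGroup p (Subgroup.zpowers x) := by
  rintro ⟨g, hg⟩
  obtain ⟨n, rfl⟩ := Subgroup.mem_zpowers_iff.mp hg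
  refine ⟨k, Subtype.ext ?_⟩
  change (x ^ n) ^ p ^ k = 1
  rw [← zpow_natCast, ← zpow_mul, mul_comm, zpow_mul, zpow_natCast, hx, one_zpow]

/-- a `q`-element lies in a normal Sylow `q`-subgroup -/
theorem mem_of_pow_eq_one_of_normal_sylow [Finite G] {q : ℕ} [Fact q.Prime] (Q : Sylow q G)
    (hQ : (Q : Subgroup G).Normal) {y : G} {l : ℕ} (hy : y ^ q ^ l = 1) : y ∈ (Q : Subgroup G) := by
  obtain ⟨Q', hQ'⟩ := (isPGroup_zpowers_of_pow_eq_one hy).exists_le_sylow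
  haveI := Sylow.unique_of_normal Q hQ
  have : Q' = Q := Subsingleton.elim _ _
  rw [← this]; exact hQ' (Subgroup.mem_zpowers y)

/-- two `p`-elements of a finite nilpotent group lie in a common Sylow `p`-subgroup -/
theorem exists_sylow_mem_of_isNilpotent [Finite G] (hn : Group.IsNilpotent G) {p : ℕ}
    [hp : Fact p.Prime] {a b : G} {i j : ℕ} (ha : a ^ p ^ i = 1) (hb : b ^ p ^ j = 1) :
    ∃ S : Sylow p G, a ∈ (S : Subgroup G) ∧ b ∈ (S : Subgroup G) := by
  have h3 : ∀ (p : ℕ) (_ : Fact p.Prime) (P : Sylow p G), (P : Subgroup G).Normal :=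
    ((Group.isNilpotent_of_finite_tfae (G := G)).out 0 3).mp hn
  obtain ⟨S, hS⟩ := (isPGroup_zpowers_of_pow_eq_one ha).exists_le_sylow
  exact ⟨S, hS (Subgroup.mem_zpowers a), mem_of_pow_eq_one_of_normal_sylow S (h3 p hp S) hb⟩

/-- if a Sylow `p`-subgroup is cyclic then any `p`-subgroup is commutative -/
theorem mul_comm_of_mem_pgroup_of_isCyclic_sylow [Finite G] {p : ℕ} [Fact p.Prime] (P : Sylow p G)
    (hP : IsCyclic P) (X : Subgroup G) (hX : IsPGroup p X) {a b : G} (ha : a ∈ X) (hb : b ∈ X) :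
    a * b = b * a := by
  obtain ⟨P', hP'⟩ := hX.exists_le_sylow
  obtain ⟨g, hg⟩ := MulAction.exists_smul_eq G P' P
  have key : ∀ u ∈ (P' : Subgroup G), g * u * g⁻¹ ∈ (P : Subgroup G) := by
    intro u hu
    rw [← hg, Sylow.coe_subgroup_smul]
    have := Subgroup.smul_mem_pointwise_smul u (MulAut.conj g) (P' : Subgroup G) hu
    simpa [MulAut.smul_def] using this
  have h1 := key a (hP' ha)
  have h2 := key b (hP' hb)
  have hc : (g * a * g⁻¹) * (g * b * g⁻¹) = (g * b * g⁻¹) * (g * a * g⁻¹) :=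
    setLike_mul_comm h1 h2
  have h3 : g * (a * b) * g⁻¹ = g * (b * a) * g⁻¹ := by
    have e1 : g * (a * b) * g⁻¹ = (g * a * g⁻¹) * (g * b * g⁻¹) := by group
    have e2 : g * (b * a) * g⁻¹ = (g * b * g⁻¹) * (g * a * g⁻¹) := by group
    rw [e1, e2, hc]
  exact mul_left_cancel (mul_right_cancel h3)

/-- two `p`-elements of a nilpotent subgroup commute when the Sylow `p`-subgroups of `G` are cyclic -/
theorem mul_comm_of_isNilpotent_subgroup_of_isCyclic_sylow [Finite G] {p : ℕ} [Fact p.Prime]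
    (P : Sylow p G) (hP : IsCyclic P) (K : Subgroup G) (hK : Group.IsNilpotent K) {a b : G}
    (haK : a ∈ K) (hbK : b ∈ K) {i j : ℕ} (ha : a ^ p ^ i = 1) (hb : b ^ p ^ j = 1) :
    a * b = b * a := by
  obtain ⟨S, hSa, hSb⟩ := exists_sylow_mem_of_isNilpotent (G := K) hK (a := ⟨a, haK⟩) (b := ⟨b, hbK⟩)
    (i := i) (j := j) (Subtype.ext (by simpa using ha)) (Subtype.ext (by simpa using hb))
  have hX : IsPGroup p ((S : Subgroup K).map K.subtype) := S.2.map _
  exact mul_comm_of_mem_pgroup_of_isCyclic_sylow P hP _ hX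
    (Subgroup.mem_map.mpr ⟨⟨a, haK⟩, hSa, rfl⟩) (Subgroup.mem_map.mpr ⟨⟨b, hbK⟩, hSb, rfl⟩)

/-- decomposition of an element of a group of order `p^α q^β` into its `p`-part and `q`-part -/
theorem exists_decomp_of_card [Finite G] {p q : ℕ} (hp : p.Prime) (hq : q.Prime) (hpq : p ≠ q)
    {α β : ℕ} (hcard : Nat.card G = p ^ α * q ^ β) (a : G) :
    ∃ a₁ a₂ : G, a₁ ∈ Subgroup.zpowers a ∧ a₂ ∈ Subgroup.zpowers a ∧ a = a₁ * a₂ ∧
      a₁ ^ p ^ α = 1 ∧ a₂ ^ q ^ β = 1 := by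
  have hcop : Nat.Coprime (p ^ α) (q ^ β) :=
    Nat.Coprime.pow _ _ ((Nat.coprime_primes hp hq).mpr hpq)
  obtain ⟨u, v, huv⟩ := Nat.isCoprime_iff_coprime.mpr hcop
  have hpow : a ^ (p ^ α * q ^ β) = 1 := by rw [← hcard]; exact pow_card_eq_one'
  have hpowz : a ^ (((p ^ α * q ^ β : ℕ)) : ℤ) = 1 := by rw [zpow_natCast]; exact hpow
  refine ⟨a ^ (v * ((q ^ β : ℕ) : ℤ)), a ^ (u * ((p ^ α : ℕ) : ℤ)),
    Subgroup.zpow_mem_zpowers a _, Subgroup.zpow_mem_zpowers a _, ?_, ?_, ?_⟩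
  · rw [← zpow_add, add_comm, huv, zpow_one]
  · rw [← zpow_natCast, ← zpow_mul]
    have : v * ((q ^ β : ℕ) : ℤ) * ((p ^ α : ℕ) : ℤ) = ((p ^ α * q ^ β : ℕ) : ℤ) * v := by
      push_cast; ring
    rw [this, zpow_mul, hpowz, one_zpow]
  · rw [← zpow_natCast, ← zpow_mul]
    have : u * ((p ^ α : ℕ) : ℤ) * ((q ^ β : ℕ) : ℤ) = ((p ^ α * q ^ β : ℕ) : ℤ) * u := by
      push_cast; ring
    rw [this, zpow_mul, hpowz, one_zpow]

/-- order of a group generated by a Sylow `p`-subgroup and a normal Sylow `q`-subgroup -/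
theorem card_eq_of_sup_eq_top [Finite G] {p q : ℕ} [Fact p.Prime] [Fact q.Prime] (P : Sylow p G)
    (Q : Sylow q G) (hQn : (Q : Subgroup G).Normal) (htop : (P : Subgroup G) ⊔ Q = ⊤) :
    ∃ α β : ℕ, Nat.card G = p ^ α * q ^ β := by
  obtain ⟨β, hβ⟩ := IsPGroup.iff_card.mp Q.2
  have hsurj : Function.Surjective ((QuotientGroup.mk' (Q : Subgroup G)).comp (P : Subgroup G).subtype) := by
    intro y
    obtain ⟨g, rfl⟩ := QuotientGroup.mk'_surjective _ y
    have hg : g ∈ (P : Subgroup G) ⊔ Q := by rw [htop]; trivial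
    rw [← SetLike.mem_coe, Subgroup.mul_normal] at hg
    obtain ⟨a, ha, b, hb, hab⟩ := hg
    have hab' : a * b = g := hab
    refine ⟨⟨a, ha⟩, ?_⟩
    simp only [MonoidHom.coe_comp, Function.comp_apply, Subgroup.coe_subtype, QuotientGroup.mk'_apply]
    rw [QuotientGroup.eq, ← hab']
    have e : a⁻¹ * (a * b) = b := by group
    rw [e]; exact hb
  have hquot : IsPGroup p (G ⧸ (Q : Subgroup G)) := IsPGroup.of_surjective P.2 _ hsurj
  obtain ⟨α, hα⟩ := IsPGroup.iff_card.mp hquot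
  refine ⟨α, β, ?_⟩
  rw [Subgroup.card_eq_card_quotient_mul_card_subgroup (Q : Subgroup G), hα, hβ]

end Cfsg.Agent.Lib.Helper96
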