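import Mathlib
import Cfsg.Agent.Lib.Helper96.FrobeniusAction
import Cfsg.Agent.Lib.Helper35.FrobeniusMod
import Cfsg.Agent.Lib.Helper24.SylowInv
import Cfsg.Agent.Lib.Helper79.Frobenius
import Cfsg.Agent.S0666
import Cfsg.Agent.S3383

set_option autoImplicit false
set_option linter.style.haveILetI false

/-! Conjugacy of Frobenius complements. -/

namespace Cfsg.Agent.Lib.Helper96

open Cfsg
open scoped Pointwise

variable {G : Type*} [Group G]

/-- elements outside the kernel lie in a conjugate of `H` -/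
theorem exists_conj_of_not_mem_kernel (H : Subgroup G) {x : G}
    (hx : x ∉ Cfsg.frobeniusKernel H) : x ≠ 1 ∧ ∃ g : G, x ∈ MulAut.conj g • H := by
  unfold Cfsg.frobeniusKernel at hx
  simp only [Set.mem_ofPred_eq, not_or, not_forall, not_not] at hx
  exact hx

/-- nonidentity elements of a conjugate of `H` are not in the kernel -/
theorem not_mem_kernel_of_mem_conj (H : Subgroup G) {x g : G} (hx1 : x ≠ 1)
    (hx : x ∈ MulAut.conj g • H) : x ∉ Cfsg.frobeniusKernel H := by
  rintro (h | h)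
  · exact hx1 h
  · exact h g hx

/-- The trace of a conjugate of `H` on a subgroup `H'`, as a subgroup of `H'`. -/
def traceSub (H H' : Subgroup G) (a : G) : Subgroup H' :=
  (H' ⊓ MulAut.conj a • H).subgroupOf H'

theorem mem_traceSub (H H' : Subgroup G) (a : G) (y : H') :
    y ∈ traceSub H H' a ↔ (y : G) ∈ MulAut.conj a • H := by
  unfold traceSub
  rw [Subgroup.mem_subgroupOf, Subgroup.mem_inf]
  exact ⟨fun h => h.2, fun h => ⟨y.2, h⟩⟩

theorem traceSub_isFrobeniusComplement (H H' : Subgroup G) (hH : Cfsg.IsFrobeniusComplement H)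
    (a : G) (h1 : traceSub H H' a ≠ ⊥) (h2 : traceSub H H' a ≠ ⊤) :
    Cfsg.IsFrobeniusComplement (traceSub H H' a) := by
  refine ⟨h1, h2, ?_⟩
  intro y hy
  rw [eq_bot_iff]
  intro t ht
  rw [Subgroup.mem_bot]
  by_contra ht1
  obtain ⟨ht1', ht2'⟩ := Subgroup.mem_inf.mp ht
  rw [Helper35.mem_conj_smul, mem_traceSub] at ht2'
  rw [mem_traceSub] at ht1'
  apply hy
  rw [mem_traceSub]
  -- (t : G) ∈ conj a • H and y⁻¹ t y ∈ conj a • H
  have hne : (t : G) ≠ 1 := fun h => ht1 (Subtype.ext h)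
  have h3 : (t : G) ∈ MulAut.conj ((y : G) * a) • H := by
    rw [Helper35.mem_conj_smul] at ht2' ⊢
    have e : ((y : G) * a)⁻¹ * (t : G) * ((y : G) * a) =
        a⁻¹ * ((y⁻¹ * t * y : H') : G) * a := by
      push_cast
      group
    rw [e]; exact ht2'
  have h4 := Helper35.inv_mul_mem_of_mem_conj_conj hH hne ht1' h3
  -- a⁻¹ * (y * a) ∈ H
  rw [Helper35.mem_conj_smul]
  have e : a⁻¹ * (y : G) * a = a⁻¹ * ((y : G) * a) := by group
  rw [e]; exact h4

/-- **Lemma C**: a subgroup of the same order as a Frobenius complement `H`, all of whose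
nonidentity elements lie in conjugates of `H`, is conjugate to `H`. -/
theorem conj_of_forall_mem_conj [Finite G] (H H' : Subgroup G)
    (hH : Cfsg.IsFrobeniusComplement H) (hcard : Nat.card H' = Nat.card H)
    (hall : ∀ x ∈ H', x ≠ 1 → ∃ g : G, x ∈ MulAut.conj g • H) :
    ∃ g : G, H' = MulAut.conj g • H := by
  classical
  -- it suffices to find a conjugate containing H'
  suffices hsuff : ∃ a : G, H' ≤ MulAut.conj a • H by
    obtain ⟨a, ha⟩ := hsuff
    refine ⟨a, Subgroup.eq_of_le_of_card_ge ha ?_⟩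
    rw [hcard]
    exact le_of_eq (Nat.card_congr (Subgroup.equivSMul (MulAut.conj a) H).symm.toEquiv)
  by_contra hcon
  push Not at hcon
  have hH'ne : H' ≠ ⊥ := by
    intro h
    apply hH.1
    rw [← Subgroup.card_eq_one, ← hcard, h, Subgroup.card_eq_one]
  obtain ⟨x', hx'⟩ := (Subgroup.ne_bot_iff_exists_ne_one (H := H')).mp hH'ne
  obtain ⟨x, hx, hx1⟩ : ∃ x : G, x ∈ H' ∧ x ≠ 1 :=
    ⟨(x' : G), x'.2, fun h => hx' (Subtype.ext h)⟩
  obtain ⟨a, ha⟩ := hall x hx hx1
  have hTtop : ∀ b : G, traceSub H H' b ≠ ⊤ := by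
    intro b h
    apply hcon b
    intro y hy
    have : (⟨y, hy⟩ : H') ∈ traceSub H H' b := by rw [h]; trivial
    rwa [mem_traceSub] at this
  have hTa_bot : traceSub H H' a ≠ ⊥ := by
    intro h
    have : (⟨x, hx⟩ : H') ∈ traceSub H H' a := by rw [mem_traceSub]; exact ha
    rw [h, Subgroup.mem_bot] at this
    exact hx1 (congrArg Subtype.val this)
  have hFa := traceSub_isFrobeniusComplement H H' hH a hTa_bot (hTtop a)
  have hcardU : ∀ b : G, Cfsg.IsFrobeniusComplement (traceSub H H' b) →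
      (Helper35.conjUnion (traceSub H H' b)).ncard + (traceSub H H' b).index = Nat.card H' ∧
      2 * (traceSub H H' b).index ≤ Nat.card H' := by
    intro b hb
    have h1 := Helper35.card_conjUnion hb
    rw [Nat.card_coe_set_eq] at h1
    have h2 : Nat.card (traceSub H H' b) * (traceSub H H' b).index = Nat.card H' :=
      Subgroup.card_mul_index _
    have h3 : 2 ≤ Nat.card (traceSub H H' b) := by
      have := (Subgroup.one_lt_card_iff_ne_bot (traceSub H H' b)).mpr hb.1
      omega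
    constructor
    · rw [h1, ← h2]
      obtain ⟨m, hm⟩ : ∃ m, Nat.card (traceSub H H' b) = m + 1 :=
        ⟨Nat.card (traceSub H H' b) - 1, by omega⟩
      rw [hm]
      simp only [Nat.add_sub_cancel]
      ring
    · rw [← h2]
      exact Nat.mul_le_mul_right _ h3
  obtain ⟨hca, hca2⟩ := hcardU a hFa
  -- an element outside conjUnion (T_a)
  have hidx2 : 2 ≤ (traceSub H H' a).index := by
    have h1 : (traceSub H H' a).index ≠ 1 := by
      rw [Ne, Subgroup.index_eq_one]; exact hTtop a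
    have h2 : (traceSub H H' a).index ≠ 0 := Subgroup.index_ne_zero_of_finite
    omega
  have hex : ∃ z : H', z ≠ 1 ∧ z ∉ Helper35.conjUnion (traceSub H H' a) := by
    by_contra hno
    push Not at hno
    have hsub : ({1}ᶜ : Set H') ⊆ Helper35.conjUnion (traceSub H H' a) := by
      intro z hz
      exact hno z hz
    have h1 := Set.ncard_le_ncard hsub (Set.toFinite _)
    have h2 : ({1}ᶜ : Set H').ncard = Nat.card H' - 1 := by
      rw [Set.ncard_compl, Set.ncard_singleton]
    omega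
  obtain ⟨z, hz1, hz⟩ := hex
  obtain ⟨b, hb⟩ := hall (z : G) z.2 (fun h => hz1 (Subtype.ext h))
  have hTb_bot : traceSub H H' b ≠ ⊥ := by
    intro h
    have : z ∈ traceSub H H' b := by rw [mem_traceSub]; exact hb
    rw [h, Subgroup.mem_bot] at this
    exact hz1 this
  have hFb := traceSub_isFrobeniusComplement H H' hH b hTb_bot (hTtop b)
  obtain ⟨hcb, hcb2⟩ := hcardU b hFb
  -- the two unions are disjoint
  have hdisj : Disjoint (Helper35.conjUnion (traceSub H H' a))
      (Helper35.conjUnion (traceSub H H' b)) := by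
    rw [Set.disjoint_left]
    rintro w ⟨hw1, y, hwy⟩ ⟨_, y', hwy'⟩
    apply hz
    rw [Helper35.mem_conj_smul, mem_traceSub] at hwy hwy'
    have hwne : (w : G) ≠ 1 := fun h => hw1 (Subtype.ext h)
    have h3 : (w : G) ∈ MulAut.conj ((y : G) * a) • H := by
      rw [Helper35.mem_conj_smul] at hwy ⊢
      have e : ((y : G) * a)⁻¹ * (w : G) * ((y : G) * a) =
          a⁻¹ * ((y⁻¹ * w * y : H') : G) * a := by
        push_cast
        group
      rw [e]; exact hwy
    have h4 : (w : G) ∈ MulAut.conj ((y' : G) * b) • H := by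
      rw [Helper35.mem_conj_smul] at hwy' ⊢
      have e : ((y' : G) * b)⁻¹ * (w : G) * ((y' : G) * b) =
          b⁻¹ * ((y'⁻¹ * w * y' : H') : G) * b := by
        push_cast
        group
      rw [e]; exact hwy'
    have h5 := Helper35.inv_mul_mem_of_mem_conj_conj hH hwne h3 h4
    -- ((y a)⁻¹ (y' b)) ∈ H ; z ∈ conj b • H  ⇒ z ∈ conj (y'⁻¹ y) • T_a
    refine ⟨hz1, y'⁻¹ * y, ?_⟩
    rw [Helper35.mem_conj_smul, mem_traceSub, Helper35.mem_conj_smul]
    rw [Helper35.mem_conj_smul] at hb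
    -- a⁻¹ ((y'⁻¹ y)⁻¹ z (y'⁻¹ y)) a = u (b⁻¹ z b) u⁻¹ with u = a⁻¹ y⁻¹ y' b ∈ H
    have e : a⁻¹ * (((y'⁻¹ * y)⁻¹ * z * (y'⁻¹ * y) : H') : G) * a =
        (((y : G) * a)⁻¹ * ((y' : G) * b)) * (b⁻¹ * (z : G) * b) *
          (((y : G) * a)⁻¹ * ((y' : G) * b))⁻¹ := by
      push_cast
      group
    rw [e]
    exact H.mul_mem (H.mul_mem h5 hb) (H.inv_mem h5)
  -- count
  have hsub : Helper35.conjUnion (traceSub H H' a) ∪ Helper35.conjUnion (traceSub H H' b) ⊆
      ({1}ᶜ : Set H') := by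
    rintro w (hw | hw)
    · exact hw.1
    · exact hw.1
  have h1 := Set.ncard_le_ncard hsub (Set.toFinite _)
  rw [Set.ncard_union_eq hdisj] at h1
  have h2 : ({1}ᶜ : Set H').ncard = Nat.card H' - 1 := by
    rw [Set.ncard_compl, Set.ncard_singleton]
  have hpos : 0 < Nat.card H' := Nat.card_pos
  omega

/-- index and order of a Frobenius complement are coprime -/
theorem coprime_index_card [Finite G] {H : Subgroup G} (hH : Cfsg.IsFrobeniusComplement H) :
    (H.index).Coprime (Nat.card H) := by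
  have h := Helper35.index_mod_card hH
  rw [Nat.Coprime, Nat.gcd_comm, Nat.gcd_rec, h, ← Nat.gcd_rec, Nat.gcd_one_right]

/-- trivial centralizers: a kernel element commuting with a nonidentity element of a conjugate of
`H` is trivial -/
theorem eq_one_of_commute_of_mem_conj {H : Subgroup G} (hH : Cfsg.IsFrobeniusComplement H)
    {x g k : G} (hx1 : x ≠ 1) (hx : x ∈ MulAut.conj g • H) (hk : k ∈ Cfsg.frobeniusKernel H)
    (hc : k * x = x * k) : k = 1 := by
  rw [Helper35.mem_conj_smul] at hx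
  have hy1 : g⁻¹ * x * g ≠ 1 := by
    intro h
    apply hx1
    calc x = g * (g⁻¹ * x * g) * g⁻¹ := by group
      _ = 1 := by rw [h]; group
  have hc' : (g⁻¹ * k * g) * (g⁻¹ * x * g) = (g⁻¹ * x * g) * (g⁻¹ * k * g) := by
    calc (g⁻¹ * k * g) * (g⁻¹ * x * g) = g⁻¹ * (k * x) * g := by group
      _ = g⁻¹ * (x * k) * g := by rw [hc]
      _ = (g⁻¹ * x * g) * (g⁻¹ * k * g) := by group
  have hmem := Helper35.mem_of_commute hH hy1 hx hc'
  rcases hk with h | h
  · exact h
  · exfalso
    apply h g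
    rw [Helper35.mem_conj_smul]
    exact hmem

/-- **Lemma D**: comparable Frobenius kernels are equal. -/
theorem kernel_le_of_le [Finite G] (H H₀ : Subgroup G) (hH : Cfsg.IsFrobeniusComplement H)
    (hH₀ : Cfsg.IsFrobeniusComplement H₀) (K K₀ : Subgroup G)
    (hK : (K : Set G) = Cfsg.frobeniusKernel H) (hK₀ : (K₀ : Set G) = Cfsg.frobeniusKernel H₀)
    (hKn : K.Normal) (hK₀n : K₀.Normal) (hKc : Subgroup.IsComplement' K H)
    (hK₀c : Subgroup.IsComplement' K₀ H₀) (hle : K₀ ≤ K) : K ≤ K₀ := by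
  classical
  by_contra hnle
  have hmemK : ∀ x : G, x ∈ K ↔ x ∈ Cfsg.frobeniusKernel H := fun x => by rw [← hK]; rfl
  have hmemK₀ : ∀ x : G, x ∈ K₀ ↔ x ∈ Cfsg.frobeniusKernel H₀ := fun x => by rw [← hK₀]; rfl
  -- cardinalities
  have hcardK : Nat.card K = H.index := by
    rw [← Helper35.card_frobeniusKernel hH, ← hK]; rfl
  have hcardK₀ : Nat.card K₀ = H₀.index := by
    rw [← Helper35.card_frobeniusKernel hH₀, ← hK₀]; rfl
  have hcopK : (Nat.card K).Coprime (Nat.card H) := by rw [hcardK]; exact coprime_index_card hH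
  have hcopK₀ : (Nat.card K₀).Coprime (Nat.card H₀) := by
    rw [hcardK₀]; exact coprime_index_card hH₀
  have hK₀idx : K₀.index = Nat.card H₀ := by
    have h1 := hK₀c.card_mul_card
    have h2 := Subgroup.card_mul_index K₀
    have hpos : 0 < Nat.card K₀ := Nat.card_pos
    exact Nat.eq_of_mul_eq_mul_left hpos (h2.trans h1.symm)
  -- a prime q dividing |K : K₀|
  have hrel1 : K₀.relIndex K ≠ 1 := by
    rw [Ne, Subgroup.relIndex_eq_one]; exact hnle
  obtain ⟨q, hq, hqd⟩ := Nat.exists_prime_and_dvd hrel1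
  haveI : Fact q.Prime := ⟨hq⟩
  have hqH₀ : q ∣ Nat.card H₀ := by
    rw [← hK₀idx]
    exact hqd.trans (Subgroup.relIndex_dvd_index_of_le hle)
  have hqK₀ : ¬ q ∣ Nat.card K₀ := by
    intro h
    have := Nat.dvd_gcd h hqH₀
    rw [hcopK₀.gcd_eq_one] at this
    exact hq.one_lt.ne' (Nat.dvd_one.mp this)
  have hqK : q ∣ Nat.card K := by
    have : K₀.relIndex K ∣ Nat.card K := Subgroup.relIndex_dvd_card K₀ K
    exact hqd.trans this
  -- an element h of prime order p in H
  have hHcard1 : Nat.card H ≠ 1 := by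
    rw [Ne, Subgroup.card_eq_one]; exact hH.1
  obtain ⟨p, hp, hpd⟩ := Nat.exists_prime_and_dvd hHcard1
  haveI : Fact p.Prime := ⟨hp⟩
  obtain ⟨h', hh'⟩ := exists_prime_orderOf_dvd_card' (G := H) p hpd
  set h : G := (h' : G) with hh
  have hhH : h ∈ H := h'.2
  have hord : orderOf h = p := by rw [hh, Subgroup.orderOf_coe]; exact hh'
  have hh1 : h ≠ 1 := by
    intro e
    rw [e, orderOf_one] at hord
    exact hp.one_lt.ne hord
  set A : Subgroup G := Subgroup.zpowers h with hA
  have hAH : A ≤ H := by rw [hA, Subgroup.zpowers_le]; exact hhH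
  have hAcard : Nat.card A = p := by rw [hA, Nat.card_zpowers, hord]
  have hApg : IsPGroup p A := IsPGroup.of_card (n := 1) (by rw [hAcard, pow_one])
  have hpK : ¬ p ∣ Nat.card K := by
    intro h1
    have := Nat.dvd_gcd h1 hpd
    rw [hcopK.gcd_eq_one] at this
    exact hp.one_lt.ne' (Nat.dvd_one.mp this)
  have hpq : p ≠ q := by
    rintro rfl
    exact hpK hqK
  have hAsolv : Group.IsSolvable A := by
    rw [hA]
    infer_instance
  have hAK : A ≤ Subgroup.normalizer (K : Set G) := by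
    rw [Subgroup.normalizer_eq_top_iff.mpr hKn]; exact le_top
  have hcopAK : (Nat.card A).Coprime (Nat.card K) := by
    rw [hAcard]
    exact (Nat.Prime.coprime_iff_not_dvd hp).mpr hpK
  -- an A-invariant Sylow q-subgroup Q of K
  obtain ⟨P, hPA⟩ := Helper24.exists_invariant_sylow (p := q) A K hAK hcopAK (Or.inl hAsolv)
  set Q : Subgroup G := (P : Subgroup K).map K.subtype with hQ
  have hQK : Q ≤ K := Subgroup.map_subtype_le _
  have hQpg : IsPGroup q Q := P.2.map _
  have hQne : Q ≠ ⊥ := by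
    intro h0
    apply P.ne_bot_of_dvd_card hqK
    rw [hQ] at h0
    exact (Subgroup.map_eq_bot_iff_of_injective _ K.subtype_injective).mp h0
  -- nonidentity elements of Q act fixed-point-freely on K₀
  have hQfpf : ∀ y ∈ Q, y ≠ 1 → ∀ k ∈ K₀, k * y = y * k → k = 1 := by
    intro y hy hy1 k hk hc
    have hynot : y ∉ K₀ := by
      intro hyK₀
      -- order of y divides |K₀| and is a power of q
      obtain ⟨n, hn⟩ := (IsPGroup.iff_orderOf.mp hQpg) ⟨y, hy⟩
      have h1 : orderOf y = q ^ n := by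
        rw [← hn, Subgroup.orderOf_mk]
      have h2 : orderOf (⟨y, hyK₀⟩ : K₀) ∣ Nat.card K₀ := orderOf_dvd_natCard _
      rw [Subgroup.orderOf_mk, h1] at h2
      cases n with
      | zero =>
        rw [pow_zero, orderOf_eq_one_iff] at h1
        exact hy1 h1
      | succ n =>
        apply hqK₀
        exact (dvd_pow_self q (Nat.succ_ne_zero n)).trans h2
    rw [hmemK₀] at hynot
    obtain ⟨_, g, hg⟩ := exists_conj_of_not_mem_kernel H₀ hynot
    exact eq_one_of_commute_of_mem_conj hH₀ hy1 hg ((hmemK₀ k).mp hk) hc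
  -- nonidentity elements of A act fixed-point-freely on K
  have hAfpf : ∀ a ∈ A, a ≠ 1 → ∀ k ∈ K, k * a = a * k → k = 1 := by
    intro a ha ha1 k hk hc
    have haH : a ∈ MulAut.conj (1 : G) • H := by
      rw [Helper35.mem_conj_smul]; simpa using hAH ha
    exact eq_one_of_commute_of_mem_conj hH ha1 haH ((hmemK k).mp hk) hc
  -- the group X = Q ⊔ A
  set X : Subgroup G := Q ⊔ A with hX
  have hQX : Q ≤ X := le_sup_left
  have hAX : A ≤ X := le_sup_right
  have hXQ : X ≤ Subgroup.normalizer (Q : Set G) := sup_le Subgroup.le_normalizer hPA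
  haveI hQ'n : (Q.subgroupOf X).Normal :=
    (Subgroup.normal_subgroupOf_iff_le_normalizer hQX).mpr hXQ
  have hQ'ne : Q.subgroupOf X ≠ ⊥ := by
    intro h0
    apply hQne
    rw [Subgroup.subgroupOf_eq_bot] at h0
    rw [← disjoint_self]
    exact h0.mono_right hQX
  have hA'ne : A.subgroupOf X ≠ ⊥ := by
    intro h0
    rw [Subgroup.subgroupOf_eq_bot] at h0
    have : A = ⊥ := by
      rw [← disjoint_self]
      exact h0.mono_right hAX
    apply hh1
    have hmem : h ∈ A := Subgroup.mem_zpowers h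
    rw [this, Subgroup.mem_bot] at hmem
    exact hmem
  have hdisjAQ : Disjoint (A.subgroupOf X) (Q.subgroupOf X) :=
    IsPGroup.disjoint_of_ne p q hpq _ _ hApg.comap_subtype hQpg.comap_subtype
  have hcompl : (A.subgroupOf X).IsComplement' (Q.subgroupOf X) := by
    apply Subgroup.isComplement'_of_disjoint_and_mul_eq_univ hdisjAQ
    rw [← Subgroup.mul_normal, ← Subgroup.subgroupOf_sup hAX hQX, sup_comm, ← hX,
      Subgroup.subgroupOf_self]
    rfl
  have hfpfX : ∀ a ∈ A.subgroupOf X, a ≠ 1 → ∀ y ∈ Q.subgroupOf X, y ≠ 1 → a * y ≠ y * a := by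
    intro a ha ha1 y hy hy1 hc
    apply hy1
    have hc' : (y : G) * (a : G) = (a : G) * (y : G) := by
      have := congrArg Subtype.val hc
      simpa using this.symm
    have := hAfpf (a : G) (Subgroup.mem_subgroupOf.mp ha)
      (fun e => ha1 (Subtype.ext e)) (y : G) (hQK (Subgroup.mem_subgroupOf.mp hy)) hc'
    exact Subtype.ext this
  obtain ⟨hFrobA, hkerA⟩ := Helper79.frobenius_of_fpf (Q.subgroupOf X) (A.subgroupOf X)
    hQ'ne hA'ne hcompl hfpfX
  -- X is solvable
  have hXcard : Nat.card X = Nat.card A * Nat.card Q := by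
    have := hcompl.card_mul_card
    rw [← this]
    congr 1
    · exact Nat.card_congr (Subgroup.subgroupOfEquivOfLe hAX).toEquiv
    · exact Nat.card_congr (Subgroup.subgroupOfEquivOfLe hQX).toEquiv
  haveI hXsolv : Group.IsSolvable X := by
    have hQ'solv : Group.IsSolvable (Q.subgroupOf X) := by
      haveI : Group.IsNilpotent (Q.subgroupOf X) := (hQpg.comap_subtype).isNilpotent
      infer_instance
    have hquot : Group.IsSolvable (X ⧸ Q.subgroupOf X) := by
      have hc : Nat.card (X ⧸ Q.subgroupOf X) = p := by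
        rw [← Subgroup.index_eq_card]
        have h1 := hcompl.card_mul_card
        have h2 := Subgroup.card_mul_index (Q.subgroupOf X)
        have hpos : 0 < Nat.card (Q.subgroupOf X) := Nat.card_pos
        have h3 : (Q.subgroupOf X).index = Nat.card (A.subgroupOf X) := by
          apply Nat.eq_of_mul_eq_mul_left hpos
          rw [h2, ← h1, mul_comm]
        rw [h3, Nat.card_congr (Subgroup.subgroupOfEquivOfLe hAX).toEquiv, hAcard]
      haveI := isCyclic_of_prime_card hc
      letI := IsCyclic.commGroup (α := X ⧸ Q.subgroupOf X)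
      infer_instance
    exact Group.isSolvable_of_ker_le_range (Q.subgroupOf X).subtype
      (QuotientGroup.mk' (Q.subgroupOf X)) (by
        rw [QuotientGroup.ker_mk', Subgroup.range_subtype])
  -- coprime action of X on K₀
  have hXK₀ : X ≤ Subgroup.normalizer (K₀ : Set G) := by
    rw [Subgroup.normalizer_eq_top_iff.mpr hK₀n]; exact le_top
  have hK₀dvdK : Nat.card K₀ ∣ Nat.card K := Subgroup.card_dvd_of_le hle
  have hpK₀ : ¬ p ∣ Nat.card K₀ := fun h1 => hpK (h1.trans hK₀dvdK)
  obtain ⟨nQ, hnQ⟩ := IsPGroup.iff_card.mp hQpg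
  have hcopXK₀ : (Nat.card X).Coprime (Nat.card K₀) := by
    rw [hXcard, hAcard, hnQ]
    apply Nat.Coprime.mul_left
    · exact (Nat.Prime.coprime_iff_not_dvd hp).mpr hpK₀
    · exact Nat.Coprime.pow_left _ ((Nat.Prime.coprime_iff_not_dvd hq).mpr hqK₀)
  -- a prime r dividing |K₀|
  have hK₀card1 : Nat.card K₀ ≠ 1 := by
    rw [hcardK₀, Ne, Subgroup.index_eq_one]; exact hH₀.2.1
  obtain ⟨r, hr, hrd⟩ := Nat.exists_prime_and_dvd hK₀card1
  haveI : Fact r.Prime := ⟨hr⟩
  obtain ⟨R', hR'X⟩ := Helper24.exists_invariant_sylow (p := r) X K₀ hXK₀ hcopXK₀ (Or.inl hXsolv)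
  set R : Subgroup G := (R' : Subgroup K₀).map K₀.subtype with hR
  have hRK₀ : R ≤ K₀ := Subgroup.map_subtype_le _
  have hRpg : IsPGroup r R := R'.2.map _
  have hRne : R ≠ ⊥ := by
    intro h0
    apply R'.ne_bot_of_dvd_card hrd
    rw [hR] at h0
    exact (Subgroup.map_eq_bot_iff_of_injective _ K₀.subtype_injective).mp h0
  -- V = Z(R)
  set V : Subgroup G := R ⊓ Subgroup.centralizer (R : Set G) with hV
  have hVR : V ≤ R := inf_le_left
  have hVcomm : IsMulCommutative V := by
    refine ⟨⟨?_⟩⟩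
    rintro ⟨a, ha⟩ ⟨b, hb⟩
    apply Subtype.ext
    have h1 := (Subgroup.mem_inf.mp hb).2
    rw [Subgroup.mem_centralizer_iff] at h1
    exact h1 a (Subgroup.mem_inf.mp ha).1
  have hVne : V ≠ ⊥ := by
    haveI : Nontrivial R := (Subgroup.nontrivial_iff_ne_bot R).mpr hRne
    haveI := hRpg.center_nontrivial
    obtain ⟨z, hz⟩ := exists_ne (1 : Subgroup.center R)
    intro h0
    apply hz
    have hmem : ((z : R) : G) ∈ V := by
      refine Subgroup.mem_inf.mpr ⟨(z : R).2, ?_⟩
      rw [Subgroup.mem_centralizer_iff]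
      intro y hy
      have := (Subgroup.mem_center_iff.mp z.2) ⟨y, hy⟩
      exact congrArg Subtype.val this
    rw [h0, Subgroup.mem_bot] at hmem
    exact Subtype.ext (Subtype.ext hmem)
  have hXV : X ≤ Subgroup.normalizer (V : Set G) := by
    have key : ∀ x ∈ X, ∀ v ∈ V, x * v * x⁻¹ ∈ V := by
      intro x hx v hv
      have hxR := hR'X hx
      rw [Subgroup.mem_normalizer_iff] at hxR
      obtain ⟨hv1, hv2⟩ := Subgroup.mem_inf.mp hv
      rw [Subgroup.mem_centralizer_iff] at hv2
      refine Subgroup.mem_inf.mpr ⟨(hxR v).mp hv1, ?_⟩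
      rw [Subgroup.mem_centralizer_iff]
      intro y hy
      -- y = x (x⁻¹ y x) x⁻¹
      have hy' : x⁻¹ * y * x ∈ R := by
        have := (hxR (x⁻¹ * y * x)).mpr (by
          have e : x * (x⁻¹ * y * x) * x⁻¹ = y := by group
          rw [e]; exact hy)
        exact this
      have h1 := hv2 _ hy'
      calc y * (x * v * x⁻¹) = x * ((x⁻¹ * y * x) * v) * x⁻¹ := by group
        _ = x * (v * (x⁻¹ * y * x)) * x⁻¹ := by rw [h1]
        _ = x * v * x⁻¹ * y := by group
    intro x hx
    rw [Subgroup.mem_normalizer_iff]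
    intro v
    constructor
    · exact key x hx v
    · intro hv
      have := key x⁻¹ (X.inv_mem hx) _ hv
      simpa [mul_assoc] using this
  -- apply S0666
  have hcopV : (Nat.card V).Coprime (Nat.card (Cfsg.frobeniusKernel (A.subgroupOf X))) := by
    rw [hkerA]
    have h1 : Nat.card ((Q.subgroupOf X : Subgroup X) : Set X) = Nat.card Q :=
      Nat.card_congr (Subgroup.subgroupOfEquivOfLe hQX).toEquiv
    rw [h1, hnQ]
    apply Nat.Coprime.pow_right
    have hVdvd : Nat.card V ∣ Nat.card K₀ := Subgroup.card_dvd_of_le (hVR.trans hRK₀)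
    exact Nat.Coprime.coprime_dvd_left hVdvd ((Nat.Prime.coprime_iff_not_dvd hq).mpr hqK₀).symm
  have hCK : V ⊓ Subgroup.centralizer
      (Subtype.val '' Cfsg.frobeniusKernel (A.subgroupOf X) : Set G) = ⊥ := by
    rw [eq_bot_iff]
    intro v hv
    rw [Subgroup.mem_bot]
    obtain ⟨hv1, hv2⟩ := Subgroup.mem_inf.mp hv
    rw [Subgroup.mem_centralizer_iff] at hv2
    obtain ⟨y', hy'⟩ := (Subgroup.ne_bot_iff_exists_ne_one (H := Q)).mp hQne
    have hy1 : (y' : G) ≠ 1 := fun e => hy' (Subtype.ext e)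
    have hmem : (y' : G) ∈ (Subtype.val '' Cfsg.frobeniusKernel (A.subgroupOf X) : Set G) := by
      rw [hkerA]
      exact ⟨⟨(y' : G), hQX y'.2⟩, Subgroup.mem_subgroupOf.mpr y'.2, rfl⟩
    have hc := hv2 _ hmem
    exact hQfpf (y' : G) y'.2 hy1 v (hRK₀ (hVR hv1)) hc.symm
  have hres := Cfsg.Agent.S0666.result V X hVcomm hVne hXV (A.subgroupOf X) hFrobA hcopV hCK
  apply hres
  rw [eq_bot_iff]
  intro v hv
  rw [Subgroup.mem_bot]
  obtain ⟨hv1, hv2⟩ := Subgroup.mem_inf.mp hv
  rw [Subgroup.mem_centralizer_iff] at hv2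
  have hmem : h ∈ (((A.subgroupOf X).map X.subtype : Subgroup G) : Set G) := by
    rw [Subgroup.map_subgroupOf_eq_of_le hAX]
    exact Subgroup.mem_zpowers h
  have hc := hv2 h hmem
  exact hAfpf h (Subgroup.mem_zpowers h) hh1 v (hle (hRK₀ (hVR hv1))) hc.symm

/-- All Frobenius complements of a finite group are conjugate. -/
theorem frobenius_complements_conj [Finite G] (H H₀ : Subgroup G)
    (hH : Cfsg.IsFrobeniusComplement H) (hH₀ : Cfsg.IsFrobeniusComplement H₀) :
    ∃ g : G, MulAut.conj g • H₀ = H := by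
  obtain ⟨K, hK, hKn, hKc⟩ := frobenius_kernel_subgroup H hH
  obtain ⟨K₀, hK₀, hK₀n, hK₀c⟩ := frobenius_kernel_subgroup H₀ hH₀
  have hcmp := (Cfsg.Agent.S3383.result H hH K hK).2 K₀ hK₀n
  have hKeq : K = K₀ := by
    rcases hcmp with h | h
    · exact le_antisymm h (kernel_le_of_le H₀ H hH₀ hH K₀ K hK₀ hK hK₀n hKn hK₀c hKc h)
    · exact le_antisymm (kernel_le_of_le H H₀ hH hH₀ K K₀ hK hK₀ hKn hK₀n hKc hK₀c h) h
  have hkerEq : Cfsg.frobeniusKernel H₀ = Cfsg.frobeniusKernel H := by
    rw [← hK, ← hK₀, hKeq]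
  have hcard : Nat.card H₀ = Nat.card H := by
    have h1 := hKc.card_mul_card
    have h2 := hK₀c.card_mul_card
    rw [← hKeq] at h2
    have hpos : 0 < Nat.card K := Nat.card_pos
    exact Nat.eq_of_mul_eq_mul_left hpos (h2.trans h1.symm)
  have hall : ∀ x ∈ H₀, x ≠ 1 → ∃ g : G, x ∈ MulAut.conj g • H := by
    intro x hx hx1
    have h1 : x ∉ Cfsg.frobeniusKernel H₀ := by
      apply not_mem_kernel_of_mem_conj H₀ hx1 (g := 1)
      rw [Helper35.mem_conj_smul]
      simpa using hx
    rw [hkerEq] at h1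
    exact (exists_conj_of_not_mem_kernel H h1).2
  obtain ⟨g, hg⟩ := conj_of_forall_mem_conj H H₀ hH hcard hall
  refine ⟨g⁻¹, ?_⟩
  rw [hg, map_inv, inv_smul_smul]

end Cfsg.Agent.Lib.Helper96
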