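import Cfsg.Agent.Lib.Helper23.AlphaB
import Cfsg.Agent.Lib.Helper23.TypeP
import Cfsg.Agent.Lib.Helper64.BG9
import Cfsg.Agent.Lib.Helper24.BG121
import Cfsg.Agent.Lib.Helper24.SylowInv
import Cfsg.Agent.Lib.Helper24.InvCompl

set_option autoImplicit false
set_option linter.style.haveILetI false

/-!
# Bender–Glauberman Theorem 12.7

From the statements of BG 9.6, 10.1, 12.1, 12.4(a), 12.5(b), (c), (e).
-/

namespace Cfsg.Agent.Lib.Helper96.BG127

open Subgroup Cfsg Cfsg.Agent.Lib.Helper33 Cfsg.Agent.Lib.Helper63 Cfsg.Agent.Lib.Helper24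

universe u

variable {G : Type u} [Group G] [Finite G]

/-- BG 12.4(a) for `M`. -/
def Stmt124a (M : Subgroup G) : Prop :=
  ∀ (p : ℕ) [Fact p.Prime] (A : Subgroup G), A ≤ M → IsElementaryAbelian p A →
    Nat.card A = p ^ 2 → centralizer (A : Set G) ≤ M

/-- BG 12.5(b) for `M` (the part used here). -/
def Stmt125b (M : Subgroup G) : Prop :=
  ∀ (p : ℕ) [Fact p.Prime], p ∈ tau2 M → ∀ A : Subgroup G, A ≤ M → IsElementaryAbelian p A →
    Nat.card A = p ^ 2 → ∀ P : Sylow p M, IsMulCommutative (P : Subgroup M) ∧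
      (A ≤ (P : Subgroup M).map M.subtype →
        ∀ x ∈ (P : Subgroup M).map M.subtype, x ^ p = 1 ↔ x ∈ A)

/-- BG 12.5(c) for `M`. -/
def Stmt125c (M : Subgroup G) : Prop :=
  ∀ (p : ℕ) [Fact p.Prime], p ∈ tau2 M → ∀ A : Subgroup G, A ≤ M → IsElementaryAbelian p A →
    Nat.card A = p ^ 2 → M ≤ normalizer ((sigmaCore M ⊔ A : Subgroup G) : Set G)

/-- BG 12.5(e) for `M`. -/
def Stmt125e (M : Subgroup G) : Prop :=
  ∀ (p : ℕ) [Fact p.Prime], p ∈ tau2 M → ∀ A : Subgroup G, A ≤ M → IsElementaryAbelian p A →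
    Nat.card A = p ^ 2 → ∀ Mstar : Subgroup G, IsCoatom Mstar → Mstar ≠ M → A ≤ Mstar →
      sigmaCore M ⊓ Mstar = ⊥

/-- BG 10.1(e) for `M`. -/
def Stmt101e (M : Subgroup G) : Prop :=
  ∀ (p : ℕ) [Fact p.Prime], p ∈ sigma M → ∀ X : Subgroup G, IsPGroup p X → X ≠ ⊥ → X ≤ M →
    normalizer (X : Set G) = (M ⊓ normalizer (X : Set G)) ⊔ centralizer (X : Set G)

/-- A finite nilpotent group all of whose Sylow subgroups are commutative is commutative. -/
theorem comm_of_nilpotent_of_sylow_comm {X : Type*} [Group X] [Finite X]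
    (hn : Group.IsNilpotent X)
    (hc : ∀ (r : ℕ) [Fact r.Prime] (R : Sylow r X), ∀ a b : R, a * b = b * a) :
    ∀ a b : X, a * b = b * a := by
  have h3 : ∀ (p : ℕ) (_ : Fact p.Prime) (P : Sylow p X), (P : Subgroup X).Normal :=
    ((Group.isNilpotent_of_finite_tfae (G := X)).out 0 3).mp hn
  have hnorm : ∀ {p : ℕ} [Fact p.Prime] (P : Sylow p X), (P : Subgroup X).Normal := by
    intro p hp P
    exact h3 p hp P
  let e := Sylow.directProductOfNormal hnorm
  intro a b
  have h : e.symm a * e.symm b = e.symm b * e.symm a := by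
    funext p
    funext P
    haveI : Fact (p : ℕ).Prime := ⟨Nat.prime_of_mem_primeFactors p.2⟩
    exact hc p P _ _
  have h2 := congrArg e h
  simpa using h2

/-- Sylow `r`-subgroups of `M` are commutative for `r ∉ σ(M)`. -/
theorem sylow_comm_of_not_sigma (hG : IsMinSimpleOddOrder G) (hU : BG10.UniqStmt G)
    {M : Subgroup G} (hM : IsCoatom M) (h125 : Stmt125b M) {r : ℕ} [hrf : Fact r.Prime]
    (hrσ : r ∉ sigma M) (S : Sylow r M) : ∀ a b : (S : Subgroup M), a * b = b * a := by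
  have hr : r.Prime := hrf.out
  by_cases h1 : PRankLE r 1 M
  · by_cases hS : Nat.card (S : Subgroup M) = 1
    · intro a b
      haveI : Subsingleton (S : Subgroup M) := (Nat.card_eq_one_iff_unique.mp hS).1
      exact Subsingleton.elim _ _
    · have hrS : r ∣ Nat.card (S : Subgroup M) := by
        obtain ⟨k, hk⟩ := IsPGroup.iff_card.mp S.isPGroup'
        rcases Nat.eq_zero_or_pos k with rfl | hk0
        · exact absurd (by rw [hk, pow_zero]) hS
        · rw [hk]; exact dvd_pow_self r hk0.ne'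
      have hrG : r ∣ Nat.card G :=
        (hrS.trans (Subgroup.card_subgroup_dvd_card _)).trans (Subgroup.card_subgroup_dvd_card M)
      have hr2 : r ≠ 2 := BG10.ne_two_of_dvd hG hrG
      have hr1 : PRankLE r 1 ↥(S : Subgroup M) :=
        BG10.pRankLE_of_injective (S : Subgroup M).subtype (Subgroup.subtype_injective _) h1
      haveI : IsCyclic (S : Subgroup M) := by
        apply Cfsg.Agent.Lib.Helper49.isCyclic_of_isPGroup_rankLEOne hr2 S.isPGroup'
        intro A hA hAe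
        have := hr1 A hA hAe
        rwa [pow_one] at this
      intro a b
      letI := IsCyclic.commGroup (α := (S : Subgroup M))
      exact mul_comm a b
  · have h2 : PRankLE r 2 M := by
      by_contra h
      exact hrσ (Cfsg.Agent.Lib.Helper23.alpha_subset_sigma hG hU hM ⟨hr, h⟩)
    have hτ : r ∈ tau2 M := ⟨hr, hrσ, h2, h1⟩
    obtain ⟨A, hAM, hA, hAc⟩ := BG10.exists_elemAb_sq_le h1
    have := (h125 r hτ A hAM hA hAc S).1
    intro a b
    exact this.is_comm.comm a b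

/-- **BG 12.7(a)**: nilpotent `σ(M)'`-subgroups of `M` are abelian. -/
theorem part_a (hG : IsMinSimpleOddOrder G) (hU : BG10.UniqStmt G)
    {M : Subgroup G} (hM : IsCoatom M) (h125 : Stmt125b M) (N : Subgroup G) (hNM : N ≤ M)
    (hn : Group.IsNilpotent N) (hNσ : ∀ p : ℕ, p.Prime → p ∣ Nat.card N → p ∉ sigma M) :
    IsMulCommutative N := by
  refine ⟨⟨?_⟩⟩
  apply comm_of_nilpotent_of_sylow_comm hn
  intro r hrf R a b
  by_cases hrN : r ∣ Nat.card N
  · have hrσ := hNσ r hrf.out hrN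
    let ι : N →* M := Subgroup.inclusion hNM
    have hι : Function.Injective ι := Subgroup.inclusion_injective hNM
    have hRp : IsPGroup r ((R : Subgroup N).map ι) := R.isPGroup'.map ι
    obtain ⟨S, hS⟩ := hRp.exists_le_sylow
    have ha : ι a ∈ (S : Subgroup M) := hS ⟨a, a.2, rfl⟩
    have hb : ι b ∈ (S : Subgroup M) := hS ⟨b, b.2, rfl⟩
    have h := sylow_comm_of_not_sigma hG hU hM h125 hrσ S ⟨ι a, ha⟩ ⟨ι b, hb⟩
    have h2 : ι (a * b) = ι (b * a) := by
      rw [map_mul, map_mul]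
      exact congrArg Subtype.val h
    exact Subtype.ext (hι h2)
  · have h1 : Nat.card (R : Subgroup N) = 1 := by
      obtain ⟨k, hk⟩ := IsPGroup.iff_card.mp R.isPGroup'
      rcases Nat.eq_zero_or_pos k with rfl | hk0
      · rw [hk, pow_zero]
      · exfalso
        apply hrN
        have : r ∣ Nat.card (R : Subgroup N) := by rw [hk]; exact dvd_pow_self r hk0.ne'
        exact this.trans (Subgroup.card_subgroup_dvd_card _)
    haveI : Subsingleton (R : Subgroup N) := (Nat.card_eq_one_iff_unique.mp h1).1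
    exact Subsingleton.elim _ _


/-- the prime divisors of `|E|`, `E` a complement of `M_σ` in `M`, are not in `σ(M)` -/
theorem not_mem_sigma_of_dvd_card_compl {M E : Subgroup G}
    (hHall : IsPiHallOf (sigma M) (sigmaCore M) M) (hE : IsComplIn E (sigmaCore M) M)
    {q : ℕ} (hq : q.Prime) (hqE : q ∣ Nat.card E) : q ∉ sigma M := by
  intro hqσ
  apply hHall.2.2 q hq hqσ
  have h1 := Cfsg.Agent.Lib.Helper23.card_isComplIn hE
  have h2 := Subgroup.relIndex_mul_relIndex (⊥ : Subgroup G) (sigmaCore M) M bot_le hHall.1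
  rw [Subgroup.relIndex_bot_left, Subgroup.relIndex_bot_left] at h2
  have h3 : Nat.card E = (sigmaCore M).relIndex M := by
    have hpos : 0 < Nat.card (sigmaCore M) := Nat.card_pos
    have : Nat.card (sigmaCore M) * Nat.card E = Nat.card (sigmaCore M) * (sigmaCore M).relIndex M := by
      rw [h2, mul_comm, h1]
    exact Nat.eq_of_mul_eq_mul_left hpos this
  rw [← h3]
  exact hqE

/-- **BG 12.7(c)**. -/
theorem part_c (hG : IsMinSimpleOddOrder G) {M : Subgroup G} (h124 : Stmt124a M)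
    (h101 : Stmt101e M) (p : ℕ) (P : Subgroup G) (hp : p ∈ sigma M) (hPp : IsPGroup p P)
    (hPM : P ≤ M) (hnc : ¬ IsCyclic P) : normalizer (P : Set G) ≤ M := by
  haveI hpf : Fact p.Prime := ⟨hp.1⟩
  have hP1 : P ≠ ⊥ := by
    rintro rfl
    exact hnc inferInstance
  have hr := Cfsg.Agent.Lib.Helper64.BG9.not_rankLE_one_of_noncyclic hG P hPp hnc
  unfold RankLE at hr
  push Not at hr
  obtain ⟨q, hq, hrq⟩ := hr
  haveI : Fact q.Prime := ⟨hq⟩
  obtain ⟨B₀, hB₀, hB₀c⟩ := BG10.exists_of_not_pRankLE' hrq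
  -- `q = p`
  have hqp : q = p := by
    have hB₀q : IsPGroup q B₀ := fun b =>
      ⟨1, by rw [pow_one]; exact Subtype.ext (by simpa using hB₀.2 b.1 b.2)⟩
    obtain ⟨k, hk⟩ := IsPGroup.iff_card.mp hB₀q
    have hk0 : k ≠ 0 := by
      rintro rfl
      rw [pow_zero] at hk
      rw [hk, pow_one] at hB₀c
      have := hq.one_lt
      omega
    have h1 : q ∣ Nat.card B₀ := by rw [hk]; exact dvd_pow_self q hk0
    have h2 : q ∣ Nat.card P := h1.trans (Subgroup.card_subgroup_dvd_card _)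
    obtain ⟨n, hn⟩ := IsPGroup.iff_card.mp hPp
    rw [hn] at h2
    exact (Nat.prime_dvd_prime_iff_eq hq hp.1).mp (hq.dvd_of_dvd_pow h2)
  subst hqp
  have hBea : IsElementaryAbelian q (B₀.map P.subtype) := BG10.map_elemAb _ hB₀
  have hBc : q < Nat.card (B₀.map P.subtype) := by
    rw [card_map_of_injective P.subtype_injective]
    rwa [pow_one] at hB₀c
  obtain ⟨A, hAB, hA, hAc⟩ := BG10.exists_elemAb_sq hBea hBc
  have hAP : A ≤ P := hAB.trans (map_subtype_le _)
  have hCA : centralizer (A : Set G) ≤ M := h124 q A (hAP.trans hPM) hA hAc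
  have hCP : centralizer (P : Set G) ≤ M := (centralizer_le hAP).trans hCA
  rw [h101 q hp P hPp hP1 hPM]
  exact sup_le inf_le_left hCP


/-- a complement `E` of `M_σ` contains an elementary abelian subgroup of order `p²`, `p ∈ τ₂(M)` -/
theorem exists_elemAb_sq_le_compl {M E : Subgroup G} (hE : IsComplIn E (sigmaCore M) M) {p : ℕ}
    [hpf : Fact p.Prime] (hp : p ∈ tau2 M) :
    ∃ A : Subgroup G, A ≤ E ∧ IsElementaryAbelian p A ∧ Nat.card A = p ^ 2 := by
  have hpp : p.Prime := hpf.out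
  obtain ⟨-, hpσ, hp2, hp1⟩ := hp
  have hEM : E ≤ M := hE.1
  obtain ⟨Q⟩ : Nonempty (Sylow p E) := inferInstance
  obtain ⟨hQE, hQp, hQi⟩ := sylow_map_facts E Q
  set Q' := (Q : Subgroup E).map E.subtype with hQ'
  have hQM : Q' ≤ M := hQE.trans hEM
  have hidx : ¬ p ∣ Q'.relIndex M := by
    rw [← Subgroup.relIndex_mul_relIndex Q' E M hQE hEM]
    intro h
    rcases (Nat.Prime.dvd_mul hpp).mp h with h | h
    · exact hQi h
    · have h1 := Cfsg.Agent.Lib.Helper23.card_isComplIn hE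
      have h2 := Subgroup.relIndex_mul_relIndex (⊥ : Subgroup G) E M bot_le hEM
      rw [Subgroup.relIndex_bot_left, Subgroup.relIndex_bot_left] at h2
      have h3 : E.relIndex M = Nat.card (sigmaCore M) := by
        have hpos : 0 < Nat.card E := Nat.card_pos
        have : Nat.card E * E.relIndex M = Nat.card E * Nat.card (sigmaCore M) := by rw [h2, h1]
        exact Nat.eq_of_mul_eq_mul_left hpos this
      rw [h3] at h
      exact hpσ (BG.mem_sigma_of_dvd_card_sigmaCore M hpp h)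
  obtain ⟨S, hS⟩ := exists_sylow_map_eq M Q' hQM hQp hidx
  have hr1 : ¬ PRankLE p 1 ↥(S : Subgroup M) := fun h => hp1 (BG10.pRankLE_of_sylow p S h)
  obtain ⟨B, hB, hBc⟩ := BG10.exists_of_not_pRankLE' hr1
  have hBea : IsElementaryAbelian p ((B.map (S : Subgroup M).subtype).map M.subtype) :=
    BG10.map_elemAb _ (BG10.map_elemAb _ hB)
  have hBc' : p < Nat.card ((B.map (S : Subgroup M).subtype).map M.subtype) := by
    rw [card_map_of_injective M.subtype_injective,
      card_map_of_injective (Subgroup.subtype_injective _)]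
    rwa [pow_one] at hBc
  obtain ⟨A, hAB, hA, hAc⟩ := BG10.exists_elemAb_sq hBea hBc'
  have hAS : A ≤ (S : Subgroup M).map M.subtype :=
    hAB.trans (map_mono (map_subtype_le _))
  have hAQ' : A ≤ Q' := by rw [← hS]; exact hAS
  exact ⟨A, hAQ'.trans hQE, hA, hAc⟩

section pure

variable {H : Type*} [Group H]

/-- conjugation power formula -/
theorem conj_pow_mul_of_comm {x a u : H} (h : x * a * x⁻¹ = u * a) (hxu : x * u = u * x)
    (k : ℕ) : x ^ k * a * (x ^ k)⁻¹ = u ^ k * a := by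
  induction k with
  | zero => simp
  | succ k ih =>
    have h1 : x ^ (k + 1) * a * (x ^ (k + 1))⁻¹ = x * (x ^ k * a * (x ^ k)⁻¹) * x⁻¹ := by
      rw [pow_succ']; group
    rw [h1, ih]
    have h2 : x * (u ^ k * a) * x⁻¹ = (x * u ^ k * x⁻¹) * (x * a * x⁻¹) := by group
    rw [h2, h]
    have h3 : x * u ^ k * x⁻¹ = u ^ k := by
      have : Commute x (u ^ k) := (show Commute x u from hxu).pow_right k
      rw [this.eq]; group
    rw [h3, pow_succ, mul_assoc]

/-- An element `x` normalizing an elementary abelian group `A` of order `p²` and centralizing a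
nonidentity element `z` of `A`, such that `orderOf x` is prime to `p - 1` and some power `x ^ m`
with `p ∤ m` centralizes `A`, centralizes `A`. -/
theorem comm_of_coprime_pred [Finite H] {p : ℕ} [hp : Fact p.Prime] {A : Subgroup H}
    (hAcomm : ∀ a ∈ A, ∀ b ∈ A, a * b = b * a) (hAexp : ∀ a ∈ A, a ^ p = 1)
    (hAc : Nat.card A = p ^ 2) {x : H} (hxA : ∀ a ∈ A, x * a * x⁻¹ ∈ A) {z : H} (hzA : z ∈ A)
    (hz1 : z ≠ 1) (hxz : x * z = z * x) (hcop : (orderOf x).Coprime (p - 1)) {m : ℕ}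
    (hm : p.Coprime m) (hxm : ∀ a ∈ A, x ^ m * a = a * x ^ m) :
    ∀ a ∈ A, x * a = a * x := by
  have hpp := hp.out
  intro a haA
  set X := Subgroup.zpowers z with hX
  have hXA : X ≤ A := Subgroup.zpowers_le.mpr hzA
  have hxX : ∀ u ∈ X, x * u = u * x := by
    intro u hu
    obtain ⟨k, rfl⟩ := Subgroup.mem_zpowers_iff.mp hu
    exact ((show Commute x z from hxz).zpow_right k).eq
  by_cases haX : a ∈ X
  · exact hxX a haX
  have ha1 : a ≠ 1 := fun h => haX (h ▸ X.one_mem)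
  have hoa : orderOf a = p := orderOf_eq_prime (hAexp a haA) ha1
  have hoz : orderOf z = p := orderOf_eq_prime (hAexp z hzA) hz1
  set Y := Subgroup.zpowers a with hY
  have hYA : Y ≤ A := Subgroup.zpowers_le.mpr haA
  have hXc : Nat.card X = p := by rw [hX, Nat.card_zpowers, hoz]
  have hYc : Nat.card Y = p := by rw [hY, Nat.card_zpowers, hoa]
  have hXY : X ⊓ Y = ⊥ := by
    by_contra hne
    have hdvd : Nat.card ↥(X ⊓ Y) ∣ p := by
      rw [← hYc]; exact Subgroup.card_dvd_of_le inf_le_right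
    rcases (Nat.dvd_prime hpp).mp hdvd with h1 | h1
    · exact hne (Subgroup.card_eq_one.mp h1)
    · have h2 : X ⊓ Y = Y := Subgroup.eq_of_le_of_card_ge inf_le_right (by rw [h1, hYc])
      have h3 : a ∈ X ⊓ Y := by rw [h2]; exact Subgroup.mem_zpowers a
      exact haX h3.1
  have hdecomp : ∀ b ∈ A, ∃ u ∈ X, ∃ v ∈ Y, b = u * v := by
    let f : X × Y → A := fun uv => ⟨uv.1.1 * uv.2.1, A.mul_mem (hXA uv.1.2) (hYA uv.2.2)⟩
    have hf : Function.Injective f := by
      rintro ⟨⟨u, hu⟩, ⟨v, hv⟩⟩ ⟨⟨u', hu'⟩, ⟨v', hv'⟩⟩ heq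
      simp only [f, Subtype.mk.injEq] at heq
      have h1 : u'⁻¹ * u = v' * v⁻¹ := by
        have : u = u' * v' * v⁻¹ := by rw [← heq]; group
        rw [this]; group
      have h2 : u'⁻¹ * u ∈ X ⊓ Y :=
        ⟨X.mul_mem (X.inv_mem hu') hu, h1 ▸ Y.mul_mem hv' (Y.inv_mem hv)⟩
      rw [hXY, Subgroup.mem_bot] at h2
      have h3 : u = u' := by
        have := congrArg (fun t => u' * t) h2
        simpa using this
      subst h3
      have h4 : v = v' := by simpa using heq
      subst h4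
      rfl
    have hbij : Function.Bijective f := by
      apply Function.Injective.bijective_of_nat_card_le hf
      rw [Nat.card_prod, hXc, hYc, hAc, sq]
    intro b hb
    obtain ⟨⟨⟨u, hu⟩, ⟨v, hv⟩⟩, h⟩ := hbij.2 ⟨b, hb⟩
    exact ⟨u, hu, v, hv, by simpa [f] using (congrArg Subtype.val h).symm⟩
  obtain ⟨u, hu, v, hv, huv⟩ := hdecomp (x * a * x⁻¹) (hxA a haA)
  obtain ⟨j, rfl⟩ : ∃ j : ℕ, a ^ j = v := by
    have : v ∈ Submonoid.powers a :=
      (isOfFinOrder_of_finite a).mem_powers_iff_mem_zpowers.mpr hv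
    exact (Submonoid.mem_powers_iff _ _).mp this
  have hstep : ∀ k : ℕ, ∃ w ∈ X, x ^ k * a * (x ^ k)⁻¹ = w * a ^ (j ^ k) := by
    intro k
    induction k with
    | zero => exact ⟨1, X.one_mem, by simp⟩
    | succ k ih =>
      obtain ⟨w, hw, hk⟩ := ih
      refine ⟨w * u ^ (j ^ k), X.mul_mem hw (X.pow_mem hu _), ?_⟩
      have h1 : x ^ (k + 1) * a * (x ^ (k + 1))⁻¹ = x * (x ^ k * a * (x ^ k)⁻¹) * x⁻¹ := by
        rw [pow_succ']; group
      rw [h1, hk]
      have h2 : x * (w * a ^ (j ^ k)) * x⁻¹ = (x * w * x⁻¹) * (x * a * x⁻¹) ^ (j ^ k) := by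
        rw [conj_pow]; group
      rw [h2, huv]
      have h3 : x * w * x⁻¹ = w := by rw [hxX w hw]; group
      rw [h3]
      have hcomm : Commute u (a ^ j) := hAcomm u (hXA hu) (a ^ j) (A.pow_mem haA j)
      rw [hcomm.mul_pow, ← pow_mul, mul_assoc, pow_succ']
  obtain ⟨w, hw, hn⟩ := hstep (orderOf x)
  rw [pow_orderOf_eq_one] at hn
  simp only [one_mul, inv_one, mul_one] at hn
  have hw1 : w = 1 := by
    have hwY : w ∈ Y := by
      have : w = a * (a ^ (j ^ orderOf x))⁻¹ := by rw [eq_mul_inv_iff_mul_eq]; exact hn.symm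
      rw [this]
      exact Y.mul_mem (Subgroup.mem_zpowers a)
        (Y.inv_mem (Y.pow_mem (Subgroup.mem_zpowers a) _))
    have : w ∈ X ⊓ Y := ⟨hw, hwY⟩
    rwa [hXY, Subgroup.mem_bot] at this
  rw [hw1, one_mul] at hn
  have hmod : j ^ orderOf x ≡ 1 [MOD p] := by
    have : a ^ (j ^ orderOf x) = a ^ 1 := by rw [pow_one]; exact hn.symm
    rw [pow_eq_pow_iff_modEq, hoa] at this
    exact this
  have hj1 : j ≡ 1 [MOD p] := by
    have hz : ((j : ZMod p)) ^ orderOf x = 1 := by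
      have := (ZMod.natCast_eq_natCast_iff _ _ p).mpr hmod
      simpa using this
    have hj0 : (j : ZMod p) ≠ 0 := by
      intro h0
      rw [h0, zero_pow (orderOf_pos x).ne'] at hz
      exact zero_ne_one hz
    have hf : (j : ZMod p) ^ (p - 1) = 1 := ZMod.pow_card_sub_one_eq_one hj0
    have hg := pow_gcd_eq_one.mpr ⟨hz, hf⟩
    rw [Nat.Coprime] at hcop
    rw [hcop, pow_one] at hg
    have : ((j : ℕ) : ZMod p) = ((1 : ℕ) : ZMod p) := by simpa using hg
    exact (ZMod.natCast_eq_natCast_iff _ _ p).mp this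
  have haj : a ^ j = a := by
    have : a ^ j = a ^ 1 := by rw [pow_eq_pow_iff_modEq, hoa]; exact hj1
    rwa [pow_one] at this
  rw [haj] at huv
  have h7 := conj_pow_mul_of_comm huv (hxX u hu) m
  have h8 : x ^ m * a * (x ^ m)⁻¹ = a := by rw [hxm a haA]; group
  rw [h8] at h7
  have hum : u ^ m = 1 := by
    have := congrArg (· * a⁻¹) h7
    simpa using this.symm
  have hup : u ^ p = 1 := hAexp u (hXA hu)
  have hu1 : u = 1 := by
    have := pow_gcd_eq_one.mpr ⟨hum, hup⟩
    rw [Nat.Coprime.gcd_eq_one hm.symm, pow_one] at this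
    exact this
  rw [hu1, one_mul] at huv
  calc x * a = (x * a * x⁻¹) * x := by group
    _ = a * x := by rw [huv]

end pure

/-- A `σ(M)'`-element of `M` lies in some complement of `M_σ` in `M`. -/
theorem exists_compl_mem {M E : Subgroup G} (hE : IsComplIn E (sigmaCore M) M) {x : G}
    (hxM : x ∈ M) (hcop : (orderOf x).Coprime (Nat.card (sigmaCore M))) :
    ∃ E' : Subgroup G, IsComplIn E' (sigmaCore M) M ∧ x ∈ E' := by
  obtain ⟨hEM, hNM, hEN, hprod⟩ := hE
  set N := sigmaCore M with hN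
  set H₁ := zpowers x with hH₁
  set Y := H₁ ⊔ N with hY
  set H₂ := E ⊓ Y with hH₂
  have hMN : M ≤ normalizer (N : Set G) := BG.le_normalizer_sigmaCore M
  have h₁ : H₁ ≤ normalizer (N : Set G) := zpowers_le.mpr (hMN hxM)
  have hcop' : (Nat.card H₁).Coprime (Nat.card N) := by rwa [hH₁, Nat.card_zpowers]
  have hYM : Y ≤ M := sup_le (zpowers_le.mpr hxM) hNM
  have hsolv : Group.IsSolvable H₁ := by
    apply Group.isSolvable_of_comm
    intro a b
    obtain ⟨a, ha⟩ := a
    obtain ⟨b, hb⟩ := b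
    obtain ⟨i, rfl⟩ := mem_zpowers_iff.mp ha
    obtain ⟨k, rfl⟩ := mem_zpowers_iff.mp hb
    apply Subtype.ext
    show x ^ i * x ^ k = x ^ k * x ^ i
    rw [← zpow_add, ← zpow_add, add_comm]
  have hc1 : IsComplIn H₁ N Y := by
    refine ⟨le_sup_left, le_sup_right, (Subgroup.disjoint_of_coprime_natCard hcop').eq_bot, ?_⟩
    intro y hy
    exact exists_mul_of_mem_sup_of_le_normalizer H₁ N h₁ y hy
  have hc2 : IsComplIn H₂ N Y := by
    refine ⟨inf_le_right, le_sup_right, ?_, ?_⟩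
    · rw [eq_bot_iff, ← hEN]
      exact inf_le_inf_right _ inf_le_left
    · intro y hy
      obtain ⟨e, he, s, hs, rfl⟩ := hprod y (hYM hy)
      refine ⟨e, ⟨he, ?_⟩, s, hs, rfl⟩
      have : e = (e * s) * s⁻¹ := by group
      rw [this]
      exact Y.mul_mem hy (Y.inv_mem ((le_sup_right : N ≤ Y) hs))
  have hcard : Nat.card H₂ = Nat.card H₁ := by
    have e1 := Cfsg.Agent.Lib.Helper23.card_isComplIn hc1
    have e2 := Cfsg.Agent.Lib.Helper23.card_isComplIn hc2
    have hpos : 0 < Nat.card N := Nat.card_pos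
    exact Nat.eq_of_mul_eq_mul_right hpos (e2.trans e1.symm)
  obtain ⟨n, hn, hconj⟩ := rel_sz_conj N H₁ H₂ h₁ hcop' (Or.inr hsolv) inf_le_right hcard
  have hnM : n ∈ M := hNM hn
  have hnx : n * x * n⁻¹ ∈ E := by
    have : n * x * n⁻¹ ∈ cj n H₁ := mem_cj'.mpr ⟨x, mem_zpowers x, rfl⟩
    rw [hconj] at this
    exact this.1
  refine ⟨cj n⁻¹ E, ⟨?_, hNM, ?_, ?_⟩, ?_⟩
  · rw [cj_le_iff, inv_inv, cj_eq_self_of_mem hnM]
    exact hEM
  · have hNn : cj n⁻¹ N = N := cj_eq_self_of_mem (N.inv_mem hn)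
    rw [← hNn, ← cj_inf, hEN, cj_bot]
  · intro m hm
    obtain ⟨e, he, s, hs, hes⟩ := hprod (n * m * n⁻¹) (M.mul_mem (M.mul_mem hnM hm) (M.inv_mem hnM))
    refine ⟨n⁻¹ * e * n, ?_, n⁻¹ * s * n, ?_, ?_⟩
    · rw [mem_cj, inv_inv]
      have : n * (n⁻¹ * e * n) * n⁻¹ = e := by group
      rw [this]; exact he
    · have h1 := (mem_normalizer_iff.mp (hMN (M.inv_mem hnM)) s).mp hs
      simpa using h1
    · have : m = n⁻¹ * (n * m * n⁻¹) * n := by group
      rw [this, hes]; group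
  · rw [mem_cj, inv_inv]
    exact hnx

/-- **BG 12.7(d)** for an element of a complement `E`. -/
theorem part_d_of_mem (hG : IsMinSimpleOddOrder G) {M : Subgroup G}
    (h125 : Stmt125b M) (h125c : Stmt125c M) (h125e : Stmt125e M)
    {E : Subgroup G} (hE : IsComplIn E (sigmaCore M) M) {x : G} (hxE : x ∈ E) (hx1 : x ≠ 1)
    (hτ : ∀ p : ℕ, p.Prime → p ∣ orderOf x → p ∈ tau2 M) (hxσ : x ∈ sigmaHat M) :
    centralizer ({x} : Set G) ≤ M ∧
      ∀ L : Subgroup G, IsCoatom L → centralizer ({x} : Set G) ≤ L → L = M := by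
  have hEM : E ≤ M := hE.1
  have hn1 : orderOf x ≠ 1 := fun h => hx1 (orderOf_eq_one_iff.mp h)
  have hn0 : orderOf x ≠ 0 := (orderOf_pos x).ne'
  set p := (orderOf x).minFac with hpdef
  have hpp : p.Prime := Nat.minFac_prime hn1
  have hpn : p ∣ orderOf x := Nat.minFac_dvd _
  have hp : p ∈ tau2 M := hτ p hpp hpn
  haveI hpf : Fact p.Prime := ⟨hpp⟩
  obtain ⟨A, hAE, hA, hAc⟩ := exists_elemAb_sq_le_compl hE hp
  have hAM : A ≤ M := hAE.trans hEM
  have hAcomm : ∀ a ∈ A, ∀ b ∈ A, a * b = b * a := by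
    intro a ha b hb
    have := hA.1.is_comm.comm (⟨a, ha⟩ : A) ⟨b, hb⟩
    exact congrArg Subtype.val this
  -- `A` is normal in `E`
  have hEA : ∀ e ∈ E, ∀ a ∈ A, e * a * e⁻¹ ∈ A := by
    intro e he a ha
    have hnorm := h125c p hp A hAM hA hAc (hEM he)
    have h1 : e * a * e⁻¹ ∈ sigmaCore M ⊔ A :=
      (mem_normalizer_iff.mp hnorm a).mp ((le_sup_right : A ≤ sigmaCore M ⊔ A) ha)
    rw [sup_comm] at h1
    have hAN : A ≤ normalizer ((sigmaCore M : Subgroup G) : Set G) :=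
      hAM.trans (BG.le_normalizer_sigmaCore M)
    obtain ⟨a', ha', s, hs, heq⟩ :=
      exists_mul_of_mem_sup_of_le_normalizer A (sigmaCore M) hAN _ h1
    have hsE : s ∈ E := by
      have : s = a'⁻¹ * (e * a * e⁻¹) := by rw [heq]; group
      rw [this]
      exact E.mul_mem (E.inv_mem (hAE ha'))
        (E.mul_mem (E.mul_mem he (hAE ha)) (E.inv_mem he))
    have hs1 : s = 1 := by
      have : s ∈ E ⊓ sigmaCore M := ⟨hsE, hs⟩
      rwa [hE.2.2.1, mem_bot] at this
    rw [heq, hs1, mul_one]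
    exact ha'
  have hEnorm : E ≤ normalizer (A : Set G) := by
    intro e he
    rw [mem_normalizer_iff]
    intro h
    refine ⟨fun hh => hEA e he h hh, fun hh => ?_⟩
    have := hEA e⁻¹ (E.inv_mem he) _ hh
    have h2 : e⁻¹ * (e * h * e⁻¹) * e⁻¹⁻¹ = h := by group
    rwa [h2] at this
  -- the `p`-part of `x`
  set n := orderOf x with hn
  have hv : n.factorization p ≠ 0 := (Nat.Prime.factorization_pos_of_dvd hpp hn0 hpn).ne'
  obtain ⟨k, hk⟩ := Nat.exists_eq_succ_of_ne_zero hv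
  set m := n / p ^ (n.factorization p) with hm
  have hnm : p ^ (k + 1) * m = n := by
    rw [hm, ← Nat.succ_eq_add_one, ← hk]
    exact Nat.ordProj_mul_ordCompl_eq_self n p
  have hpm : p.Coprime m := by
    rw [hm]
    exact Nat.coprime_ordCompl hpp hn0
  set y := x ^ m with hy
  have hyE : y ∈ E := E.pow_mem hxE m
  have hy1 : y ^ (p ^ (k + 1)) = 1 := by
    rw [hy, ← pow_mul, mul_comm, hnm, hn, pow_orderOf_eq_one]
  set z := y ^ (p ^ k) with hz
  have hzp : z ^ p = 1 := by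
    rw [hz, ← pow_mul, ← pow_succ, hy1]
  have hz1 : z ≠ 1 := by
    rw [hz, hy, ← pow_mul]
    apply pow_ne_one_of_lt_orderOf
    · have hm0 : m ≠ 0 := by
        rintro h0
        rw [h0, mul_zero] at hnm
        exact hn0 hnm.symm
      exact mul_ne_zero hm0 (pow_ne_zero _ hpp.ne_zero)
    · rw [← hn, ← hnm, pow_succ, mul_comm m, mul_assoc]
      have hpos : 0 < p ^ k * m := by
        apply Nat.mul_pos (pow_pos hpp.pos _)
        rcases Nat.eq_zero_or_pos m with h0 | h0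
        · rw [h0, mul_zero] at hnm; exact absurd hnm.symm hn0
        · exact h0
      calc p ^ k * m = 1 * (p ^ k * m) := (one_mul _).symm
        _ < p * (p ^ k * m) := Nat.mul_lt_mul_of_pos_right hpp.one_lt hpos
        _ = p ^ k * (p * m) := by ring
  have hYp : IsPGroup p (zpowers y) := by
    rintro ⟨g, hg⟩
    obtain ⟨i, rfl⟩ := mem_zpowers_iff.mp hg
    refine ⟨k + 1, Subtype.ext ?_⟩
    show (y ^ i) ^ (p ^ (k + 1)) = 1
    rw [← zpow_natCast, ← zpow_mul, mul_comm, zpow_mul, zpow_natCast, hy1, one_zpow]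
  have hAp : IsPGroup p A := IsPGroup.of_card hAc
  have hYA : zpowers y ≤ normalizer (A : Set G) := zpowers_le.mpr (hEnorm hyE)
  have hKp : IsPGroup p (zpowers y ⊔ A : Subgroup G) := hYp.to_sup_of_normal_right' hAp hYA
  have hKM : zpowers y ⊔ A ≤ M := sup_le (zpowers_le.mpr (hEM hyE)) hAM
  obtain ⟨P, hP⟩ := (hKp.comap_subtype (K := M)).exists_le_sylow
  have hKP : zpowers y ⊔ A ≤ (P : Subgroup M).map M.subtype := by
    intro g hg
    exact ⟨⟨g, hKM hg⟩, hP (by simpa [mem_subgroupOf] using hg), rfl⟩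
  have hAP : A ≤ (P : Subgroup M).map M.subtype := le_sup_right.trans hKP
  obtain ⟨hPcomm, hΩ⟩ := h125 p hp A hAM hA hAc P
  have hΩ' := hΩ hAP
  have hyP : y ∈ (P : Subgroup M).map M.subtype := hKP ((le_sup_left : zpowers y ≤ zpowers y ⊔ A) (mem_zpowers y))
  have hzA : z ∈ A := by
    have hzP : z ∈ (P : Subgroup M).map M.subtype := (P : Subgroup M).map M.subtype |>.pow_mem hyP _
    exact (hΩ' z hzP).mp hzp
  have hyA : ∀ a ∈ A, y * a = a * y := by
    intro a ha
    obtain ⟨y', hy'P, hy'⟩ := hyP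
    obtain ⟨a', ha'P, ha'⟩ := hAP ha
    have := hPcomm.is_comm.comm (⟨y', hy'P⟩ : (P : Subgroup M)) ⟨a', ha'P⟩
    have h2 : y' * a' = a' * y' := congrArg Subtype.val this
    rw [← hy', ← ha']
    exact congrArg M.subtype h2
  have hxz : x * z = z * x := by
    rw [hz, hy, ← pow_mul]
    exact ((Commute.refl x).pow_right _).eq
  have hcop : n.Coprime (p - 1) := by
    apply Nat.coprime_of_lt_minFac
    · have := hpp.two_le; omega
    · rw [← hpdef]; have := hpp.pos; omega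
  have hxA : ∀ a ∈ A, x * a = a * x :=
    comm_of_coprime_pred hAcomm hA.2 hAc (hEA x hxE) hzA hz1 hxz hcop hpm hyA
  have hAC : A ≤ centralizer ({x} : Set G) := by
    intro a ha
    rw [mem_centralizer_iff]
    intro h hh
    rw [Set.mem_singleton_iff] at hh
    subst hh
    exact hxA a ha
  have huniq : ∀ L : Subgroup G, IsCoatom L → centralizer ({x} : Set G) ≤ L → L = M := by
    intro L hL hCL
    by_contra hne
    have hbot := h125e p hp A hAM hA hAc L hL hne (hAC.trans hCL)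
    obtain ⟨-, y', hy'σ, hy'1, hy'c⟩ := hxσ
    have : y' ∈ sigmaCore M ⊓ L := by
      refine ⟨hy'σ, hCL ?_⟩
      rw [mem_centralizer_iff]
      intro h hh
      rw [Set.mem_singleton_iff] at hh
      subst hh
      exact hy'c
    rw [hbot, mem_bot] at this
    exact hy'1 this
  refine ⟨?_, huniq⟩
  obtain ⟨L, hL, hle⟩ := Cfsg.Agent.Lib.Helper64.BG9.exists_coatom_ge
    (Cfsg.Agent.Lib.Helper64.BG9.centralizer_singleton_ne_top hG hx1)
  rw [← huniq L hL hle]
  exact hle

/-- **BG 12.7(d)**. -/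
theorem part_d (hG : IsMinSimpleOddOrder G) {M : Subgroup G}
    (hHall : IsPiHallOf (sigma M) (sigmaCore M) M)
    (h125 : Stmt125b M) (h125c : Stmt125c M) (h125e : Stmt125e M)
    {E : Subgroup G} (hE : IsComplIn E (sigmaCore M) M) {x : G} (hxM : x ∈ M) (hx1 : x ≠ 1)
    (hτ : ∀ p : ℕ, p.Prime → p ∣ orderOf x → p ∈ tau2 M) (hxσ : x ∈ sigmaHat M) :
    centralizer ({x} : Set G) ≤ M ∧
      ∀ L : Subgroup G, IsCoatom L → centralizer ({x} : Set G) ≤ L → L = M := by
  have hcop : (orderOf x).Coprime (Nat.card (sigmaCore M)) := by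
    apply Nat.coprime_of_dvd
    intro q hq hqx hqσ
    exact (hτ q hq hqx).2.1 (hHall.2.1 q hq hqσ)
  obtain ⟨E', hE', hxE'⟩ := exists_compl_mem hE hxM hcop
  exact part_d_of_mem hG h125 h125c h125e hE' hxE' hx1 hτ hxσ

/-- **BG 12.7(b)**: `E'` is abelian. -/
theorem part_b (hG : IsMinSimpleOddOrder G) (hU : BG10.UniqStmt G)
    {M : Subgroup G} (hM : IsCoatom M) (hHall : IsPiHallOf (sigma M) (sigmaCore M) M)
    (h125 : Stmt125b M) {E : Subgroup G} (hE : IsComplIn E (sigmaCore M) M)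
    (hnil : Group.IsNilpotent ↥⁅E, E⁆) : IsMulCommutative ↥⁅E, E⁆ := by
  have hle : ⁅E, E⁆ ≤ E := Subgroup.commutator_le.mpr fun a ha b hb =>
    E.mul_mem (E.mul_mem (E.mul_mem ha hb) (E.inv_mem ha)) (E.inv_mem hb)
  apply part_a hG hU hM h125 ⁅E, E⁆ (hle.trans hE.1) hnil
  intro q hq hqd
  exact not_mem_sigma_of_dvd_card_compl hHall hE hq (hqd.trans (Subgroup.card_dvd_of_le hle))

/-- **BG Theorem 12.7**, from the statements of BG 9.6, 10.1(e), 12.1, 12.4(a), 12.5(b),(c),(e) and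
the Hall property of `M_σ`. -/
theorem bg12_7 (hG : IsMinSimpleOddOrder G) (hU : BG10.UniqStmt G)
    {M : Subgroup G} (hM : IsCoatom M) (hHall : IsPiHallOf (sigma M) (sigmaCore M) M)
    (h101 : Stmt101e M) (h124 : Stmt124a M)
    (h125 : Stmt125b M) (h125c : Stmt125c M) (h125e : Stmt125e M)
    {E : Subgroup G} (hE : IsComplIn E (sigmaCore M) M) (hnil : Group.IsNilpotent ↥⁅E, E⁆) :
    (∀ N : Subgroup G, N ≤ M → Group.IsNilpotent N →
        (∀ p : ℕ, p.Prime → p ∣ Nat.card N → p ∉ sigma M) → IsMulCommutative N) ∧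
      IsMulCommutative ↥⁅E, E⁆ ∧
      (∀ (p : ℕ) (P : Subgroup G), p ∈ sigma M → IsPGroup p P → P ≤ M → ¬ IsCyclic P →
        normalizer (P : Set G) ≤ M) ∧
      ∀ x ∈ M, x ≠ 1 → (∀ p : ℕ, p.Prime → p ∣ orderOf x → p ∈ tau2 M) → x ∈ sigmaHat M →
        centralizer ({x} : Set G) ≤ M ∧
          ∀ L : Subgroup G, IsCoatom L → centralizer ({x} : Set G) ≤ L → L = M :=
  ⟨fun N hNM hn hNσ => part_a hG hU hM h125 N hNM hn hNσ,
   part_b hG hU hM hHall h125 hE hnil,
   fun p P hp hPp hPM hnc => part_c hG h124 h101 p P hp hPp hPM hnc,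
   fun _ hxM hx1 hτ hxσ => part_d hG hHall h125 h125c h125e hE hxM hx1 hτ hxσ⟩

end Cfsg.Agent.Lib.Helper96.BG127
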