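import Mathlib
import Cfsg.Prelude.Def_Transfer

set_option autoImplicit false

/-!
# BG 11.5, piece (P2): the centralizer of a self-centralizing `E_{p²}` in a rank-2 Sylow subgroup

`S = P₁ P₂` (central product, `P₁` of order `p³` and exponent `p`, `P₂` cyclic with
`Ω₁(P₂) = Z(P₁)`), `A ≤ S` elementary abelian of order `p²`.  Then `C_S(A)` is abelian.
-/

namespace Cfsg.Agent.Lib.Helper96.BG115

open Subgroup

/-- If `P₁` and `P₂` commute elementwise, every element of `P₁ ⊔ P₂` is a product. -/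
theorem exists_mul_of_mem_sup_of_comm {G : Type*} [Group G] {P₁ P₂ : Subgroup G}
    (hcomm : ∀ a ∈ P₁, ∀ b ∈ P₂, a * b = b * a) {s : G} (hs : s ∈ P₁ ⊔ P₂) :
    ∃ a ∈ P₁, ∃ b ∈ P₂, s = a * b := by
  let T : Subgroup G :=
    { carrier := {x | ∃ a ∈ P₁, ∃ b ∈ P₂, x = a * b}
      mul_mem' := by
        rintro _ _ ⟨a, ha, b, hb, rfl⟩ ⟨a', ha', b', hb', rfl⟩
        refine ⟨a * a', P₁.mul_mem ha ha', b * b', P₂.mul_mem hb hb', ?_⟩
        have h := hcomm a' ha' b hb
        calc a * b * (a' * b') = a * (b * a') * b' := by group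
          _ = a * (a' * b) * b' := by rw [h]
          _ = a * a' * (b * b') := by group
      one_mem' := ⟨1, P₁.one_mem, 1, P₂.one_mem, by simp⟩
      inv_mem' := by
        rintro _ ⟨a, ha, b, hb, rfl⟩
        refine ⟨a⁻¹, P₁.inv_mem ha, b⁻¹, P₂.inv_mem hb, ?_⟩
        have h := hcomm a ha b hb
        have h2 : a⁻¹ * b⁻¹ = b⁻¹ * a⁻¹ := by
          have := congrArg (·⁻¹) h
          simpa [mul_inv_rev] using this.symm
        rw [mul_inv_rev, h2] }
  have hle : P₁ ⊔ P₂ ≤ T := by
    apply sup_le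
    · intro a ha; exact ⟨a, ha, 1, P₂.one_mem, by simp⟩
    · intro b hb; exact ⟨1, P₁.one_mem, b, hb, by simp⟩
  exact hle hs

/-- **BG 11.5 (P2)**. (`hmax` is not needed.) -/
theorem cent_comm_rank2 {G : Type*} [Group G] [Finite G] {p : ℕ} [Fact p.Prime]
    {S P₁ P₂ A : Subgroup G} (h12 : P₁ ⊔ P₂ = S) (hcomm : ∀ a ∈ P₁, ∀ b ∈ P₂, a * b = b * a)
    (hP₁ : Nat.card P₁ = p ^ 3) (hexp : Monoid.exponent P₁ = p) (hcyc : IsCyclic P₂)
    (hΩ : Subgroup.closure {x : G | x ∈ P₂ ∧ x ^ p = 1} = P₁ ⊓ Subgroup.centralizer (P₁ : Set G))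
    (hAS : A ≤ S) (hA : Cfsg.IsElementaryAbelian p A) (hcard : Nat.card A = p ^ 2)
    (_hmax : ∀ B : Subgroup G, Cfsg.IsElementaryAbelian p B → A ≤ B → B = A) :
    ∀ x ∈ S ⊓ Subgroup.centralizer (A : Set G), ∀ y ∈ S ⊓ Subgroup.centralizer (A : Set G),
      x * y = y * x := by
  have hpp : p.Prime := Fact.out
  -- elements of `P₁` have order dividing `p`
  have hP₁exp : ∀ a ∈ P₁, a ^ p = 1 := by
    intro a ha
    have := Monoid.pow_exponent_eq_one (⟨a, ha⟩ : P₁)
    rw [hexp] at this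
    exact congrArg Subtype.val this
  -- `A ≤ P₁`
  have hAP₁ : A ≤ P₁ := by
    intro s hs
    obtain ⟨a, ha, b, hb, rfl⟩ := exists_mul_of_mem_sup_of_comm hcomm (h12 ▸ hAS hs)
    have h1 : (a * b) ^ p = 1 := hA.2 _ hs
    rw [(show Commute a b from hcomm a ha b hb).mul_pow, hP₁exp a ha, one_mul] at h1
    have hb' : b ∈ Subgroup.closure {x : G | x ∈ P₂ ∧ x ^ p = 1} :=
      Subgroup.subset_closure ⟨hb, h1⟩
    rw [hΩ] at hb'
    exact P₁.mul_mem ha hb'.1
  -- `P₂` is commutative
  have hP₂comm : ∀ b ∈ P₂, ∀ b' ∈ P₂, b * b' = b' * b := by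
    intro b hb b' hb'
    let _ := IsCyclic.commGroup (α := P₂)
    have := mul_comm (⟨b, hb⟩ : P₂) ⟨b', hb'⟩
    exact congrArg Subtype.val this
  -- `C_{P₁}(A)` is commutative
  have key : ∀ a ∈ P₁, a ∈ centralizer (A : Set G) → ∀ a' ∈ P₁, a' ∈ centralizer (A : Set G) →
      a * a' = a' * a := by
    intro a ha haC a' ha' ha'C
    by_cases haA : a ∈ A
    · exact mem_centralizer_iff.mp ha'C a haA
    · set T := A ⊔ zpowers a with hT
      have hAT : A ≤ T := le_sup_left
      have hTP : T ≤ P₁ := sup_le hAP₁ (zpowers_le.mpr ha)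
      have hTeq : T = P₁ := by
        have hd1 : Nat.card T ∣ p ^ 3 := hP₁ ▸ Subgroup.card_dvd_of_le hTP
        have hd2 : p ^ 2 ∣ Nat.card T := hcard ▸ Subgroup.card_dvd_of_le hAT
        obtain ⟨k, hk3, hk⟩ := (Nat.dvd_prime_pow hpp).mp hd1
        rw [hk] at hd2
        have hk2 : 2 ≤ k := (Nat.pow_dvd_pow_iff_le_right hpp.one_lt).mp hd2
        have hkne : k ≠ 2 := by
          rintro rfl
          have : A = T := Subgroup.eq_of_le_of_card_ge hAT (by rw [hk, hcard])
          apply haA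
          rw [this]
          exact (le_sup_right : zpowers a ≤ T) (mem_zpowers a)
        have hk3' : k = 3 := by omega
        exact Subgroup.eq_of_le_of_card_ge hTP (by rw [hk, hk3', hP₁])
      have hTC : T ≤ centralizer ({a} : Set G) := by
        apply sup_le
        · intro h hh
          rw [mem_centralizer_iff]
          intro g hg
          rw [Set.mem_singleton_iff] at hg
          subst hg
          exact (mem_centralizer_iff.mp haC h hh).symm
        · rw [zpowers_le]
          rw [mem_centralizer_iff]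
          intro g hg
          rw [Set.mem_singleton_iff] at hg
          subst hg
          rfl
      have h1 : a' ∈ centralizer ({a} : Set G) := hTC (hTeq ▸ ha')
      exact mem_centralizer_iff.mp h1 a rfl
  -- elements of `P₂` centralize `A`
  have hP₂C : ∀ b ∈ P₂, b ∈ centralizer (A : Set G) := by
    intro b hb
    rw [mem_centralizer_iff]
    intro h hh
    exact hcomm h (hAP₁ hh) b hb
  rintro x ⟨hxS, hxC⟩ y ⟨hyS, hyC⟩
  obtain ⟨a, ha, b, hb, rfl⟩ := exists_mul_of_mem_sup_of_comm hcomm (h12 ▸ hxS)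
  obtain ⟨a', ha', b', hb', rfl⟩ := exists_mul_of_mem_sup_of_comm hcomm (h12 ▸ hyS)
  have haC : a ∈ centralizer (A : Set G) := by
    have : a = (a * b) * b⁻¹ := by group
    rw [this]
    exact (centralizer (A : Set G)).mul_mem hxC ((centralizer (A : Set G)).inv_mem (hP₂C b hb))
  have ha'C : a' ∈ centralizer (A : Set G) := by
    have : a' = (a' * b') * b'⁻¹ := by group
    rw [this]
    exact (centralizer (A : Set G)).mul_mem hyC ((centralizer (A : Set G)).inv_mem (hP₂C b' hb'))
  have e1 := key a ha haC a' ha' ha'C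
  have e2 := hcomm a' ha' b hb
  have e3 := hcomm a ha b' hb'
  have e4 := hP₂comm b hb b' hb'
  calc a * b * (a' * b') = a * (b * a') * b' := by group
    _ = a * (a' * b) * b' := by rw [e2]
    _ = (a * a') * (b * b') := by group
    _ = (a' * a) * (b' * b) := by rw [e1, e4]
    _ = a' * (a * b') * b := by group
    _ = a' * (b' * a) * b := by rw [e3]
    _ = a' * b' * (a * b) := by group

end Cfsg.Agent.Lib.Helper96.BG115
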