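import Mathlib
import Cfsg.Agent.Lib.Helper24.Lifting

/-!
# A subgroup of full exponent with prescribed elements of prime order

`U = N ⋊ H` with `N` abelian, `(|N|, |H|) = 1`.  For every prime `p ∣ |N|` let `l p ≤ N` be an
`H`-invariant subgroup of order `p` containing a nontrivial `p ^ (a p - 1)`-th power of an element
of the `p`-part of `N`, where `p ^ a p` is (a bound for) the exponent of the `p`-part of `N`.
Then there is `U₀ ≤ U` containing `H`, of the same exponent as `U`, all of whose elements of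
prime order `p ∣ |N|` lie in `l p`.
-/

set_option autoImplicit false
set_option linter.unusedSectionVars false
set_option linter.unusedVariables false
set_option linter.style.haveILetI false

namespace Cfsg.Agent.Lib.Helper96.E0Abs

open Subgroup

variable {G : Type*} [Group G]

/-- the `p`-part of a commutative subgroup -/
def ppart (N : Subgroup G) (hN : ∀ x ∈ N, ∀ y ∈ N, x * y = y * x) (p : ℕ) : Subgroup G where
  carrier := {x | x ∈ N ∧ ∃ n : ℕ, x ^ p ^ n = 1}
  one_mem' := ⟨N.one_mem, 0, by simp⟩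
  mul_mem' := by
    rintro a b ⟨ha, n, hn⟩ ⟨hb, m, hm⟩
    refine ⟨N.mul_mem ha hb, n + m, ?_⟩
    have hc : Commute a b := hN a ha b hb
    rw [hc.mul_pow, pow_add, pow_mul, hn, one_pow, one_mul, mul_comm (p ^ n) (p ^ m), pow_mul, hm,
      one_pow]
  inv_mem' := by
    rintro a ⟨ha, n, hn⟩
    exact ⟨N.inv_mem ha, n, by rw [inv_pow, hn, inv_one]⟩

theorem mem_ppart {N : Subgroup G} {hN : ∀ x ∈ N, ∀ y ∈ N, x * y = y * x} {p : ℕ} {x : G} :
    x ∈ ppart N hN p ↔ x ∈ N ∧ ∃ n : ℕ, x ^ p ^ n = 1 := Iff.rfl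

theorem ppart_le (N : Subgroup G) (hN : ∀ x ∈ N, ∀ y ∈ N, x * y = y * x) (p : ℕ) :
    ppart N hN p ≤ N := fun _ hx => hx.1

theorem conj_mem_of_mem_normalizer {X : Subgroup G} {g x : G} (hg : g ∈ normalizer (X : Set G))
    (hx : x ∈ X) : g * x * g⁻¹ ∈ X :=
  (Subgroup.mem_normalizer_iff.mp hg x).mp hx

theorem le_normalizer_ppart {N H : Subgroup G} (hN : ∀ x ∈ N, ∀ y ∈ N, x * y = y * x) (p : ℕ)
    (hHN : H ≤ normalizer (N : Set G)) : H ≤ normalizer ((ppart N hN p : Subgroup G) : Set G) := by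
  apply Cfsg.Agent.Lib.Helper24.Lifting.le_normalizer_of_conj_mem
  rintro h hh x ⟨hx, n, hn⟩
  refine ⟨conj_mem_of_mem_normalizer (hHN hh) hx, n, ?_⟩
  rw [conj_pow, hn, mul_one, mul_inv_cancel]

/-- decomposition of elements of `N ⊔ H` when `H` normalizes `N` -/
theorem exists_mul_of_mem_sup {N H : Subgroup G} (hHN : H ≤ normalizer (N : Set G)) {u : G}
    (hu : u ∈ N ⊔ H) : ∃ n ∈ N, ∃ h ∈ H, u = n * h := by
  rw [Subgroup.sup_eq_closure] at hu
  induction hu using Subgroup.closure_induction with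
  | mem x hx =>
    rcases hx with hx | hx
    · exact ⟨x, hx, 1, H.one_mem, by simp⟩
    · exact ⟨1, N.one_mem, x, hx, by simp⟩
  | one => exact ⟨1, N.one_mem, 1, H.one_mem, by simp⟩
  | mul x y _ _ hx hy =>
    obtain ⟨n₁, hn₁, h₁, hh₁, rfl⟩ := hx
    obtain ⟨n₂, hn₂, h₂, hh₂, rfl⟩ := hy
    refine ⟨n₁ * (h₁ * n₂ * h₁⁻¹), N.mul_mem hn₁ (conj_mem_of_mem_normalizer (hHN hh₁) hn₂),
      h₁ * h₂, H.mul_mem hh₁ hh₂, by group⟩
  | inv x _ hx =>
    obtain ⟨n, hn, h, hh, rfl⟩ := hx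
    refine ⟨h⁻¹ * n⁻¹ * h⁻¹⁻¹, conj_mem_of_mem_normalizer (hHN (H.inv_mem hh)) (N.inv_mem hn),
      h⁻¹, H.inv_mem hh, by group⟩

/-- powers of `n * h` -/
theorem exists_pow_mul {N H : Subgroup G} (hHN : H ≤ normalizer (N : Set G)) {n h : G}
    (hn : n ∈ N) (hh : h ∈ H) (j : ℕ) : ∃ n' ∈ N, (n * h) ^ j = n' * h ^ j := by
  induction j with
  | zero => exact ⟨1, N.one_mem, by simp⟩
  | succ j ih =>
    obtain ⟨n', hn', he⟩ := ih
    refine ⟨n' * (h ^ j * n * (h ^ j)⁻¹),
      N.mul_mem hn' (conj_mem_of_mem_normalizer (hHN (H.pow_mem hh j)) hn), ?_⟩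
    rw [pow_succ, he, pow_succ]
    group

/-- for `u = n * h`, `u ^ j = 1` forces `h ^ j = 1` -/
theorem pow_eq_one_of_mul_pow {N H : Subgroup G} (hHN : H ≤ normalizer (N : Set G))
    (hNH : N ⊓ H = ⊥) {n h : G} (hn : n ∈ N) (hh : h ∈ H) {j : ℕ} (hj : (n * h) ^ j = 1) :
    h ^ j = 1 := by
  obtain ⟨n', hn', he⟩ := exists_pow_mul hHN hn hh j
  rw [hj] at he
  have h1 : h ^ j = n'⁻¹ := by
    rw [eq_comm, inv_eq_iff_mul_eq_one]
    exact he.symm
  have h2 : h ^ j ∈ N ⊓ H := ⟨by rw [h1]; exact N.inv_mem hn', H.pow_mem hh j⟩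
  rw [hNH] at h2
  exact Subgroup.mem_bot.mp h2

/-- `p`-elements of `N ⊔ H` lie in `N` when `p ∤ |H|` -/
theorem mem_of_pow_prime_pow_eq_one [Finite G] {N H : Subgroup G}
    (hHN : H ≤ normalizer (N : Set G)) (hNH : N ⊓ H = ⊥) {p : ℕ} (hp : p.Prime)
    (hpH : (Nat.card H).Coprime p) {u : G} (hu : u ∈ N ⊔ H) {k : ℕ} (huk : u ^ p ^ k = 1) :
    u ∈ N := by
  obtain ⟨n, hn, h, hh, rfl⟩ := exists_mul_of_mem_sup hHN hu
  have h1 : h ^ p ^ k = 1 := pow_eq_one_of_mul_pow hHN hNH hn hh huk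
  have h2 : orderOf h ∣ p ^ k := orderOf_dvd_of_pow_eq_one h1
  have h3 : orderOf h ∣ Nat.card H := by
    have := orderOf_dvd_natCard (⟨h, hh⟩ : H)
    rwa [Subgroup.orderOf_mk] at this
  have h4 : orderOf h = 1 := by
    have hc : (Nat.card H).Coprime (p ^ k) := Nat.Coprime.pow_right k hpH
    exact Nat.eq_one_of_dvd_coprimes hc h3 h2
  rw [orderOf_eq_one_iff] at h4
  rw [h4, mul_one]
  exact hn

/-- for a `q`-element `n * h` with `q ∤ |N|`, the order is that of `h` -/
theorem orderOf_mul_eq [Finite G] {N H : Subgroup G}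
    (hHN : H ≤ normalizer (N : Set G)) (hNH : N ⊓ H = ⊥) {q : ℕ} (hq : q.Prime)
    (hqN : (Nat.card N).Coprime q) {n h : G} (hn : n ∈ N) (hh : h ∈ H) {k : ℕ}
    (hu : orderOf (n * h) = q ^ k) : orderOf h = q ^ k := by
  have h1 : h ^ q ^ k = 1 := by
    apply pow_eq_one_of_mul_pow hHN hNH hn hh
    rw [← hu]; exact pow_orderOf_eq_one _
  have h2 : orderOf h ∣ q ^ k := orderOf_dvd_of_pow_eq_one h1
  obtain ⟨n', hn', he⟩ := exists_pow_mul hHN hn hh (orderOf h)
  rw [pow_orderOf_eq_one, mul_one] at he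
  -- (n*h)^(orderOf h) = n' ∈ N is a q-element of N, hence trivial
  have h3 : n' ^ q ^ k = 1 := by
    rw [← he, ← pow_mul, mul_comm, pow_mul, ← hu, pow_orderOf_eq_one, one_pow]
  have h4 : orderOf n' ∣ q ^ k := orderOf_dvd_of_pow_eq_one h3
  have h5 : orderOf n' ∣ Nat.card N := by
    have := orderOf_dvd_natCard (⟨n', hn'⟩ : N)
    rwa [Subgroup.orderOf_mk] at this
  have h6 : orderOf n' = 1 :=
    Nat.eq_one_of_dvd_coprimes (Nat.Coprime.pow_right k hqN) h5 h4
  rw [orderOf_eq_one_iff] at h6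
  rw [h6] at he
  have h7 : q ^ k ∣ orderOf h := by
    rw [← hu]; exact orderOf_dvd_of_pow_eq_one he
  exact Nat.dvd_antisymm h2 h7

/-- in a cyclic subgroup of order `p ^ a`, the elements with `x ^ p = 1` lie in every subgroup of
order `p` -/
theorem mem_of_pow_eq_one_of_isCyclic [Finite G] {p : ℕ} (hp : p.Prime) {Y l : Subgroup G} {a : ℕ}
    (ha : 1 ≤ a) (hYc : IsCyclic Y) (hYcard : Nat.card Y = p ^ a) (hlY : l ≤ Y)
    (hlc : Nat.card l = p) {u : G} (huY : u ∈ Y) (hup : u ^ p = 1) : u ∈ l := by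
  obtain ⟨g, hg⟩ := hYc.exists_generator
  have hog : orderOf (g : G) = p ^ a := by
    rw [Subgroup.orderOf_coe, orderOf_eq_card_of_forall_mem_zpowers hg, hYcard]
  set z : G := (g : G) ^ p ^ (a - 1) with hz
  have hpa : p ^ a = p ^ (a - 1) * p := by
    rw [← pow_succ, Nat.sub_add_cancel ha]
  have key : ∀ x ∈ Y, x ^ p = 1 → x ∈ zpowers z := by
    intro x hx hxp
    obtain ⟨i, hi⟩ := Subgroup.mem_zpowers_iff.mp (hg ⟨x, hx⟩)
    have hi' : (g : G) ^ i = x := by
      have := congrArg (fun t : Y => (t : G)) hi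
      simpa using this
    have h1 : (g : G) ^ (i * (p : ℤ)) = 1 := by
      rw [zpow_mul, hi', zpow_natCast, hxp]
    have h2 : ((orderOf (g : G) : ℕ) : ℤ) ∣ i * (p : ℤ) := orderOf_dvd_iff_zpow_eq_one.mpr h1
    rw [hog, hpa] at h2
    push_cast at h2
    have hp0 : (p : ℤ) ≠ 0 := by exact_mod_cast hp.ne_zero
    have h3 : ((p : ℤ) ^ (a - 1)) ∣ i := (mul_dvd_mul_iff_right hp0).mp h2
    obtain ⟨j, rfl⟩ := h3
    rw [Subgroup.mem_zpowers_iff]
    refine ⟨j, ?_⟩
    rw [← hi', hz, ← zpow_natCast, ← zpow_mul]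
    push_cast
    rfl
  have hlz : l ≤ zpowers z := by
    intro x hx
    apply key x (hlY hx)
    have := pow_card_eq_one' (G := l) (x := ⟨x, hx⟩)
    rw [hlc] at this
    have := congrArg (fun t : l => (t : G)) this
    simpa using this
  have hzc : Nat.card (zpowers z) = p := by
    rw [Nat.card_zpowers, hz, orderOf_pow_of_dvd (pow_ne_zero _ hp.ne_zero), hog, hpa,
      Nat.mul_div_cancel_left _ (pow_pos hp.pos _)]
    rw [hog, hpa]; exact dvd_mul_right _ _
  have heq : l = zpowers z := Subgroup.eq_of_le_of_card_ge hlz (by rw [hzc, hlc])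
  rw [heq]
  exact key u huY hup

/-- **(E0-abs)**: a subgroup of full exponent with prescribed elements of prime order. -/
theorem exists_full_exponent_subgroup [Finite G] {U N H : Subgroup G}
    (hNab : ∀ x ∈ N, ∀ y ∈ N, x * y = y * x) (hHN : H ≤ normalizer (N : Set G))
    (hNH : N ⊓ H = ⊥) (hU : N ⊔ H = U) (hcop : (Nat.card N).Coprime (Nat.card H))
    (a : ℕ → ℕ) (l : ℕ → Subgroup G)
    (hdata : ∀ p : ℕ, p.Prime → p ∣ Nat.card N →
      1 ≤ a p ∧ (∀ x ∈ N, (∃ k : ℕ, x ^ p ^ k = 1) → x ^ p ^ a p = 1) ∧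
      Nat.card (l p) = p ∧ H ≤ normalizer ((l p : Subgroup G) : Set G) ∧
      ∃ y ∈ N, y ^ p ^ a p = 1 ∧ y ^ p ^ (a p - 1) ∈ l p ∧ y ^ p ^ (a p - 1) ≠ 1) :
    ∃ U₀ : Subgroup G, U₀ ≤ U ∧ H ≤ U₀ ∧ Monoid.exponent U₀ = Monoid.exponent U ∧
      ∀ u ∈ U₀, ∀ p : ℕ, p.Prime → p ∣ Nat.card N → orderOf u = p → u ∈ l p := by
  classical
  have hcopH : ∀ p : ℕ, p.Prime → p ∣ Nat.card N → (Nat.card H).Coprime p := by
    intro p hp hpN
    exact (Nat.Coprime.coprime_dvd_left hpN hcop).symm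
  -- the invariant cyclic subgroups
  have hY : ∀ p : ℕ, p.Prime → p ∣ Nat.card N → ∃ Y : Subgroup G, Y ≤ ppart N hNab p ∧
      IsCyclic Y ∧ Nat.card Y = p ^ a p ∧ H ≤ normalizer (Y : Set G) ∧ l p ≤ Y := by
    intro p hp hpN
    haveI : Fact p.Prime := ⟨hp⟩
    obtain ⟨ha, hexp, hlc, hHl, y, hyN, hya, hyl, hy1⟩ := hdata p hp hpN
    exact Cfsg.Agent.Lib.Helper24.Lifting.exists_invariant_cyclic (ppart N hNab p) H (l p)
      (fun x hx y hy => hNab x hx.1 y hy.1) (le_normalizer_ppart hNab p hHN) (hcopH p hp hpN)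
      (a p) ha (fun x hx => hexp x hx.1 hx.2) hlc hHl ⟨y, ⟨hyN, a p, hya⟩, hyl, hy1⟩
  let Yf : ℕ → Subgroup G := fun p =>
    if h : p.Prime ∧ p ∣ Nat.card N then Classical.choose (hY p h.1 h.2) else ⊥
  have hYf : ∀ p (hp : p.Prime) (hpN : p ∣ Nat.card N), Yf p ≤ ppart N hNab p ∧
      IsCyclic (Yf p) ∧ Nat.card (Yf p) = p ^ a p ∧ H ≤ normalizer ((Yf p : Subgroup G) : Set G) ∧
      l p ≤ Yf p := by
    intro p hp hpN
    have h1 : Yf p = Classical.choose (hY p hp hpN) := dif_pos ⟨hp, hpN⟩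
    rw [h1]
    exact Classical.choose_spec (hY p hp hpN)
  have hYf0 : ∀ p, ¬ (p.Prime ∧ p ∣ Nat.card N) → Yf p = ⊥ := fun p h => dif_neg h
  have hYfN : ∀ p, Yf p ≤ N := by
    intro p
    by_cases h : p.Prime ∧ p ∣ Nat.card N
    · exact (hYf p h.1 h.2).1.trans (ppart_le N hNab p)
    · rw [hYf0 p h]; exact bot_le
  have hYfH : ∀ p, ∀ h ∈ H, ∀ y ∈ Yf p, h * y * h⁻¹ ∈ Yf p := by
    intro p h hh y hy
    by_cases hp : p.Prime ∧ p ∣ Nat.card N
    · exact conj_mem_of_mem_normalizer ((hYf p hp.1 hp.2).2.2.2.1 hh) hy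
    · rw [hYf0 p hp] at hy ⊢
      rw [Subgroup.mem_bot] at hy ⊢
      rw [hy]; group
  set Y : Subgroup G := ⨆ p, Yf p with hYdef
  have hYN : Y ≤ N := iSup_le hYfN
  have hHY : H ≤ normalizer (Y : Set G) := by
    apply Cfsg.Agent.Lib.Helper24.Lifting.le_normalizer_of_conj_mem
    intro h hh y hy
    refine Subgroup.iSup_induction Yf (C := fun y => h * y * h⁻¹ ∈ Y) hy ?_ ?_ ?_
    · intro p y hy
      exact (le_iSup Yf p) (hYfH p h hh y hy)
    · simp
    · intro x y hx hy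
      have : h * (x * y) * h⁻¹ = (h * x * h⁻¹) * (h * y * h⁻¹) := by group
      rw [this]
      exact Y.mul_mem hx hy
  have hNU : N ≤ U := hU ▸ le_sup_left
  have hHU : H ≤ U := hU ▸ le_sup_right
  refine ⟨Y ⊔ H, sup_le (hYN.trans hNU) hHU, le_sup_right, ?_, ?_⟩
  · -- exponent
    have hle : Y ⊔ H ≤ U := sup_le (hYN.trans hNU) hHU
    apply Nat.dvd_antisymm
    · exact Monoid.exponent_dvd_of_monoidHom (Subgroup.inclusion hle)
        (Subgroup.inclusion_injective hle)
    · apply Monoid.exponent_dvd_of_forall_pow_eq_one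
      rintro ⟨u, hu⟩
      set e := Monoid.exponent ↥(Y ⊔ H) with he
      have hdvd : orderOf u ∣ e := by
        rw [Nat.dvd_iff_prime_pow_dvd_dvd]
        intro q k hq hqk
        have ho0 : 0 < orderOf u := orderOf_pos u
        set m := orderOf u / q ^ k with hm
        have hmk : m * q ^ k = orderOf u := Nat.div_mul_cancel hqk
        have hm0 : m ≠ 0 := by
          intro h0; rw [h0, zero_mul] at hmk; omega
        have hmd : m ∣ orderOf u := ⟨q ^ k, hmk.symm⟩
        have hou' : orderOf (u ^ m) = q ^ k := by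
          rw [orderOf_pow_of_dvd hm0 hmd, ← hmk, Nat.mul_div_cancel_left _ (Nat.pos_of_ne_zero hm0)]
        have hu' : u ^ m ∈ N ⊔ H := by rw [hU]; exact U.pow_mem hu m
        by_cases hqN : q ∣ Nat.card N
        · -- q-elements lie in N
          have h1 : u ^ m ∈ N :=
            mem_of_pow_prime_pow_eq_one hHN hNH hq (hcopH q hq hqN) hu' (k := k)
              (by rw [← hou']; exact pow_orderOf_eq_one _)
          obtain ⟨ha, hexp, -, -, -⟩ := hdata q hq hqN
          have h2 : (u ^ m) ^ q ^ a q = 1 :=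
            hexp _ h1 ⟨k, by rw [← hou']; exact pow_orderOf_eq_one _⟩
          have h3 : q ^ k ∣ q ^ a q := by
            rw [← hou']; exact orderOf_dvd_of_pow_eq_one h2
          obtain ⟨-, hcyc, hcard, -, -⟩ := hYf q hq hqN
          obtain ⟨g, hg⟩ := hcyc.exists_generator
          have hog : orderOf (g : G) = q ^ a q := by
            rw [Subgroup.orderOf_coe, orderOf_eq_card_of_forall_mem_zpowers hg, hcard]
          have hgU : (g : G) ∈ Y ⊔ H := le_sup_left (a := Y) ((le_iSup Yf q) g.2)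
          have h4 : orderOf (⟨(g : G), hgU⟩ : ↥(Y ⊔ H)) ∣ e := Monoid.order_dvd_exponent _
          rw [Subgroup.orderOf_mk, hog] at h4
          exact h3.trans h4
        · have hcq : (Nat.card N).Coprime q :=
            ((Nat.Prime.coprime_iff_not_dvd hq).mpr hqN).symm
          obtain ⟨n, hn, h, hh, hnh⟩ := exists_mul_of_mem_sup hHN hu'
          rw [hnh] at hou'
          have h1 : orderOf h = q ^ k := orderOf_mul_eq hHN hNH hq hcq hn hh hou'
          have hhU : h ∈ Y ⊔ H := le_sup_right (a := Y) hh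
          have h4 : orderOf (⟨h, hhU⟩ : ↥(Y ⊔ H)) ∣ e := Monoid.order_dvd_exponent _
          rw [Subgroup.orderOf_mk, h1] at h4
          exact h4
      have : u ^ e = 1 := orderOf_dvd_iff_pow_eq_one.mp hdvd
      exact Subtype.ext (by simpa using this)
  · -- elements of prime order
    intro u hu p hp hpN hou
    have hup : u ^ p = 1 := by rw [← hou]; exact pow_orderOf_eq_one u
    have huNH : u ∈ N ⊔ H := sup_le_sup_right hYN H hu
    have huN : u ∈ N :=
      mem_of_pow_prime_pow_eq_one hHN hNH hp (hcopH p hp hpN) huNH (k := 1) (by simpa using hup)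
    -- u ∈ Y
    have huY : u ∈ Y := by
      obtain ⟨y, hy, h, hh, rfl⟩ := exists_mul_of_mem_sup hHY hu
      have h1 : h ∈ N := by
        have : h = y⁻¹ * (y * h) := by group
        rw [this]
        exact N.mul_mem (N.inv_mem (hYN hy)) huN
      have h2 : h ∈ N ⊓ H := ⟨h1, hh⟩
      rw [hNH, Subgroup.mem_bot] at h2
      rw [h2, mul_one]; exact hy
    obtain ⟨hYpp, hcyc, hcard, -, hlY⟩ := hYf p hp hpN
    obtain ⟨ha, -, hlc, -, -⟩ := hdata p hp hpN
    -- the p'-part of |N|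
    set m := Nat.card N / p ^ (Nat.card N).factorization p with hm
    have hmcop : m.Coprime p := by
      have hN0 : Nat.card N ≠ 0 := Nat.card_pos.ne'
      exact (Nat.coprime_ordCompl hp hN0).symm
    -- y ∈ Y ⇒ y ^ m ∈ Yf p
    have hpow : ∀ y ∈ Y, y ∈ N ∧ y ^ m ∈ Yf p := by
      intro y hy
      refine Subgroup.iSup_induction Yf (C := fun y => y ∈ N ∧ y ^ m ∈ Yf p) hy ?_ ?_ ?_
      · intro q y hy
        refine ⟨hYfN q hy, ?_⟩
        by_cases hq : q.Prime ∧ q ∣ Nat.card N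
        · by_cases hqp : q = p
          · subst hqp; exact (Yf q).pow_mem hy m
          · -- card (Yf q) = q ^ a q divides m
            obtain ⟨-, -, hcardq, -, -⟩ := hYf q hq.1 hq.2
            have h1 : q ^ a q ∣ Nat.card N := by
              rw [← hcardq]
              have := Subgroup.card_dvd_of_le (hYfN q)
              exact this
            have h2 : (q ^ a q).Coprime (p ^ (Nat.card N).factorization p) := by
              apply Nat.Coprime.pow
              exact (Nat.coprime_primes hq.1 hp).mpr hqp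
            have h3 : q ^ a q ∣ m := by
              have h4 : p ^ (Nat.card N).factorization p * m = Nat.card N :=
                Nat.ordProj_mul_ordCompl_eq_self (Nat.card N) p
              rw [← h4] at h1
              exact h2.dvd_of_dvd_mul_left h1
            have h5 : y ^ (q ^ a q) = 1 := by
              have := pow_card_eq_one' (G := Yf q) (x := ⟨y, hy⟩)
              rw [hcardq] at this
              have := congrArg (fun t : Yf q => (t : G)) this
              simpa using this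
            obtain ⟨c, hc⟩ := h3
            rw [hc, pow_mul, h5, one_pow]
            exact (Yf p).one_mem
        · rw [hYf0 q hq, Subgroup.mem_bot] at hy
          rw [hy, one_pow]; exact (Yf p).one_mem
      · exact ⟨N.one_mem, by rw [one_pow]; exact (Yf p).one_mem⟩
      · rintro x y ⟨hx, hxm⟩ ⟨hy, hym⟩
        refine ⟨N.mul_mem hx hy, ?_⟩
        have hc : Commute x y := hNab x hx y hy
        rw [hc.mul_pow]
        exact (Yf p).mul_mem hxm hym
    have h1 : u ^ m ∈ Yf p := (hpow u huY).2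
    -- u is a power of u ^ m
    have huYp : u ∈ Yf p := by
      obtain ⟨j, -, hj⟩ := Nat.exists_mul_mod_eq_one_of_coprime hmcop hp.one_lt
      have h2 : u ^ (m * j) = u := by
        rw [← pow_mod_orderOf, hou, hj, pow_one]
      rw [← h2, pow_mul]
      exact (Yf p).pow_mem h1 j
    exact mem_of_pow_eq_one_of_isCyclic hp ha hcyc hcard hlY hlc huYp hup

end Cfsg.Agent.Lib.Helper96.E0Abs
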