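import Mathlib
import Cfsg.Prelude.Def_OddOrderLocal
import Cfsg.Agent.Lib.Helper96.E0Abs
import Cfsg.Agent.Lib.Helper24.GoodPointB
import Cfsg.Agent.Lib.Helper68.BG1215a
import Cfsg.Agent.Lib.Helper23.BadTau2A0
import Cfsg.Agent.Lib.Helper96.BG127

/-!
# B&G Theorem 12.12(b) for a normal Hall subgroup `V` of a complement `E` of `M_σ`

`exists_regular_full_exponent_caseA` : the case where the `τ₂(M)`-Sylow subgroups of `V` are Sylow
in `G` (armed style: the inputs (PP), `tau2_sylow_normal` and the structure lemma are hypotheses).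
-/

set_option autoImplicit false
set_option linter.unusedSectionVars false
set_option linter.unusedVariables false
set_option linter.style.haveILetI false

universe u

namespace Cfsg.Agent.Lib.Helper96.E0Main

open Subgroup Cfsg
open scoped Pointwise
open Cfsg.Agent.Lib.Helper10.BG13
open Cfsg.Agent.Lib.Helper24.GoodPoint

variable {G : Type u} [Group G]

/-- exponent data of a nontrivial finite `p`-subgroup -/
theorem exists_exponent_data [Finite G] {p : ℕ} [hp : Fact p.Prime] {P : Subgroup G}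
    (hP : IsPGroup p P) (hP1 : P ≠ ⊥) :
    ∃ a : ℕ, 1 ≤ a ∧ (∀ x ∈ P, x ^ p ^ a = 1) ∧ ∃ y ∈ P, y ^ p ^ (a - 1) ≠ 1 := by
  classical
  have hex : ∃ a : ℕ, ∀ x ∈ P, x ^ p ^ a = 1 := by
    obtain ⟨n, hn⟩ := hP.exists_card_eq
    refine ⟨n, fun x hx => ?_⟩
    have := pow_card_eq_one' (G := P) (x := ⟨x, hx⟩)
    rw [hn] at this
    have := congrArg (fun t : P => (t : G)) this
    simpa using this
  refine ⟨Nat.find hex, ?_, Nat.find_spec hex, ?_⟩
  · by_contra h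
    have h0 : Nat.find hex = 0 := by omega
    have h1 := Nat.find_spec hex
    rw [h0] at h1
    apply hP1
    rw [eq_bot_iff]
    intro x hx
    have := h1 x hx
    rw [pow_zero, pow_one] at this
    exact Subgroup.mem_bot.mpr this
  · by_contra h
    push Not at h
    by_cases h0 : Nat.find hex = 0
    · have h1 := Nat.find_spec hex
      rw [h0] at h1
      apply hP1
      rw [eq_bot_iff]
      intro x hx
      have := h1 x hx
      rw [pow_zero, pow_one] at this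
      exact Subgroup.mem_bot.mpr this
    · have hlt : Nat.find hex - 1 < Nat.find hex := by omega
      exact Nat.find_min hex hlt h

/-- a nontrivial element of a subgroup of prime order generates it -/
theorem centralizer_eq_of_mem_prime [Finite G] {q : ℕ} (hq : q.Prime) {l : Subgroup G}
    (hl : Nat.card l = q) {v : G} (hv : v ∈ l) (hv1 : v ≠ 1) :
    centralizer (l : Set G) = centralizer ({v} : Set G) := by
  have h1 : zpowers v ≤ l := Subgroup.zpowers_le.mpr hv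
  have h2 : Nat.card (zpowers v) = q := by
    rw [Nat.card_zpowers]
    have hd : orderOf v ∣ q := by
      have := orderOf_dvd_natCard (⟨v, hv⟩ : l)
      rwa [Subgroup.orderOf_mk, hl] at this
    rcases (Nat.dvd_prime hq).mp hd with h | h
    · exact absurd (orderOf_eq_one_iff.mp h) hv1
    · exact h
  have h3 : zpowers v = l := Subgroup.eq_of_le_of_card_ge h1 (by rw [h2, hl])
  rw [← h3]
  exact centralizer_zpowers' v

/-- passing to a power of prime order -/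
theorem exists_prime_order_pow [Finite G] {e : G} (he : e ≠ 1) :
    ∃ q : ℕ, q.Prime ∧ ∃ m : ℕ, orderOf (e ^ m) = q := by
  have h0 : orderOf e ≠ 0 := (orderOf_pos e).ne'
  have h1 : orderOf e ≠ 1 := fun h => he (orderOf_eq_one_iff.mp h)
  refine ⟨(orderOf e).minFac, Nat.minFac_prime h1, orderOf e / (orderOf e).minFac, ?_⟩
  exact orderOf_pow_orderOf_div h0 (Nat.minFac_dvd _)

theorem centralizer_singleton_le_pow (e : G) (m : ℕ) :
    centralizer ({e} : Set G) ≤ centralizer ({e ^ m} : Set G) := by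
  intro g hg
  rw [Subgroup.mem_centralizer_iff] at hg ⊢
  intro y hy
  rw [Set.mem_singleton_iff] at hy
  subst hy
  have h1 : e * g = g * e := hg e rfl
  have : Commute e g := h1
  exact (this.pow_left m).eq

/-- the structure statement (pure): decomposition `V = N ⋊ H` with `N` the product of the given
normal abelian Sylow subgroups -/
def StructStmt (G : Type u) [Group G] : Prop :=
  ∀ (V : Subgroup G) (T : Set ℕ) (Pf : ℕ → Subgroup G),
    (∀ p ∈ T, p.Prime ∧ Pf p ≤ V ∧ IsPGroup p (Pf p) ∧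
      V ≤ normalizer ((Pf p : Subgroup G) : Set G) ∧
      (∀ x ∈ Pf p, ∀ y ∈ Pf p, x * y = y * x) ∧ ¬ p ∣ (Pf p).relIndex V) →
    ∃ N H : Subgroup G, N ≤ V ∧ H ≤ V ∧ (∀ x ∈ N, ∀ y ∈ N, x * y = y * x) ∧
      V ≤ normalizer (N : Set G) ∧ N ⊓ H = ⊥ ∧ N ⊔ H = V ∧
      (Nat.card N).Coprime (Nat.card H) ∧ (∀ p ∈ T, Pf p ≤ N) ∧
      (∀ q : ℕ, q.Prime → q ∣ Nat.card N → q ∈ T) ∧
      (∀ q : ℕ, q.Prime → q ∣ Nat.card H → q ∉ T)

/-- (PP) as a hypothesis: a prime-power element of `E` (of order prime to `p`), regular on `M_σ` when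
its prime lies in `τ₁(M) ∪ τ₃(M)`, normalises a point of `A` -/
def PPStmt (G : Type u) [Group G] : Prop :=
  ∀ (M E : Subgroup G), IsCoatom M → IsComplIn E (sigmaCore M) M → ∀ (p : ℕ) [Fact p.Prime],
    p ∈ tau2 M → ∀ A : Subgroup G, (A ≤ E ∧ IsElementaryAbelian p A ∧ Nat.card A = p ^ 2) →
    ∀ x ∈ E, ∀ r k : ℕ, r.Prime → r ≠ p → orderOf x = r ^ k →
      (r ∈ tau1 M ∪ tau3 M → ∀ y ∈ zpowers x, orderOf y = r →
        sigmaCore M ⊓ centralizer ({y} : Set G) = ⊥) →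
      ∃ X : Subgroup G, X ≤ A ∧ Nat.card X = p ∧ x ∈ normalizer (X : Set G)

/-- the nonabelian case as a hypothesis -/
def NonabStmt (G : Type u) [Group G] : Prop :=
  ∀ (M E : Subgroup G), IsCoatom M → IsComplIn E (sigmaCore M) M → ∀ (p : ℕ) [Fact p.Prime],
    p ∈ tau2 M → (∀ S : Sylow p G, ¬ IsMulCommutative (S : Subgroup G)) →
    ∀ V : Subgroup G, V ≤ E → E ≤ normalizer (V : Set G) →
      (Nat.card V).Coprime (V.relIndex E) → p ∣ Nat.card V →
      (∀ e ∈ V, e ≠ 1 → (∀ q : ℕ, q.Prime → q ∣ orderOf e → q ∈ tau1 M ∪ tau3 M) →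
        sigmaCore M ⊓ centralizer ({e} : Set G) = ⊥) →
      ∃ V₀ : Subgroup G, V₀ ≤ V ∧ Monoid.exponent V₀ = Monoid.exponent V ∧
        ∀ e ∈ V₀, e ≠ 1 → sigmaCore M ⊓ centralizer ({e} : Set G) = ⊥

/-- all Sylow `p`-subgroups are abelian as soon as one is -/
theorem sylow_comm_of_exists [Finite G] {p : ℕ} [Fact p.Prime] (S P : Sylow p G)
    (hS : IsMulCommutative (S : Subgroup G)) :
    ∀ x ∈ (P : Subgroup G), ∀ y ∈ (P : Subgroup G), x * y = y * x := by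
  obtain ⟨g, hg⟩ := MulAction.exists_smul_eq G S P
  have hP : (P : Subgroup G) = MulAut.conj g • (S : Subgroup G) := by rw [← hg]; rfl
  intro x hx y hy
  rw [hP, Subgroup.mem_pointwise_smul_iff_inv_smul_mem] at hx hy
  have h1 := hS.is_comm.comm ⟨_, hx⟩ ⟨_, hy⟩
  have h2 := congrArg Subtype.val h1
  simp only [Subgroup.coe_mul, MulAut.smul_def, MulAut.conj_inv_apply] at h2
  have h3 : g * (g⁻¹ * x * g * (g⁻¹ * y * g)) * g⁻¹ = g * (g⁻¹ * y * g * (g⁻¹ * x * g)) * g⁻¹ := by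
    rw [h2]
  simpa [mul_assoc] using h3

/-- the data of one `τ₂`-prime in the abelian case -/
theorem caseA_prime [Finite G] (hG : IsMinSimpleOddOrder G) (h17 : StmtR1417 G)
    (h18 : StmtR1418 G) (hPPs : PPStmt G) {M E : Subgroup G} (hM : IsCoatom M)
    (hE : IsComplIn E (sigmaCore M) M)
    {V : Subgroup G} (hVE : V ≤ E) (hVn : E ≤ normalizer (V : Set G))
    (hVhall : (Nat.card V).Coprime (V.relIndex E))
    (hH : ∀ e ∈ V, e ≠ 1 → (∀ q : ℕ, q.Prime → q ∣ orderOf e → q ∈ tau1 M ∪ tau3 M) →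
      sigmaCore M ⊓ centralizer ({e} : Set G) = ⊥)
    {p : ℕ} (hpτ : p ∈ tau2 M) (hpV : p ∣ Nat.card V)
    (hab : ∀ [Fact p.Prime], ∃ S : Sylow p G, IsMulCommutative (S : Subgroup G)) :
    ∃ (P ℓ : Subgroup G) (a : ℕ), P ≤ V ∧ IsPGroup p P ∧ V ≤ normalizer (P : Set G) ∧
      (∀ x ∈ P, ∀ y ∈ P, x * y = y * x) ∧ ¬ p ∣ P.relIndex V ∧
      (∀ x ∈ V, (∃ k : ℕ, x ^ p ^ k = 1) → x ∈ P) ∧
      1 ≤ a ∧ (∀ x ∈ P, x ^ p ^ a = 1) ∧ Nat.card ℓ = p ∧ V ≤ normalizer (ℓ : Set G) ∧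
      sigmaCore M ⊓ centralizer (ℓ : Set G) = ⊥ ∧
      ∃ y ∈ P, y ^ p ^ (a - 1) ∈ ℓ ∧ y ^ p ^ (a - 1) ≠ 1 := by
  classical
  have hpp : p.Prime := hpτ.1
  haveI : Fact p.Prime := ⟨hpp⟩
  obtain ⟨A, hAE, hAe, hAc⟩ := Cfsg.Agent.Lib.Helper96.BG127.exists_elemAb_sq_le_compl hE hpτ
  have hAp : IsPGroup p A := Cfsg.Agent.Lib.Helper10.elemAb_isPGroup hAe
  obtain ⟨P, hAP⟩ := hAp.exists_le_sylow
  obtain ⟨S, hS⟩ := hab
  have hPab := sylow_comm_of_exists S P hS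
  obtain ⟨⟨hEA, hX⟩, ⟨hCA, hMN, hNM⟩, h3⟩ := h18 M hM E hE p hpτ A ⟨hAE, hAe, hAc⟩
  have hPE : (P : Subgroup G) ≤ E := by
    intro x hx
    rw [← hMN]
    apply hCA
    rw [Subgroup.mem_centralizer_iff]
    intro a ha
    exact hPab a (hAP ha) x hx
  have hnd : ¬ p ∣ V.relIndex E := fun h =>
    hpp.one_lt.ne' (Nat.eq_one_of_dvd_coprimes hVhall hpV h)
  obtain ⟨n, hn⟩ := IsPGroup.iff_card.mp P.isPGroup'
  have hPV : (P : Subgroup G) ≤ V := by
    apply Cfsg.Agent.Lib.Helper68.BG1215.le_of_coprime_relIndex hVE hVn hPE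
    rw [hn]
    exact Nat.Coprime.pow_left n ((Nat.Prime.coprime_iff_not_dvd hpp).mpr hnd)
  have hEP : E ≤ normalizer ((P : Subgroup G) : Set G) :=
    Cfsg.Agent.Lib.Helper23.Bad.stmtAb hG h17 h18 M E hM hE p hpτ P hPE
  have hP1 : (P : Subgroup G) ≠ ⊥ := by
    intro h
    have h1 : Nat.card A ≤ Nat.card (P : Subgroup G) := Subgroup.card_le_of_le hAP
    rw [h, Subgroup.card_bot, hAc] at h1
    have := hpp.one_lt
    nlinarith
  obtain ⟨a, ha, hexp, hex⟩ := exists_exponent_data P.isPGroup' hP1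
  have hPP : ∀ x ∈ V, ∀ q k : ℕ, q.Prime → q ≠ p → x ^ (q ^ k) = 1 →
      ∃ ℓ : Subgroup G, ℓ ≤ A ∧ Nat.card ℓ = p ∧ x ∈ normalizer (ℓ : Set G) := by
    intro x hx q k hq hqp hxk
    obtain ⟨j, hj, hxo⟩ := (Nat.dvd_prime_pow hq).mp (orderOf_dvd_of_pow_eq_one hxk)
    refine hPPs M E hM hE p hpτ A ⟨hAE, hAe, hAc⟩ x (hVE hx) q j hq hqp hxo ?_
    intro hq13 y hy hyo
    have hyV : y ∈ V := (Subgroup.zpowers_le.mpr hx) hy
    have hy1 : y ≠ 1 := by
      intro h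
      rw [h, orderOf_one] at hyo
      exact hq.one_lt.ne' hyo.symm
    refine hH y hyV hy1 ?_
    intro q' hq' hd
    rw [hyo] at hd
    rw [(Nat.prime_dvd_prime_iff_eq hq' hq).mp hd]
    exact hq13
  obtain ⟨ℓ, hℓA, hℓc, hVℓ, hgood, y, hyP, hyℓ, hy1⟩ :=
    exists_good_point hG h17 h18 hM hE hpτ ⟨hAE, hAe, hAc⟩ P hPE hEP hVE hPP a ha hexp hex
  refine ⟨P, ℓ, a, hPV, P.isPGroup', hVE.trans hEP, hPab, ?_, ?_, ha, hexp, hℓc, hVℓ, hgood,
    y, hyP, hyℓ, hy1⟩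
  · intro h
    exact P.not_dvd_index (h.trans (Subgroup.relIndex_dvd_index_of_le hPV))
  · rintro x hx ⟨k, hk⟩
    exact mem_sylow_of_mem_normalizer P (hEP (hVE hx)) hk

/-- **Case A**: all `τ₂(M)`-primes of `V` have abelian Sylow subgroups in `G`. -/
theorem caseA [Finite G] (hG : IsMinSimpleOddOrder G) (h17 : StmtR1417 G)
    (h18 : StmtR1418 G) (hPPs : PPStmt G) (hStr : StructStmt G) {M E : Subgroup G}
    (hM : IsCoatom M) (hE : IsComplIn E (sigmaCore M) M)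
    {V : Subgroup G} (hVE : V ≤ E) (hVn : E ≤ normalizer (V : Set G))
    (hVhall : (Nat.card V).Coprime (V.relIndex E))
    (hH : ∀ e ∈ V, e ≠ 1 → (∀ q : ℕ, q.Prime → q ∣ orderOf e → q ∈ tau1 M ∪ tau3 M) →
      sigmaCore M ⊓ centralizer ({e} : Set G) = ⊥)
    (hab : ∀ (p : ℕ) [Fact p.Prime], p ∈ tau2 M → p ∣ Nat.card V →
      ∃ S : Sylow p G, IsMulCommutative (S : Subgroup G)) :
    ∃ V₀ : Subgroup G, V₀ ≤ V ∧ Monoid.exponent V₀ = Monoid.exponent V ∧
      ∀ e ∈ V₀, e ≠ 1 → sigmaCore M ⊓ centralizer ({e} : Set G) = ⊥ := by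
  classical
  let T : Set ℕ := {p | p ∈ tau2 M ∧ p ∣ Nat.card V}
  have hdata : ∀ p : ℕ, p ∈ T → ∃ (P ℓ : Subgroup G) (a : ℕ), P ≤ V ∧ IsPGroup p P ∧
      V ≤ normalizer (P : Set G) ∧
      (∀ x ∈ P, ∀ y ∈ P, x * y = y * x) ∧ ¬ p ∣ P.relIndex V ∧
      (∀ x ∈ V, (∃ k : ℕ, x ^ p ^ k = 1) → x ∈ P) ∧
      1 ≤ a ∧ (∀ x ∈ P, x ^ p ^ a = 1) ∧ Nat.card ℓ = p ∧ V ≤ normalizer (ℓ : Set G) ∧
      sigmaCore M ⊓ centralizer (ℓ : Set G) = ⊥ ∧
      ∃ y ∈ P, y ^ p ^ (a - 1) ∈ ℓ ∧ y ^ p ^ (a - 1) ≠ 1 := fun p hp =>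
    caseA_prime hG h17 h18 hPPs hM hE hVE hVn hVhall hH hp.1 hp.2
      (fun {_} => hab p hp.1 hp.2)
  choose! Pf l a hPf using hdata
  obtain ⟨N, H, hNV, hHV, hNab, hVN, hNH, hsup, hcop, hPfN, hNT, hHT⟩ := hStr V T Pf
    (fun p hp => ⟨hp.1.1, (hPf p hp).1, (hPf p hp).2.1, (hPf p hp).2.2.1, (hPf p hp).2.2.2.1,
      (hPf p hp).2.2.2.2.1⟩)
  obtain ⟨U₀, hU₀V, hHU₀, hexp, hord⟩ :=
    Cfsg.Agent.Lib.Helper96.E0Abs.exists_full_exponent_subgroup hNab (hHV.trans hVN) hNH hsup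
      hcop a l (by
        intro p hp hpN
        have hpT : p ∈ T := hNT p hp hpN
        obtain ⟨h1, h2, h3, h4, h5, h6, h7, h8, h9, h10, h11, y, hy, hyl, hy1⟩ := hPf p hpT
        refine ⟨h7, ?_, h9, hHV.trans h10, y, hPfN p hpT hy, h8 y hy, hyl, hy1⟩
        intro x hx hxk
        exact h8 x (h6 x (hNV hx) hxk))
  refine ⟨U₀, hU₀V, hexp, ?_⟩
  intro e he he1
  obtain ⟨q, hq, m, hm⟩ := exists_prime_order_pow he1
  have hv : e ^ m ∈ U₀ := U₀.pow_mem he m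
  have hvV : e ^ m ∈ V := hU₀V hv
  have hv1 : e ^ m ≠ 1 := by
    intro h
    rw [h, orderOf_one] at hm
    exact hq.one_lt.ne' hm.symm
  have hsuff : sigmaCore M ⊓ centralizer ({e ^ m} : Set G) = ⊥ := by
    by_cases hqN : q ∣ Nat.card N
    · have hvl : e ^ m ∈ l q := hord (e ^ m) hv q hq hqN hm
      have hqT : q ∈ T := hNT q hq hqN
      obtain ⟨h1, h2, h3, h4, h5, h6, h7, h8, h9, h10, h11, -⟩ := hPf q hqT
      rw [← centralizer_eq_of_mem_prime hq h9 hvl hv1]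
      exact h11
    · have hqV : q ∣ Nat.card V := by
        have := orderOf_dvd_natCard (⟨e ^ m, hvV⟩ : V)
        rwa [Subgroup.orderOf_mk, hm] at this
      have hq2 : q ∉ tau2 M := by
        intro hq2
        have hqT : q ∈ T := ⟨hq2, hqV⟩
        obtain ⟨h1, h2, h3, h4, h5, -⟩ := hPf q hqT
        apply hqN
        have h6 : q ∣ Nat.card (Pf q) := by
          have h7 : (Pf q).relIndex V * Nat.card (Pf q) = Nat.card V := by
            have := Subgroup.relIndex_mul_relIndex (⊥ : Subgroup G) (Pf q) V bot_le h1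
            rw [Subgroup.relIndex_bot_left, Subgroup.relIndex_bot_left] at this
            rw [mul_comm]; exact this
          rw [← h7] at hqV
          rcases (Nat.Prime.dvd_mul hq).mp hqV with h | h
          · exact absurd h h5
          · exact h
        exact h6.trans (Subgroup.card_dvd_of_le (hPfN q hqT))
      have hqE : q ∣ Nat.card E := hqV.trans (Subgroup.card_dvd_of_le hVE)
      have hq13 : q ∈ tau1 M ∪ tau3 M := by
        rcases Cfsg.Agent.Lib.Helper23.Bad.mem_tau_of_dvd_card_compl hG hM hE hq hqE with h | h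
        · exact absurd h hq2
        · exact h
      refine hH (e ^ m) hvV hv1 ?_
      intro q' hq' hd
      rw [hm] at hd
      rw [(Nat.prime_dvd_prime_iff_eq hq' hq).mp hd]
      exact hq13
  rw [eq_bot_iff]
  intro g hg
  rw [← hsuff]
  exact ⟨hg.1, centralizer_singleton_le_pow e m hg.2⟩

/-- **B&G Theorem 12.12(b) / 12.9(b)**, for a normal Hall subgroup `V` of `E`, from the three
inputs (PP), (STRUCTURE) and (NONAB). -/
theorem exists_regular_full_exponent_of [Finite G] (hG : IsMinSimpleOddOrder G)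
    (h17 : StmtR1417 G) (h18 : StmtR1418 G) (hPPs : PPStmt G) (hStr : StructStmt G)
    (hNon : NonabStmt G) {M E : Subgroup G}
    (hM : IsCoatom M) (hE : IsComplIn E (sigmaCore M) M)
    {V : Subgroup G} (hVE : V ≤ E) (hVn : E ≤ normalizer (V : Set G))
    (hVhall : (Nat.card V).Coprime (V.relIndex E))
    (hH : ∀ e ∈ V, e ≠ 1 → (∀ q : ℕ, q.Prime → q ∣ orderOf e → q ∈ tau1 M ∪ tau3 M) →
      sigmaCore M ⊓ centralizer ({e} : Set G) = ⊥) :
    ∃ V₀ : Subgroup G, V₀ ≤ V ∧ Monoid.exponent V₀ = Monoid.exponent V ∧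
      ∀ e ∈ V₀, e ≠ 1 → sigmaCore M ⊓ centralizer ({e} : Set G) = ⊥ := by
  classical
  by_cases hB : ∃ (p : ℕ) (_ : Fact p.Prime), p ∈ tau2 M ∧ p ∣ Nat.card V ∧
      ∀ S : Sylow p G, ¬ IsMulCommutative (S : Subgroup G)
  · obtain ⟨p, hpf, hpτ, hpV, hS⟩ := hB
    exact hNon M E hM hE p hpτ hS V hVE hVn hVhall hpV hH
  · refine caseA hG h17 h18 hPPs hStr hM hE hVE hVn hVhall hH ?_
    intro p hpf hpτ hpV
    by_contra hcon
    apply hB
    refine ⟨p, hpf, hpτ, hpV, ?_⟩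
    intro S hS
    exact hcon ⟨S, hS⟩

end Cfsg.Agent.Lib.Helper96.E0Main
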