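import Cfsg.Agent.Lib.Helper96.BG1310C
import Cfsg.Agent.Lib.Helper32.BG142Defs
import Cfsg.Agent.Lib.Helper70.BG14Final

set_option autoImplicit false

/-!
# `StmtPin` of helper32's BG 14.2 interface (helper96)

`pin_of_cent_rank` in the curried shape `Helper32.BG142.StmtPin G`, armed (`stmtPin_of`) and
unconditional (`stmtPin`, with helper70's Lemma E and the real S1378).
-/

namespace Cfsg.Agent.Lib.Helper32.BG142

open Subgroup Cfsg

universe u

variable {G : Type u} [Group G] [Finite G]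

/-- `StmtPin G` from S1378(b) and Lemma E -/
theorem stmtPin_of (hG : IsMinSimpleOddOrder G)
    (h78 : Cfsg.Agent.Lib.Helper23.BG1310.Stmt1378b G)
    (hLE : Cfsg.Agent.Lib.Helper23.BG1310.StmtE G) : StmtPin G := by
  intro M H hM hH hnc q hq hqH Z hZ hZH hWH t ht S hSt hS1 hSW
  haveI : Fact q.Prime := ⟨hq⟩
  haveI : Fact t.Prime := ⟨ht⟩
  exact Cfsg.Agent.Lib.Helper96.BG1310C.pin_of_cent_rank hG h78 hLE hM hH hnc hqH hZ hZH hWH
    hSt hS1 hSW

/-- `StmtPin G`, unconditionally -/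
theorem stmtPin (hG : IsMinSimpleOddOrder G) : StmtPin G :=
  stmtPin_of hG (Cfsg.Agent.S1378.result hG).2 (Cfsg.Agent.Lib.Helper70.BG14.stmtE23 hG)

end Cfsg.Agent.Lib.Helper32.BG142
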