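import Cfsg.Agent.Lib.Helper96.E0Final
import Cfsg.Agent.Lib.Helper64.BG129NW

/-!
# B&G Theorem 12.12(b) / 12.9(b), unconditional

`exists_regular_full_exponent` : for a normal Hall subgroup `V` of a complement `E` of `M_σ`
satisfying (H) there is `V₀ ≤ V` of the same exponent acting regularly on `M_σ`.
`s1360` : the statement of S1360.
-/

set_option autoImplicit false
set_option linter.unusedVariables false

universe u

namespace Cfsg.Agent.Lib.Helper96.E0Main

open Subgroup Cfsg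

variable {G : Type u} [Group G]

theorem nonabStmt [Finite G] (hG : IsMinSimpleOddOrder G) : NonabStmt G :=
  fun M E hM hE p _ hp hS V hVE hVn hVhall hpV hH =>
    Cfsg.Agent.Lib.Helper64.BG129N.exists_regular_full_exponent_nonabelian hG hM hE hp hS hVE hVn
      hVhall hpV hH

/-- **B&G 12.12(b) / 12.9(b)** for a normal Hall subgroup `V` of `E`. -/
theorem exists_regular_full_exponent [Finite G] (hG : IsMinSimpleOddOrder G) {M E : Subgroup G}
    (hM : IsCoatom M) (hE : IsComplIn E (sigmaCore M) M)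
    {V : Subgroup G} (hVE : V ≤ E) (hVn : E ≤ normalizer (V : Set G))
    (hVhall : (Nat.card V).Coprime (V.relIndex E))
    (hH : ∀ e ∈ V, e ≠ 1 → (∀ q : ℕ, q.Prime → q ∣ orderOf e → q ∈ tau1 M ∪ tau3 M) →
      sigmaCore M ⊓ centralizer ({e} : Set G) = ⊥) :
    ∃ V₀ : Subgroup G, V₀ ≤ V ∧ Monoid.exponent V₀ = Monoid.exponent V ∧
      ∀ e ∈ V₀, e ≠ 1 → sigmaCore M ⊓ centralizer ({e} : Set G) = ⊥ :=
  exists_regular_full_exponent_of_nonab hG (nonabStmt hG) hM hE hVE hVn hVhall hH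

/-- the case `V = E` (for S1421(b)) -/
theorem exists_regular_full_exponent_top [Finite G] (hG : IsMinSimpleOddOrder G)
    {M E : Subgroup G} (hM : IsCoatom M) (hE : IsComplIn E (sigmaCore M) M)
    (hH : ∀ e ∈ E, e ≠ 1 → (∀ q : ℕ, q.Prime → q ∣ orderOf e → q ∈ tau1 M ∪ tau3 M) →
      sigmaCore M ⊓ centralizer ({e} : Set G) = ⊥) :
    ∃ E₀ : Subgroup G, E₀ ≤ E ∧ Monoid.exponent E₀ = Monoid.exponent E ∧
      ∀ e ∈ E₀, e ≠ 1 → sigmaCore M ⊓ centralizer ({e} : Set G) = ⊥ :=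
  exists_regular_full_exponent hG hM hE le_rfl le_normalizer
    (by rw [Subgroup.relIndex_self]; exact Nat.coprime_one_right _) hH

/-- **S1360** -/
theorem s1360 [Finite G] (hG : IsMinSimpleOddOrder G)
    (M : Subgroup G) (hM : IsCoatom M) (K U : Subgroup G) (hKU : IsSigmaDecomposition M K U) :
    ∃ U₀ : Subgroup G, U₀ ≤ U ∧ Monoid.exponent U₀ = Monoid.exponent U ∧
      ∀ u ∈ U₀, u ∈ sigmaHat M → u = 1 :=
  s1360_of hG (nonabStmt hG) M hM K U hKU

end Cfsg.Agent.Lib.Helper96.E0Main
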