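import Mathlib
import Cfsg.Prelude.Def_CaseTheorems
import Cfsg.Prelude.Def_TwoFusion
import Cfsg.Agent.Lib.Helper4.KleinOf
import Cfsg.Agent.Lib.Helper20.Isolated

/-! Consequences of Glauberman's Z*-theorem, written against a hypothesis `ZStarHyp` which is the
type of the statement S0215. -/

namespace Cfsg.Agent.Lib.Helper96.ZStarDep

universe u

/-- The statement of Glauberman's Z*-theorem for groups in universe `u`. -/
def ZStarHyp : Prop :=
  ∀ {G : Type u} [Group G] [Finite G] (P : Sylow 2 G) (u : G), orderOf u = 2 → u ∈ P →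
    (∀ g : G, g * u * g⁻¹ ∈ P → g * u * g⁻¹ = u) →
    ∃ N : Subgroup G, N.Normal ∧ Odd (Nat.card N) ∧ ∀ g : G, (u * g * u⁻¹ * g⁻¹) ∈ N

variable {G : Type u} [Group G] [Finite G]

theorem zsd_orderOf_conj (g z : G) : orderOf (g * z * g⁻¹) = orderOf z := by
  have := orderOf_injective (MulAut.conj g).toMonoidHom (MulAut.conj g).injective z
  simpa using this

theorem zsd_mul_self {z : G} (hz : orderOf z = 2) : z * z = 1 := by
  have := pow_orderOf_eq_one z
  rw [hz] at this
  simpa [pow_two] using this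

theorem zsd_ne_one {z : G} (hz : orderOf z = 2) : z ≠ 1 := by
  intro h
  rw [h, orderOf_one] at hz
  omega

/-- A `2`-subgroup without Klein four-subgroups has at most one involution. -/
theorem zsd_unique_involution (hrank : ∀ E : Subgroup G, ¬ IsKleinFour E) (P : Subgroup G)
    (hP : IsPGroup 2 P) (a b : G) (ha : a ∈ P) (hb : b ∈ P) (ha2 : orderOf a = 2)
    (hb2 : orderOf b = 2) : a = b := by
  classical
  haveI : Fact (Nat.Prime 2) := ⟨Nat.prime_two⟩
  -- a central involution of P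
  haveI : Nontrivial P := ⟨⟨⟨a, ha⟩, 1, fun h => zsd_ne_one ha2 (by simpa using congrArg Subtype.val h)⟩⟩
  have hcen : Subgroup.center P ≠ ⊥ := by
    have := hP.center_nontrivial
    intro h
    rw [h] at this
    exact not_nontrivial _ this
  have h2 : 2 ∣ Nat.card (Subgroup.center P) := by
    obtain ⟨k, hk⟩ := (hP.to_subgroup (Subgroup.center P)).exists_card_eq
    rcases k with _ | k
    · exfalso
      apply hcen
      rw [pow_zero] at hk
      exact Subgroup.eq_bot_of_card_eq _ hk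
    · rw [hk, pow_succ]
      exact dvd_mul_left _ _
  obtain ⟨⟨z, hzc⟩, hz⟩ := exists_prime_orderOf_dvd_card' 2 h2
  have hz2 : orderOf (z : G) = 2 := by
    rw [← hz]
    simp [Subgroup.orderOf_coe]
  have key : ∀ v : G, v ∈ P → orderOf v = 2 → v = (z : G) := by
    intro v hv hv2
    by_contra hne
    have hcomm : v * (z : G) = (z : G) * v := by
      have := (Subgroup.mem_center_iff.mp hzc) ⟨v, hv⟩
      have := congrArg Subtype.val this
      simpa using this
    exact hrank _ (Cfsg.Agent.Lib.Helper4.isKleinFour_kleinOf (zsd_mul_self hv2) (zsd_mul_self hz2)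
      hcomm (zsd_ne_one hv2) (zsd_ne_one hz2) hne)
  rw [key a ha ha2, key b hb hb2]

/-- S0225 from the Z*-theorem. -/
theorem two_rank_one_of_zStar (hZ : ZStarHyp.{u}) (heven : Even (Nat.card G))
    (hrank : ∀ E : Subgroup G, ¬ IsKleinFour E) :
    ∃ z : G, orderOf z = 2 ∧ ∃ N : Subgroup G, N.Normal ∧ Odd (Nat.card N) ∧
      ∀ g : G, z * g * z⁻¹ * g⁻¹ ∈ N := by
  classical
  haveI : Fact (Nat.Prime 2) := ⟨Nat.prime_two⟩
  obtain ⟨u, hu⟩ := exists_prime_orderOf_dvd_card' 2 (even_iff_two_dvd.mp heven)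
  obtain ⟨P, hP⟩ := (IsPGroup.of_card (p := 2) (n := 1) (by
    rw [Nat.card_zpowers, hu, pow_one] : Nat.card (Subgroup.zpowers u) = 2 ^ 1)).exists_le_sylow
  have huP : u ∈ P := hP (Subgroup.mem_zpowers u)
  refine ⟨u, hu, hZ P u hu huP ?_⟩
  intro g hg
  exact zsd_unique_involution hrank (P : Subgroup G) P.isPGroup' _ _ hg huP
    (by rw [zsd_orderOf_conj, hu]) hu

/-- An isolated involution has no other conjugate in a `2`-subgroup containing it. -/
theorem isolated_unique_in_two_group {z : G} (hz : Cfsg.IsIsolatedInvolution z) (P : Subgroup G)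
    (hP : IsPGroup 2 P) (hzP : z ∈ P) (g : G) (hg : g * z * g⁻¹ ∈ P) : g * z * g⁻¹ = z := by
  have hodd := Cfsg.Agent.Lib.Helper20.isolated_odd_orderOf_mul hz g
  have hmem : z * (g * z * g⁻¹) ∈ P := P.mul_mem hzP hg
  obtain ⟨k, hk⟩ := hP ⟨_, hmem⟩
  have hk' : (z * (g * z * g⁻¹)) ^ (2 ^ k) = 1 := by
    have := congrArg Subtype.val hk
    simpa using this
  have hdvd : orderOf (z * (g * z * g⁻¹)) ∣ 2 ^ k := orderOf_dvd_of_pow_eq_one hk'
  have h1 : orderOf (z * (g * z * g⁻¹)) = 1 := by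
    have hcop : Nat.Coprime (orderOf (z * (g * z * g⁻¹))) (2 ^ k) :=
      Nat.Coprime.pow_right k (Nat.coprime_two_right.mpr hodd)
    exact Nat.Coprime.eq_one_of_dvd hcop hdvd
  have h2 : z * (g * z * g⁻¹) = 1 := orderOf_eq_one_iff.mp h1
  have hzz := zsd_mul_self hz.1
  calc g * z * g⁻¹ = (z * z) * (g * z * g⁻¹) := by rw [hzz, one_mul]
    _ = z * (z * (g * z * g⁻¹)) := by rw [mul_assoc]
    _ = z := by rw [h2, mul_one]

/-- S1188 (without the solvability hypothesis) from the Z*-theorem. -/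
theorem isolated_central_mod_oddCore_of_zStar (hZ : ZStarHyp.{u}) (z : G)
    (hz : Cfsg.IsIsolatedInvolution z) : ∀ g : G, z * g * z⁻¹ * g⁻¹ ∈ Cfsg.oddCore G := by
  classical
  haveI : Fact (Nat.Prime 2) := ⟨Nat.prime_two⟩
  obtain ⟨P, hP⟩ := (IsPGroup.of_card (p := 2) (n := 1) (by
    rw [Nat.card_zpowers, hz.1, pow_one] : Nat.card (Subgroup.zpowers z) = 2 ^ 1)).exists_le_sylow
  have hzP : z ∈ P := hP (Subgroup.mem_zpowers z)
  obtain ⟨N, hN, hodd, hcomm⟩ := hZ P z hz.1 hzP
    (fun g hg => isolated_unique_in_two_group hz (P : Subgroup G) P.isPGroup' hzP g hg)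
  intro g
  have hle : N ≤ Cfsg.oddCore G := by
    apply le_sSup
    exact ⟨hN, Nat.coprime_two_right.mpr hodd⟩
  exact hle (hcomm g)

end Cfsg.Agent.Lib.Helper96.ZStarDep
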