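import Mathlib
import Cfsg.Prelude.Def_CaseTheorems
import Cfsg.Agent.Lib.Helper21.SylowExtra
import Cfsg.Agent.Lib.Helper55.Cores
import Cfsg.Agent.Lib.Helper96.ZStarDep

/-! The Z*-theorem for weakly closed `2`-elements (not only involutions), derived from the
Z*-theorem for involutions (hypothesis `ZStarHyp`). -/

set_option autoImplicit false
set_option linter.style.haveILetI false
set_option linter.unusedSectionVars false

namespace Cfsg.Agent.Lib.Helper96.ZStarElt

open Cfsg.Agent.Lib.Helper96.ZStarDep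

universe u

section basic

variable {G : Type u} [Group G]

/-- `x` is a `2`-element. -/
def IsTwoElt (x : G) : Prop := ∃ n : ℕ, x ^ 2 ^ n = 1

/-- `x` has no other conjugate in any `2`-subgroup containing it. -/
def WCElt (x : G) : Prop :=
  ∀ T : Subgroup G, IsPGroup 2 T → x ∈ T → ∀ g : G, g * x * g⁻¹ ∈ T → g * x * g⁻¹ = x

theorem isTwoElt_of_mem {x : G} {T : Subgroup G} (hT : IsPGroup 2 T) (hx : x ∈ T) : IsTwoElt x := by
  obtain ⟨n, hn⟩ := hT ⟨x, hx⟩
  refine ⟨n, ?_⟩
  have := congrArg Subtype.val hn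
  simpa using this

theorem isPGroup_zpowers {x : G} (hx : IsTwoElt x) : IsPGroup 2 (Subgroup.zpowers x) := by
  obtain ⟨n, hn⟩ := hx
  rintro ⟨y, hy⟩
  obtain ⟨k, rfl⟩ := Subgroup.mem_zpowers_iff.mp hy
  refine ⟨n, ?_⟩
  apply Subtype.ext
  show (x ^ k) ^ 2 ^ n = 1
  rw [← zpow_natCast, ← zpow_mul, mul_comm, zpow_mul, zpow_natCast, hn, one_zpow]

theorem isTwoElt_conj {x : G} (hx : IsTwoElt x) (g : G) : IsTwoElt (g * x * g⁻¹) := by
  obtain ⟨n, hn⟩ := hx
  refine ⟨n, ?_⟩
  rw [conj_pow, hn, mul_one, mul_inv_cancel]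

theorem isTwoElt_map {H : Type*} [Group H] (f : G →* H) {x : G} (hx : IsTwoElt x) :
    IsTwoElt (f x) := by
  obtain ⟨n, hn⟩ := hx
  exact ⟨n, by rw [← map_pow, hn, map_one]⟩

variable [Finite G]

/-- An element of a Sylow `2`-subgroup with no other conjugate in it is `WCElt`. -/
theorem wcElt_of_sylow (S : Sylow 2 G) (x : G)
    (h : ∀ g : G, g * x * g⁻¹ ∈ (S : Subgroup G) → g * x * g⁻¹ = x) : WCElt x := by
  haveI : Fact (Nat.Prime 2) := ⟨Nat.prime_two⟩
  intro T hT hxT g hg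
  obtain ⟨Q, hQ⟩ := hT.exists_le_sylow
  obtain ⟨k, hk⟩ := MulAction.exists_smul_eq G S Q
  have hmem : ∀ y : G, y ∈ T → k⁻¹ * y * k ∈ (S : Subgroup G) := by
    intro y hy
    have h1 : y ∈ ((k • S : Sylow 2 G) : Subgroup G) := by rw [hk]; exact hQ hy
    rw [Sylow.coe_subgroup_smul, Subgroup.mem_pointwise_smul_iff_inv_smul_mem] at h1
    simpa [MulAut.smul_def, mul_assoc] using h1
  have h1 : k⁻¹ * x * k = x := by
    have := h k⁻¹ (by rw [inv_inv]; exact hmem x hxT)
    rwa [inv_inv] at this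
  have h2 : (k⁻¹ * g) * x * (k⁻¹ * g)⁻¹ = x := by
    apply h
    have := hmem _ hg
    have e : (k⁻¹ * g) * x * (k⁻¹ * g)⁻¹ = k⁻¹ * (g * x * g⁻¹) * k := by group
    rw [e]
    exact this
  have h3 : k * x * k⁻¹ = x := by
    calc k * x * k⁻¹ = k * (k⁻¹ * x * k) * k⁻¹ := by rw [h1]
      _ = x := by group
  calc g * x * g⁻¹ = k * ((k⁻¹ * g) * x * (k⁻¹ * g)⁻¹) * k⁻¹ := by group
    _ = x := by rw [h2, h3]

/-- Powers of a `WCElt` element have no other conjugate in a `2`-subgroup containing the element. -/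
theorem wcElt_pow_unique (x : G) (hx : WCElt x) (hx2 : IsTwoElt x) (m : ℕ) (P : Subgroup G)
    (hP : IsPGroup 2 P) (hxP : x ∈ P) (g : G) (hg : g * x ^ m * g⁻¹ ∈ P) :
    g * x ^ m * g⁻¹ = x ^ m := by
  haveI : Fact (Nat.Prime 2) := ⟨Nat.prime_two⟩
  set v := g * x ^ m * g⁻¹ with hv
  set y := g * x * g⁻¹ with hy
  have hyv : y ^ m = v := by rw [hy, hv, conj_pow]
  -- x commutes with v
  have hxv : v * x * v⁻¹ = x := hx P hP hxP v (P.mul_mem (P.mul_mem hg hxP) (P.inv_mem hg))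
  have hxC : x ∈ Subgroup.centralizer ({v} : Set G) := by
    rw [Subgroup.mem_centralizer_iff]
    intro w hw
    rw [Set.mem_singleton_iff] at hw
    subst hw
    calc v * x = (v * x * v⁻¹) * v := by group
      _ = x * v := by rw [hxv]
  have hyC : y ∈ Subgroup.centralizer ({v} : Set G) := by
    rw [Subgroup.mem_centralizer_iff]
    intro w hw
    rw [Set.mem_singleton_iff] at hw
    subst hw
    rw [← hyv, ← pow_succ, ← pow_succ']
  obtain ⟨c, hcC, T, hT, -, hxT, hyT⟩ := Cfsg.Agent.Lib.Helper21.exists_conj_le_pgroup (p := 2)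
    (Subgroup.centralizer ({v} : Set G)) (Subgroup.zpowers x) (Subgroup.zpowers y)
    (by rw [Subgroup.zpowers_le]; exact hxC) (by rw [Subgroup.zpowers_le]; exact hyC)
    (isPGroup_zpowers hx2) (isPGroup_zpowers (isTwoElt_conj hx2 g))
  have h1 : (c * g) * x * (c * g)⁻¹ = x := by
    apply hx T hT (hxT (Subgroup.mem_zpowers x))
    have := hyT y (Subgroup.mem_zpowers y)
    have e : (c * g) * x * (c * g)⁻¹ = c * y * c⁻¹ := by rw [hy]; group
    rw [e]
    exact this
  have h2 : c * v * c⁻¹ = x ^ m := by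
    have := congrArg (fun w => w ^ m) h1
    simp only [conj_pow] at this
    rw [← this, hv]
    group
  have h3 : c * v * c⁻¹ = v := by
    rw [Subgroup.mem_centralizer_iff] at hcC
    have := hcC v (Set.mem_singleton v)
    calc c * v * c⁻¹ = (v * c) * c⁻¹ := by rw [this]
      _ = v := by group
  rw [← h3, h2]

/-- If `M/N` is a `2`-group then a Sylow `2`-subgroup of `M` covers `M/N`. -/
theorem exists_mul_of_quotient_pgroup {M : Type*} [Group M] [Finite M] (N : Subgroup M) [N.Normal]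
    (hq : IsPGroup 2 (M ⧸ N)) (P : Sylow 2 M) (m : M) :
    ∃ t ∈ (P : Subgroup M), ∃ n ∈ N, m = t * n := by
  haveI : Fact (Nat.Prime 2) := ⟨Nat.prime_two⟩
  have h1 : ((P : Subgroup M) ⊔ N).index ∣ (P : Subgroup M).index :=
    Subgroup.index_dvd_of_le le_sup_left
  have h2 : ((P : Subgroup M) ⊔ N).index ∣ N.index := Subgroup.index_dvd_of_le le_sup_right
  obtain ⟨a, ha⟩ := (IsPGroup.iff_card.mp hq)
  have h3 : N.index = 2 ^ a := by rw [Subgroup.index_eq_card, ha]
  rw [h3] at h2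
  obtain ⟨b, -, hb⟩ := (Nat.dvd_prime_pow Nat.prime_two).mp h2
  have hb0 : b = 0 := by
    by_contra hb0
    apply P.not_dvd_index
    apply dvd_trans _ h1
    rw [hb]
    exact dvd_pow_self 2 hb0
  rw [hb0, pow_zero, Subgroup.index_eq_one] at hb
  have hm : m ∈ (((P : Subgroup M) ⊔ N : Subgroup M) : Set M) := by rw [hb]; trivial
  rw [Subgroup.mul_normal] at hm
  obtain ⟨t, ht, n, hn, rfl⟩ := Set.mem_mul.mp hm
  exact ⟨t, ht, n, hn, rfl⟩

theorem exists_mul_of_pow_mem {M : Type*} [Group M] [Finite M] (N : Subgroup M) [N.Normal]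
    (h : ∀ m : M, ∃ k : ℕ, m ^ 2 ^ k ∈ N) (P : Sylow 2 M) (m : M) :
    ∃ t ∈ (P : Subgroup M), ∃ n ∈ N, m = t * n := by
  apply exists_mul_of_quotient_pgroup N _ P m
  intro q
  obtain ⟨m, rfl⟩ := QuotientGroup.mk'_surjective N q
  obtain ⟨k, hk⟩ := h m
  refine ⟨k, ?_⟩
  rw [← map_pow]
  exact (QuotientGroup.eq_one_iff _).mpr hk

/-- `WCElt` passes to quotients. -/
theorem wcElt_quotient (N : Subgroup G) [N.Normal] (x : G) (hx : WCElt x) (hx2 : IsTwoElt x) :
    WCElt (QuotientGroup.mk' N x) := by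
  haveI : Fact (Nat.Prime 2) := ⟨Nat.prime_two⟩
  intro Tb hTb hxb gb hgb
  obtain ⟨g, rfl⟩ := QuotientGroup.mk'_surjective N gb
  set M : Subgroup G := Tb.comap (QuotientGroup.mk' N) with hM
  have hxM : x ∈ M := hxb
  have hyM : g * x * g⁻¹ ∈ M := by
    show QuotientGroup.mk' N (g * x * g⁻¹) ∈ Tb
    rw [map_mul, map_mul, map_inv]
    exact hgb
  -- Step A: conjugation by elements of M fixes the image of x
  have stepA : ∀ m ∈ M, QuotientGroup.mk' N (m * x * m⁻¹) = QuotientGroup.mk' N x := by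
    haveI : (N.subgroupOf M).Normal := Subgroup.Normal.subgroupOf inferInstance M
    have hpow : ∀ m : M, ∃ k : ℕ, m ^ 2 ^ k ∈ N.subgroupOf M := by
      intro m
      obtain ⟨k, hk⟩ := hTb ⟨QuotientGroup.mk' N (m : G), m.2⟩
      refine ⟨k, ?_⟩
      rw [Subgroup.mem_subgroupOf]
      have := congrArg Subtype.val hk
      simp only [Subgroup.coe_pow, Subgroup.coe_one, ← map_pow] at this
      have h2 := (QuotientGroup.eq_one_iff _).mp this
      simpa using h2
    obtain ⟨P, hP⟩ := (IsPGroup.comap_subtype (H := Subgroup.zpowers x) (K := M)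
      (isPGroup_zpowers hx2)).exists_le_sylow
    intro m hm
    obtain ⟨t, ht, n, hn, hmtn⟩ := exists_mul_of_pow_mem (N.subgroupOf M) hpow P ⟨m, hm⟩
    have hxP : x ∈ (P : Subgroup M).map M.subtype :=
      ⟨⟨x, hxM⟩, hP (Subgroup.mem_subgroupOf.mpr (Subgroup.mem_zpowers x)), rfl⟩
    have htx : (t : G) * x * (t : G)⁻¹ = x := by
      apply hx _ (P.2.map M.subtype) hxP
      obtain ⟨x', hx'P, hx'⟩ := hxP
      refine ⟨t * x' * t⁻¹, (P : Subgroup M).mul_mem ((P : Subgroup M).mul_mem ht hx'P)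
        ((P : Subgroup M).inv_mem ht), ?_⟩
      simp [← hx']
    have hmG : m = (t : G) * (n : G) := by
      have := congrArg Subtype.val hmtn
      simpa using this
    have hnN : QuotientGroup.mk' N (n : G) = 1 :=
      (QuotientGroup.eq_one_iff _).mpr (Subgroup.mem_subgroupOf.mp hn)
    rw [hmG]
    simp only [map_mul, map_inv, hnN, mul_one]
    rw [← map_inv, ← map_mul, ← map_mul, htx]
  -- Step B
  obtain ⟨c, hcM, T, hT, -, hxT, hyT⟩ := Cfsg.Agent.Lib.Helper21.exists_conj_le_pgroup (p := 2)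
    M (Subgroup.zpowers x) (Subgroup.zpowers (g * x * g⁻¹))
    (by rw [Subgroup.zpowers_le]; exact hxM) (by rw [Subgroup.zpowers_le]; exact hyM)
    (isPGroup_zpowers hx2) (isPGroup_zpowers (isTwoElt_conj hx2 g))
  have h1 : (c * g) * x * (c * g)⁻¹ = x := by
    apply hx T hT (hxT (Subgroup.mem_zpowers x))
    have := hyT _ (Subgroup.mem_zpowers (g * x * g⁻¹))
    have e : (c * g) * x * (c * g)⁻¹ = c * (g * x * g⁻¹) * c⁻¹ := by group
    rw [e]
    exact this
  have h2 : g * x * g⁻¹ = c⁻¹ * x * c⁻¹⁻¹ := by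
    rw [inv_inv]
    calc g * x * g⁻¹ = c⁻¹ * ((c * g) * x * (c * g)⁻¹) * c := by group
      _ = c⁻¹ * x * c := by rw [h1]
  have h3 := stepA c⁻¹ (M.inv_mem hcM)
  calc QuotientGroup.mk' N g * QuotientGroup.mk' N x * (QuotientGroup.mk' N g)⁻¹
      = QuotientGroup.mk' N (g * x * g⁻¹) := by rw [map_mul, map_mul, map_inv]
    _ = QuotientGroup.mk' N x := by rw [h2, h3]

/-- In a group with trivial odd core, a normal subgroup of order `2 * odd` containing a central
involution has order `2`. -/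
theorem card_eq_two_of_oddCore_eq_bot (hO : Cfsg.oddCore G = ⊥) (u : G) (hu : orderOf u = 2)
    (hucen : ∀ g : G, u * g = g * u) (M : Subgroup G) [hMn : M.Normal] (huM : u ∈ M) (k : ℕ)
    (hk : Odd k) (hcard : Nat.card M = 2 * k) : Nat.card M = 2 := by
  haveI : Fact (Nat.Prime 2) := ⟨Nat.prime_two⟩
  set u' : M := ⟨u, huM⟩ with hu'
  have hu'cen : ∀ m : M, u' * m = m * u' := fun m => Subtype.ext (hucen m)
  haveI hUn : (Subgroup.zpowers u').Normal := by
    refine ⟨fun n hn m => ?_⟩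
    obtain ⟨j, rfl⟩ := Subgroup.mem_zpowers_iff.mp hn
    have : m * u' ^ j * m⁻¹ = u' ^ j := by
      have hc : Commute m (u' ^ j) := (Commute.zpow_right (hu'cen m).symm j)
      rw [hc.eq, mul_assoc, mul_inv_cancel, mul_one]
    rw [this]
    exact Subgroup.zpow_mem _ (Subgroup.mem_zpowers u') j
  have hou' : orderOf u' = 2 := by
    rw [← hu, hu', ← Subgroup.orderOf_coe]
  have hcU : Nat.card (Subgroup.zpowers u') = 2 := by rw [Nat.card_zpowers, hou']
  have hidx : (Subgroup.zpowers u').index = k := by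
    have := Subgroup.card_mul_index (Subgroup.zpowers u')
    rw [hcU, hcard] at this
    omega
  obtain ⟨H, hH⟩ := Subgroup.exists_right_complement'_of_coprime (N := Subgroup.zpowers u')
    (by rw [hcU, hidx]; exact Nat.coprime_two_left.mpr hk)
  have hHidx : H.index = 2 := by rw [hH.index_eq_card, hcU]
  have hHcard : Nat.card H = k := by
    have := hH.card_mul_card
    rw [hcU, hcard] at this
    omega
  haveI hHn : H.Normal := Subgroup.normal_of_index_eq_two hHidx
  -- K = image of H in G is normal in G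
  have hKn : (H.map M.subtype).Normal := by
    refine ⟨fun y hy g => ?_⟩
    obtain ⟨h, hhH, rfl⟩ := hy
    have hmem : g * (h : G) * g⁻¹ ∈ M := hMn.conj_mem _ h.2 g
    refine ⟨⟨g * (h : G) * g⁻¹, hmem⟩, ?_, rfl⟩
    -- odd order element lies in H
    set y' : M := ⟨g * (h : G) * g⁻¹, hmem⟩ with hy'
    have ho : orderOf y' = orderOf h := by
      rw [← Subgroup.orderOf_coe, hy', ← Subgroup.orderOf_coe h]
      exact zsd_orderOf_conj g (h : G)
    have hodd : Odd (orderOf y') := by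
      rw [ho]
      have h1 : orderOf (⟨h, hhH⟩ : H) ∣ Nat.card H := orderOf_dvd_natCard _
      rw [hHcard] at h1
      have h2 : orderOf (⟨h, hhH⟩ : H) = orderOf h := by
        rw [← Subgroup.orderOf_coe]
      rw [h2] at h1
      obtain ⟨c, rfl⟩ := h1
      exact (Nat.odd_mul.mp hk).1
    have hq1 : (QuotientGroup.mk' H y') ^ orderOf y' = 1 := by
      rw [← map_pow, pow_orderOf_eq_one, map_one]
    have hq2 : (QuotientGroup.mk' H y') ^ 2 = 1 := by
      have : Nat.card (M ⧸ H) = 2 := by rw [← Subgroup.index_eq_card, hHidx]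
      rw [← this]
      exact pow_card_eq_one'
    have hq3 := pow_gcd_eq_one.mpr ⟨hq1, hq2⟩
    rw [Nat.coprime_two_right.mpr hodd, pow_one] at hq3
    exact (QuotientGroup.eq_one_iff _).mp hq3
  have hKcard : Nat.card (H.map M.subtype) = k := by
    rw [Subgroup.card_map_of_injective M.subtype_injective, hHcard]
  have hKle : H.map M.subtype ≤ Cfsg.oddCore G := by
    apply le_sSup
    exact ⟨hKn, by rw [hKcard]; exact Nat.coprime_two_right.mpr hk⟩
  rw [hO, le_bot_iff] at hKle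
  rw [hKle, Subgroup.card_bot] at hKcard
  rw [hcard, ← hKcard]

end basic

/-- The Z*-theorem for weakly closed `2`-elements. -/
theorem zstar_elt (hZ : ZStarHyp.{u}) : ∀ (n : ℕ) (G : Type u) [Group G] [Finite G],
    Nat.card G = n → ∀ x : G, IsTwoElt x → WCElt x →
      ∃ N : Subgroup G, N.Normal ∧ Odd (Nat.card N) ∧ ∀ g : G, x * g * x⁻¹ * g⁻¹ ∈ N := by
  intro n
  induction n using Nat.strong_induction_on with
  | _ n ih =>
  intro G _ _ hn x hx2 hx
  haveI : Fact (Nat.Prime 2) := ⟨Nat.prime_two⟩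
  by_cases hx1 : x = 1
  · exact ⟨⊥, inferInstance, by simp, fun g => by simp [hx1]⟩
  by_cases hO : Cfsg.oddCore G = ⊥
  · -- the odd core is trivial: use the Z*-theorem for the involution of ⟨x⟩
    obtain ⟨n0, hn0⟩ := hx2
    obtain ⟨k, -, hk⟩ := (Nat.dvd_prime_pow Nat.prime_two).mp (orderOf_dvd_of_pow_eq_one hn0)
    have hk0 : k ≠ 0 := by
      rintro rfl
      rw [pow_zero, orderOf_eq_one_iff] at hk
      exact hx1 hk
    set u := x ^ 2 ^ (k - 1) with hu
    have hou : orderOf u = 2 := by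
      rw [hu, orderOf_pow_of_dvd (by positivity) (by rw [hk]; exact pow_dvd_pow 2 (Nat.sub_le k 1)), hk]
      have : k = (k - 1) + 1 := by omega
      conv_lhs => rw [this, pow_succ]
      exact Nat.mul_div_cancel_left 2 (by positivity)
    obtain ⟨P, hP⟩ := (isPGroup_zpowers ⟨n0, hn0⟩ : IsPGroup 2 (Subgroup.zpowers x)).exists_le_sylow
    have hxP : x ∈ (P : Subgroup G) := hP (Subgroup.mem_zpowers x)
    have huP : u ∈ (P : Subgroup G) := (P : Subgroup G).pow_mem hxP _
    obtain ⟨N0, hN0n, hN0odd, hN0⟩ := hZ P u hou huP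
      (fun g hg => wcElt_pow_unique x hx ⟨n0, hn0⟩ (2 ^ (k - 1)) (P : Subgroup G) P.2 hxP g hg)
    have hN0bot : N0 = ⊥ := by
      rw [← le_bot_iff, ← hO]
      apply le_sSup
      exact ⟨hN0n, Nat.coprime_two_right.mpr hN0odd⟩
    have hucen : ∀ g : G, u * g = g * u := by
      intro g
      have := hN0 g
      rw [hN0bot, Subgroup.mem_bot] at this
      calc u * g = (u * g * u⁻¹ * g⁻¹) * (g * u) := by group
        _ = g * u := by rw [this, one_mul]
    haveI hUn : (Subgroup.zpowers u).Normal := by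
      refine ⟨fun y hy g => ?_⟩
      obtain ⟨j, rfl⟩ := Subgroup.mem_zpowers_iff.mp hy
      have hc : Commute g (u ^ j) := (Commute.zpow_right (hucen g).symm j)
      rw [hc.eq, mul_assoc, mul_inv_cancel, mul_one]
      exact Subgroup.zpow_mem _ (Subgroup.mem_zpowers u) j
    have hcU : Nat.card (Subgroup.zpowers u) = 2 := by rw [Nat.card_zpowers, hou]
    have hcardq : Nat.card (G ⧸ Subgroup.zpowers u) < n := by
      have := Subgroup.card_eq_card_quotient_mul_card_subgroup (Subgroup.zpowers u)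
      rw [hcU, hn] at this
      have hpos : 0 < Nat.card (G ⧸ Subgroup.zpowers u) := Nat.card_pos
      omega
    obtain ⟨Nb, hNbn, hNbodd, hNb⟩ := ih _ hcardq (G ⧸ Subgroup.zpowers u) rfl
      (QuotientGroup.mk' (Subgroup.zpowers u) x) (isTwoElt_map _ ⟨n0, hn0⟩)
      (wcElt_quotient (Subgroup.zpowers u) x hx ⟨n0, hn0⟩)
    haveI := hNbn
    have hMcard := Cfsg.Agent.Lib.Helper55.card_comap_mk' (Subgroup.zpowers u) Nb
    rw [hcU] at hMcard
    have hM2 : Nat.card (Nb.comap (QuotientGroup.mk' (Subgroup.zpowers u))) = 2 :=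
      card_eq_two_of_oddCore_eq_bot hO u hou hucen _
        (Cfsg.Agent.Lib.Helper55.le_comap_mk' (Subgroup.zpowers u) Nb (Subgroup.mem_zpowers u))
        (Nat.card Nb) hNbodd hMcard
    have hNb1 : Nat.card Nb = 1 := by omega
    have hNbbot : Nb = ⊥ := Subgroup.eq_bot_of_card_eq _ hNb1
    refine ⟨⊥, inferInstance, by simp, fun g => ?_⟩
    have h1 := hNb (QuotientGroup.mk' (Subgroup.zpowers u) g)
    rw [hNbbot, Subgroup.mem_bot, ← map_inv, ← map_inv, ← map_mul, ← map_mul, ← map_mul] at h1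
    have h2 : x * g * x⁻¹ * g⁻¹ ∈ Subgroup.zpowers u := (QuotientGroup.eq_one_iff _).mp h1
    have h3 : x * g * x⁻¹ * g⁻¹ ∈ Subgroup.zpowers x := by
      obtain ⟨j, hj⟩ := Subgroup.mem_zpowers_iff.mp h2
      rw [← hj]
      exact Subgroup.zpow_mem _ (Subgroup.pow_mem _ (Subgroup.mem_zpowers x) _) j
    have h4 : g * x * g⁻¹ ∈ Subgroup.zpowers x := by
      have e : g * x * g⁻¹ = (x⁻¹ * (x * g * x⁻¹ * g⁻¹))⁻¹ := by group
      rw [e]
      exact Subgroup.inv_mem _ (Subgroup.mul_mem _ (Subgroup.inv_mem _ (Subgroup.mem_zpowers x)) h3)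
    have h5 := hx (Subgroup.zpowers x) (isPGroup_zpowers ⟨n0, hn0⟩) (Subgroup.mem_zpowers x) g h4
    rw [Subgroup.mem_bot]
    calc x * g * x⁻¹ * g⁻¹ = x * (g * x * g⁻¹)⁻¹ := by group
      _ = 1 := by rw [h5, mul_inv_cancel]
  · -- the odd core is nontrivial: pass to the quotient
    have hcO : 1 < Nat.card (Cfsg.oddCore G) := (Cfsg.oddCore G).one_lt_card_iff_ne_bot.mpr hO
    have hcardq : Nat.card (G ⧸ Cfsg.oddCore G) < n := by
      have := Subgroup.card_eq_card_quotient_mul_card_subgroup (Cfsg.oddCore G)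
      rw [hn] at this
      have hpos : 0 < Nat.card (G ⧸ Cfsg.oddCore G) := Nat.card_pos
      nlinarith
    obtain ⟨Nb, hNbn, hNbodd, hNb⟩ := ih _ hcardq (G ⧸ Cfsg.oddCore G) rfl
      (QuotientGroup.mk' (Cfsg.oddCore G) x) (isTwoElt_map _ hx2)
      (wcElt_quotient (Cfsg.oddCore G) x hx hx2)
    haveI := hNbn
    refine ⟨Nb.comap (QuotientGroup.mk' (Cfsg.oddCore G)), inferInstance, ?_, fun g => ?_⟩
    · rw [Cfsg.Agent.Lib.Helper55.card_comap_mk']
      exact Nat.odd_mul.mpr ⟨Nat.coprime_two_right.mp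
        (Cfsg.Agent.Lib.Helper55.pPrimeCore_card_coprime 2), hNbodd⟩
    · rw [Subgroup.mem_comap]
      have h1 := hNb (QuotientGroup.mk' (Cfsg.oddCore G) g)
      simpa only [map_mul, map_inv] using h1

/-- The Z*-theorem for an element of a Sylow `2`-subgroup with no other conjugate in it. -/
theorem zstar_elt_sylow (hZ : ZStarHyp.{u}) {G : Type u} [Group G] [Finite G] (S : Sylow 2 G)
    (x : G) (hxS : x ∈ (S : Subgroup G))
    (h : ∀ g : G, g * x * g⁻¹ ∈ (S : Subgroup G) → g * x * g⁻¹ = x) :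
    ∀ g : G, x * g * x⁻¹ * g⁻¹ ∈ Cfsg.oddCore G := by
  obtain ⟨N, hNn, hNodd, hN⟩ := zstar_elt hZ _ G rfl x (isTwoElt_of_mem S.2 hxS)
    (wcElt_of_sylow S x h)
  have hle : N ≤ Cfsg.oddCore G := by
    apply le_sSup
    exact ⟨hNn, Nat.coprime_two_right.mpr hNodd⟩
  exact fun g => hle (hN g)

section coset

variable {G : Type u} [Group G]

/-- A `2`-group `Z` normalizing the left coset `a D` of a subgroup `D` of odd order centralizes
some element of it. -/
theorem exists_fixed_in_left_coset (Z D : Subgroup G) [Finite D] (hZ : IsPGroup 2 Z)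
    (hD : Odd (Nat.card D)) (a : G)
    (h : ∀ z ∈ Z, ∀ d ∈ D, a⁻¹ * (z * (a * d) * z⁻¹) ∈ D) :
    ∃ d ∈ D, ∀ z ∈ Z, z * (a * d) * z⁻¹ = a * d := by
  haveI : Fact (Nat.Prime 2) := ⟨Nat.prime_two⟩
  letI act : MulAction Z D :=
    { smul := fun z d => ⟨a⁻¹ * ((z : G) * (a * (d : G)) * (z : G)⁻¹), h z z.2 d d.2⟩
      one_smul := by
        intro d
        apply Subtype.ext
        show a⁻¹ * (((1 : Z) : G) * (a * (d : G)) * ((1 : Z) : G)⁻¹) = d
        simp
      mul_smul := by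
        intro z w d
        apply Subtype.ext
        show a⁻¹ * (((z * w : Z) : G) * (a * (d : G)) * ((z * w : Z) : G)⁻¹) =
          a⁻¹ * ((z : G) * (a * (a⁻¹ * ((w : G) * (a * (d : G)) * (w : G)⁻¹))) * (z : G)⁻¹)
        simp only [Subgroup.coe_mul]
        group }
  have hnd : ¬ 2 ∣ Nat.card D := by
    intro h2
    exact (Nat.not_even_iff_odd.mpr hD) (even_iff_two_dvd.mpr h2)
  obtain ⟨d, hd⟩ := hZ.nonempty_fixed_point_of_prime_not_dvd_card D hnd
  refine ⟨d, d.2, fun z hz => ?_⟩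
  have h1 := hd ⟨z, hz⟩
  have h2 : a⁻¹ * (z * (a * (d : G)) * z⁻¹) = d := congrArg Subtype.val h1
  calc z * (a * (d : G)) * z⁻¹ = a * (a⁻¹ * (z * (a * (d : G)) * z⁻¹)) := by group
    _ = a * d := by rw [h2]

end coset

end Cfsg.Agent.Lib.Helper96.ZStarElt
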