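import Mathlib
import Cfsg.Prelude

/-!
# S1435 clauses 5+6 (B&G Section 14): the configuration `(H, M*, K, E)`

`H` is a maximal subgroup with `κ(H) = ∅`, not conjugate to `M*`; `K ≤ M*_σ` has prime order,
`M*` is the only maximal subgroup over `C_G(K)`; `E ≥ K` is a complement of `H_σ` in `H`.
-/

set_option autoImplicit false
open Subgroup Cfsg

namespace Cfsg.Agent.Lib.Helper96.BG1435

variable {G : Type*} [Group G]

/-- the configuration of S1435, clauses 5 and 6 -/
structure Cfg (H Ms K E : Subgroup G) : Prop where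
  hH : IsCoatom H
  hMs : IsCoatom Ms
  hκ : kappa H = ∅
  hKp : (Nat.card K).Prime
  hKMs : K ≤ sigmaCore Ms
  hCK : centralizer (K : Set G) ≤ Ms
  hCKu : ∀ L : Subgroup G, IsCoatom L → centralizer (K : Set G) ≤ L → L = Ms
  hE : IsComplIn E (sigmaCore H) H
  hKE : K ≤ E
  hnc : ∀ g : G, H ≠ Ms.map (MulAut.conj g).toMonoidHom
  /-- no subgroup `S0` of order `s ∈ κ(M*)` has `H` as the only maximal subgroup over `C_G(S0)` -/
  hκMs : ∀ s ∈ kappa Ms, ∀ S0 : Subgroup G, Nat.card S0 = s → centralizer (S0 : Set G) ≤ H →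
    (∀ L : Subgroup G, IsCoatom L → centralizer (S0 : Set G) ≤ L → L = H) → False

end Cfsg.Agent.Lib.Helper96.BG1435
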