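import Mathlib
import Cfsg.Prelude.Def_Local
import Cfsg.Prelude.Def_TwoFusion
import Cfsg.Agent.Lib.Helper20.Isolated
import Cfsg.Agent.Lib.Helper21.SylowExtra
import Cfsg.Agent.Lib.Helper55.Cores
import Cfsg.Agent.Lib.Helper96.ZStarDep

/-! Step (G) of the character-theoretic proof of Glauberman's Z*-theorem (Navarro, ch. 7): the pure
group theory.  `x` an isolated involution of `G`, `G` without central involutions, the Z*-conclusion
known for all proper subgroups; `y ≠ x` an involution commuting with `x`.  Then every product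
`x^g * y` is of the form `z * v` with `z` an involution conjugate to `x * y` and `v ∈ O(C_G(z))`. -/

set_option autoImplicit false

namespace Cfsg.Agent.Lib.Helper96.ZStarG

open Cfsg.Agent.Lib.Helper20

universe u

variable {G : Type u} [Group G]

/-- Two involutions whose product has odd order are conjugate. -/
theorem conj_of_odd_orderOf_mul {a y : G} (ha : a * a = 1) (hy : y * y = 1)
    (hodd : Odd (orderOf (a * y))) : ∃ c : G, c * a * c⁻¹ = y := by
  obtain ⟨k, hk⟩ := hodd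
  have hinv := invol_conj_mul ha hy
  refine ⟨((a * y) ^ (k + 1))⁻¹, ?_⟩
  rw [invol_mul_pow_even ha hinv (k + 1)]
  have h1 : (a * y) ^ (k + 1 + (k + 1)) = a * y := by
    have : k + 1 + (k + 1) = orderOf (a * y) + 1 := by omega
    rw [this, pow_succ, pow_orderOf_eq_one, one_mul]
  rw [h1, ← mul_assoc, ha, one_mul]

/-- If `x` is isolated and `y ≠ x` is an involution commuting with `x`, then `x^g * y` has even order. -/
theorem even_orderOf_conj_mul {x : G} (hx : Cfsg.IsIsolatedInvolution x) {y : G}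
    (hy : orderOf y = 2) (hxy : Commute x y) (hne : y ≠ x) (g : G) :
    Even (orderOf (g * x * g⁻¹ * y)) := by
  rw [← Nat.not_odd_iff_even]
  intro hodd
  have hx2 := invol_mul_self hx.1
  have ha2 := conj_mul_self hx2 g
  have hy2 := invol_mul_self hy
  obtain ⟨c, hc⟩ := conj_of_odd_orderOf_mul ha2 hy2 hodd
  have hc' : (c * g) * x * (c * g)⁻¹ = y := by
    rw [← hc]; group
  have := hx.2 (c * g) (by rw [hc']; exact hxy)
  rw [hc'] at this
  exact hne this

/-- Elements of `C(x)` (for `x` isolated) which are conjugate in `G` are conjugate in `C(x)`. -/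
theorem conj_in_centralizer_of_isolated [Finite G] {x : G} (hx : Cfsg.IsIsolatedInvolution x)
    {y y' : G} (hxy' : Commute x y') (h : G) (hh : h * y * h⁻¹ = y') (hxy : Commute x y) :
    ∃ k : G, Commute k x ∧ k * y * k⁻¹ = y' := by
  classical
  have : Fact (Nat.Prime 2) := ⟨Nat.prime_two⟩
  set T : Subgroup G := Subgroup.centralizer {y'} with hT
  have hxT : x ∈ T := by
    rw [hT, Subgroup.mem_centralizer_singleton_iff]
    exact hxy'.eq
  have hx'T : h * x * h⁻¹ ∈ T := by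
    rw [hT, Subgroup.mem_centralizer_singleton_iff, ← hh]
    have e := hxy.eq
    calc h * x * h⁻¹ * (h * y * h⁻¹) = h * (x * y) * h⁻¹ := by group
      _ = h * (y * x) * h⁻¹ := by rw [e]
      _ = h * y * h⁻¹ * (h * x * h⁻¹) := by group
  have hp1 : IsPGroup 2 (Subgroup.zpowers x) :=
    IsPGroup.of_card (n := 1) (by rw [Nat.card_zpowers, hx.1, pow_one])
  have hp2 : IsPGroup 2 (Subgroup.zpowers (h * x * h⁻¹)) :=
    IsPGroup.of_card (n := 1) (by rw [Nat.card_zpowers, orderOf_conj', hx.1, pow_one])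
  obtain ⟨c, hcT, P, hP, -, hxP, hcP⟩ :=
    Cfsg.Agent.Lib.Helper21.exists_conj_le_pgroup T (Subgroup.zpowers x)
      (Subgroup.zpowers (h * x * h⁻¹)) (by rwa [Subgroup.zpowers_le]) (by rwa [Subgroup.zpowers_le])
      hp1 hp2
  have h1 : c * (h * x * h⁻¹) * c⁻¹ ∈ P := hcP _ (Subgroup.mem_zpowers _)
  have h2 : (c * h) * x * (c * h)⁻¹ ∈ P := by
    have : (c * h) * x * (c * h)⁻¹ = c * (h * x * h⁻¹) * c⁻¹ := by group
    rw [this]; exact h1
  have h3 := Cfsg.Agent.Lib.Helper96.ZStarDep.isolated_unique_in_two_group hx P hP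
    (hxP (Subgroup.mem_zpowers x)) (c * h) h2
  refine ⟨c * h, ?_, ?_⟩
  · show (c * h) * x = x * (c * h)
    have := congrArg (fun t => t * (c * h)) h3
    simpa [mul_assoc] using this
  · have hc' : c * y' = y' * c := by
      rw [hT, Subgroup.mem_centralizer_singleton_iff] at hcT
      exact hcT
    calc (c * h) * y * (c * h)⁻¹ = c * (h * y * h⁻¹) * c⁻¹ := by group
      _ = c * y' * c⁻¹ := by rw [hh]
      _ = y' := by rw [hc', mul_assoc, mul_inv_cancel, mul_one]

/-- **Step (G).** -/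
theorem stepG [Finite G] {x : G} (hx : Cfsg.IsIsolatedInvolution x)
    (hR1 : ∀ z : G, orderOf z = 2 → z ∉ Subgroup.center G)
    (IH : ∀ H : Subgroup G, H ≠ ⊤ → ∀ u : ↥H, Cfsg.IsIsolatedInvolution u →
      ∀ h : ↥H, u * h * u⁻¹ * h⁻¹ ∈ Cfsg.pPrimeCore 2 ↥H)
    {y : G} (hy : orderOf y = 2) (hxy : Commute x y) (hne : y ≠ x) (g : G) :
    ∃ z v : G, orderOf z = 2 ∧ IsConj (x * y) z ∧ v ∈ Cfsg.centralizerPPrimeCore 2 z ∧
      g * x * g⁻¹ * y = z * v := by
  classical
  have hx2 := invol_mul_self hx.1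
  have hy2 := invol_mul_self hy
  have hyi : y⁻¹ = y := inv_eq_of_mul_eq_one_right hy2
  obtain ⟨k, hk⟩ := even_orderOf_conj_mul hx hy hxy hne g
  have haiso : Cfsg.IsIsolatedInvolution (g * x * g⁻¹) := isolated_conj hx g
  have ha2 : (g * x * g⁻¹) * (g * x * g⁻¹) = 1 := conj_mul_self hx2 g
  generalize ha : g * x * g⁻¹ = a at *
  have hai : a⁻¹ = a := inv_eq_of_mul_eq_one_right ha2
  generalize hr : a * y = r at *
  have hkpos : 0 < k := by have := orderOf_pos r; omega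
  have hinv : a * r * a⁻¹ = r⁻¹ := by rw [← hr]; exact invol_conj_mul ha2 hy2
  have hinvy : y * r * y⁻¹ = r⁻¹ := by
    rw [← hr, mul_inv_rev, hai, hyi]
    calc y * (a * y) * y = y * a * (y * y) := by group
      _ = y * a := by rw [hy2, mul_one]
  have hz2 : r ^ k * r ^ k = 1 := by rw [← pow_add, ← hk, pow_orderOf_eq_one]
  have hz1 : r ^ k ≠ 1 := by
    intro h
    have h1 := orderOf_dvd_of_pow_eq_one h
    have := Nat.le_of_dvd hkpos h1
    omega
  generalize hz : r ^ k = z at *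
  have hzo : orderOf z = 2 := orderOf_eq_prime (by rw [pow_two]; exact hz2) hz1
  have hzi : z⁻¹ = z := inv_eq_of_mul_eq_one_right hz2
  have haz : a * z = z * a := by
    have h1 := conj_inv_pow hinv k
    rw [hz, hzi, hai] at h1
    calc a * z = (a * z * a) * a := by rw [mul_assoc (a * z), ha2, mul_one]
      _ = z * a := by rw [h1]
  have hyz : y * z = z * y := by
    have h1 := conj_inv_pow hinvy k
    rw [hz, hzi, hyi] at h1
    calc y * z = (y * z * y) * y := by rw [mul_assoc (y * z), hy2, mul_one]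
      _ = z * y := by rw [h1]
  -- the centralizer of `z`
  have haC : a ∈ Subgroup.centralizer ({z} : Set G) := by
    rw [Subgroup.mem_centralizer_singleton_iff]; exact haz
  have hyC : y ∈ Subgroup.centralizer ({z} : Set G) := by
    rw [Subgroup.mem_centralizer_singleton_iff]; exact hyz
  have hCtop : Subgroup.centralizer ({z} : Set G) ≠ ⊤ := by
    intro h
    apply hR1 z hzo
    rw [Subgroup.mem_center_iff]
    intro w
    have hw : w ∈ Subgroup.centralizer ({z} : Set G) := by rw [h]; trivial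
    rw [Subgroup.mem_centralizer_singleton_iff] at hw
    exact hw
  have haCiso : Cfsg.IsIsolatedInvolution
      (⟨a, haC⟩ : ↥(Subgroup.centralizer ({z} : Set G))) := by
    refine ⟨?_, ?_⟩
    · rw [← haiso.1]; exact Subgroup.orderOf_mk a haC
    · intro h hcomm
      have h1 := haiso.2 (h : G) (by
        have := congrArg Subtype.val hcomm.eq
        show a * (↑h * a * (↑h)⁻¹) = ↑h * a * (↑h)⁻¹ * a
        simpa using this)
      exact Subtype.ext (by simpa using h1)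
  have hIH := IH _ hCtop ⟨a, haC⟩ haCiso ⟨y, hyC⟩
  have hrrC : r * r ∈ Subgroup.centralizer ({z} : Set G) := by
    rw [← hr]
    exact Subgroup.mul_mem _ (Subgroup.mul_mem _ haC hyC) (Subgroup.mul_mem _ haC hyC)
  have hrr : (⟨r * r, hrrC⟩ : ↥(Subgroup.centralizer ({z} : Set G))) ∈
      Cfsg.pPrimeCore 2 ↥(Subgroup.centralizer ({z} : Set G)) := by
    convert hIH using 1
    apply Subtype.ext
    simp only [Subgroup.coe_mul, Subgroup.coe_inv, hai, hyi, ← hr, mul_assoc]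
  -- `k` is odd
  have hkodd : Odd k := by
    have h1 : orderOf (r * r) = k := by
      rw [← pow_two, orderOf_pow' r (by norm_num : (2 : ℕ) ≠ 0), hk]
      have : Nat.gcd (k + k) 2 = 2 := by
        rw [← two_mul]; simp
      rw [this]; omega
    have h2 : orderOf (⟨⟨r * r, hrrC⟩, hrr⟩ :
        ↥(Cfsg.pPrimeCore 2 ↥(Subgroup.centralizer ({z} : Set G)))) = k := by
      rw [← h1, ← Subgroup.orderOf_coe, ← Subgroup.orderOf_coe]
    have h3 : k ∣ Nat.card ↥(Cfsg.pPrimeCore 2 ↥(Subgroup.centralizer ({z} : Set G))) := by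
      rw [← h2]; exact orderOf_dvd_natCard _
    have h4 := Cfsg.Agent.Lib.Helper55.pPrimeCore_card_coprime
      (G := ↥(Subgroup.centralizer ({z} : Set G))) 2
    have h5 : Nat.Coprime k 2 := Nat.Coprime.coprime_dvd_left h3 h4
    exact Nat.coprime_two_right.mp h5
  obtain ⟨i, hi⟩ := hkodd
  -- `v`
  have hvC : (r * r) ^ (i + 1) ∈ Subgroup.centralizer ({z} : Set G) := Subgroup.pow_mem _ hrrC _
  have hv : (r * r) ^ (i + 1) ∈ Cfsg.centralizerPPrimeCore 2 z := by
    refine ⟨⟨r * r, hrrC⟩ ^ (i + 1), Subgroup.pow_mem _ hrr _, ?_⟩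
    simp
  refine ⟨z, (r * r) ^ (i + 1), hzo, ?_, hv, ?_⟩
  · -- conjugacy of `x * y` and `z`
    have hc : (r ^ i)⁻¹ * y * ((r ^ i)⁻¹)⁻¹ = a * z := by
      have h1 := invol_mul_pow_odd ha2 hinv i
      have h2 : a * r = y := by rw [← hr, ← mul_assoc, ha2, one_mul]
      have h3 : i + i + 1 = k := by omega
      rw [h2, h3, hz] at h1
      exact h1
    have hxa : x = g⁻¹ * a * g := by rw [← ha]; group
    have hxw : Commute x (x * (g⁻¹ * z * g)) := by
      show x * (x * (g⁻¹ * z * g)) = x * (g⁻¹ * z * g) * x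
      rw [mul_assoc x (g⁻¹ * z * g) x]
      congr 1
      rw [hxa]
      calc g⁻¹ * a * g * (g⁻¹ * z * g) = g⁻¹ * (a * z) * g := by group
        _ = g⁻¹ * (z * a) * g := by rw [haz]
        _ = g⁻¹ * z * g * (g⁻¹ * a * g) := by group
    have hh : (g⁻¹ * (r ^ i)⁻¹) * y * (g⁻¹ * (r ^ i)⁻¹)⁻¹ = x * (g⁻¹ * z * g) := by
      calc (g⁻¹ * (r ^ i)⁻¹) * y * (g⁻¹ * (r ^ i)⁻¹)⁻¹
          = g⁻¹ * ((r ^ i)⁻¹ * y * ((r ^ i)⁻¹)⁻¹) * g := by group
        _ = g⁻¹ * (a * z) * g := by rw [hc]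
        _ = (g⁻¹ * a * g) * (g⁻¹ * z * g) := by group
        _ = x * (g⁻¹ * z * g) := by rw [← hxa]
    obtain ⟨k', hk'x, hk'y⟩ := conj_in_centralizer_of_isolated hx hxw _ hh hxy
    rw [isConj_iff]
    refine ⟨g * k', ?_⟩
    have h1 : k' * (x * y) * k'⁻¹ = g⁻¹ * z * g := by
      calc k' * (x * y) * k'⁻¹ = (k' * x) * y * k'⁻¹ := by group
        _ = (x * k') * y * k'⁻¹ := by rw [hk'x.eq]
        _ = x * (k' * y * k'⁻¹) := by group
        _ = x * (x * (g⁻¹ * z * g)) := by rw [hk'y]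
        _ = g⁻¹ * z * g := by rw [← mul_assoc, hx2, one_mul]
    calc g * k' * (x * y) * (g * k')⁻¹ = g * (k' * (x * y) * k'⁻¹) * g⁻¹ := by group
      _ = g * (g⁻¹ * z * g) * g⁻¹ := by rw [h1]
      _ = z := by group
  · -- `r = z * v`
    rw [← hz, ← pow_two, ← pow_mul, ← pow_add]
    have : k + 2 * (i + 1) = orderOf r + 1 := by omega
    rw [this, pow_succ, pow_orderOf_eq_one, one_mul]

/-- Step (G) in the form needed for the class-sum argument (S0943): every product of a conjugate of `x`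
with a conjugate of `y` is conjugate to some `z * v` with `z` an involution conjugate to `x * y` and
`v ∈ O(C(z))`. -/
theorem stepG' [Finite G] {x : G} (hx : Cfsg.IsIsolatedInvolution x)
    (hR1 : ∀ z : G, orderOf z = 2 → z ∉ Subgroup.center G)
    (IH : ∀ H : Subgroup G, H ≠ ⊤ → ∀ u : ↥H, Cfsg.IsIsolatedInvolution u →
      ∀ h : ↥H, u * h * u⁻¹ * h⁻¹ ∈ Cfsg.pPrimeCore 2 ↥H)
    {y : G} (hy : orderOf y = 2) (hxy : Commute x y) (hne : y ≠ x) (a b : G)
    (ha : IsConj x a) (hb : IsConj y b) :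
    ∃ z v : G, orderOf z = 2 ∧ IsConj (x * y) z ∧ v ∈ Cfsg.centralizerPPrimeCore 2 z ∧
      IsConj (a * b) (z * v) := by
  rw [isConj_iff] at ha hb
  obtain ⟨c, rfl⟩ := ha
  obtain ⟨d, rfl⟩ := hb
  obtain ⟨z, v, hz, hconj, hv, he⟩ := stepG hx hR1 IH hy hxy hne (d⁻¹ * c)
  refine ⟨z, v, hz, hconj, hv, ?_⟩
  rw [isConj_iff]
  refine ⟨d⁻¹, ?_⟩
  rw [← he]
  group

/-- Step (G), consequence for class functions: a class function `χ` which is constant on `u * O(C(u))`
for all involutions `u` (e.g. a character in the principal 2-block, by S0942) satisfies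
`χ (a * b) = χ (x * y)` for all conjugates `a` of `x` and `b` of `y`: the hypothesis of S0943. -/
theorem stepG_classFun [Finite G] {x : G} (hx : Cfsg.IsIsolatedInvolution x)
    (hR1 : ∀ z : G, orderOf z = 2 → z ∉ Subgroup.center G)
    (IH : ∀ H : Subgroup G, H ≠ ⊤ → ∀ u : ↥H, Cfsg.IsIsolatedInvolution u →
      ∀ h : ↥H, u * h * u⁻¹ * h⁻¹ ∈ Cfsg.pPrimeCore 2 ↥H)
    {y : G} (hy : orderOf y = 2) (hxy : Commute x y) (hne : y ≠ x)
    {R : Type*} (χ : G → R) (hcl : ∀ g h : G, χ (g * h * g⁻¹) = χ h)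
    (hχ : ∀ u v : G, orderOf u = 2 → v ∈ Cfsg.centralizerPPrimeCore 2 u → χ (u * v) = χ u)
    (a b : G) (ha : IsConj x a) (hb : IsConj y b) : χ (a * b) = χ (x * y) := by
  obtain ⟨z, v, hz, hconj, hv, he⟩ := stepG' hx hR1 IH hy hxy hne a b ha hb
  rw [isConj_iff] at hconj he
  obtain ⟨c, hc⟩ := hconj
  obtain ⟨d, hd⟩ := he
  rw [← hcl d (a * b), hd, hχ z v hz hv, ← hc, hcl]

/-- The induction hypothesis of `stepG` for a group `H` follows from the statement of the Z*-theorem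
(S0215) for `H`. -/
theorem ih_of_zstar {H : Type*} [Group H] [Finite H]
    (hZ : ∀ (P : Sylow 2 H) (u : H), orderOf u = 2 → u ∈ P →
      (∀ g : H, g * u * g⁻¹ ∈ P → g * u * g⁻¹ = u) →
      ∃ N : Subgroup H, N.Normal ∧ Odd (Nat.card N) ∧ ∀ g : H, (u * g * u⁻¹ * g⁻¹) ∈ N)
    (u : H) (hu : Cfsg.IsIsolatedInvolution u) :
    ∀ h : H, u * h * u⁻¹ * h⁻¹ ∈ Cfsg.pPrimeCore 2 H := by
  classical
  have : Fact (Nat.Prime 2) := ⟨Nat.prime_two⟩
  obtain ⟨P, hP⟩ := (IsPGroup.of_card (p := 2) (n := 1) (by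
    rw [Nat.card_zpowers, hu.1, pow_one] : Nat.card (Subgroup.zpowers u) = 2 ^ 1)).exists_le_sylow
  have huP : u ∈ P := hP (Subgroup.mem_zpowers u)
  obtain ⟨N, hN, hodd, hcomm⟩ := hZ P u hu.1 huP
    (fun g hg => Cfsg.Agent.Lib.Helper96.ZStarDep.isolated_unique_in_two_group hu
      (P : Subgroup H) P.isPGroup' huP g hg)
  intro g
  have hle : N ≤ Cfsg.pPrimeCore 2 H := by
    apply le_sSup
    exact ⟨hN, Nat.coprime_two_right.mpr hodd⟩
  exact hle (hcomm g)

/-- The hypothesis of the Z*-theorem (Sylow form) gives an isolated involution. -/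
theorem isolated_of_sylow [Finite G] (P : Sylow 2 G) (u : G) (hu : orderOf u = 2) (huP : u ∈ P)
    (hiso : ∀ g : G, g * u * g⁻¹ ∈ P → g * u * g⁻¹ = u) : Cfsg.IsIsolatedInvolution u := by
  classical
  have : Fact (Nat.Prime 2) := ⟨Nat.prime_two⟩
  refine ⟨hu, ?_⟩
  intro g hcomm
  -- `⟨u, u^g⟩` is a `2`-group
  have hu2 := invol_mul_self hu
  have hg2 : (g * u * g⁻¹) * (g * u * g⁻¹) = 1 := conj_mul_self hu2 g
  have hp1 : IsPGroup 2 (Subgroup.zpowers u) :=
    IsPGroup.of_card (n := 1) (by rw [Nat.card_zpowers, hu, pow_one])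
  have hp2 : IsPGroup 2 (Subgroup.zpowers (g * u * g⁻¹)) :=
    IsPGroup.of_card (n := 1) (by rw [Nat.card_zpowers, orderOf_conj', hu, pow_one])
  -- the join of two commuting cyclic 2-groups is a 2-group
  have hcomm' : ∀ s ∈ Subgroup.zpowers u, ∀ t ∈ Subgroup.zpowers (g * u * g⁻¹), s * t = t * s := by
    intro s hs t ht
    obtain ⟨m, rfl⟩ := Subgroup.mem_zpowers_iff.mp hs
    obtain ⟨n, rfl⟩ := Subgroup.mem_zpowers_iff.mp ht
    exact ((hcomm.zpow_zpow m n)).eq
  have hnorm : Subgroup.zpowers (g * u * g⁻¹) ≤ Subgroup.normalizer (Subgroup.zpowers u : Set G) := by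
    intro t ht
    rw [Subgroup.mem_normalizer_iff]
    intro s
    have key : ∀ s ∈ Subgroup.zpowers u, t * s * t⁻¹ = s := by
      intro s hs
      rw [← hcomm' s hs t ht, mul_assoc, mul_inv_cancel, mul_one]
    constructor
    · intro hs
      rw [key s hs]; exact hs
    · intro hs
      have := key _ hs
      have h2 : t⁻¹ * (t * s * t⁻¹) * t = s := by group
      rw [← h2]
      have h3 : t⁻¹ * (t * s * t⁻¹) * t = t⁻¹ * (t * s * t⁻¹) * t⁻¹⁻¹ := by rw [inv_inv]
      have key' : ∀ s ∈ Subgroup.zpowers u, t⁻¹ * s * t⁻¹⁻¹ = s := by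
        intro s hs
        rw [inv_inv]
        have := hcomm' s hs t ht
        calc t⁻¹ * s * t = t⁻¹ * (s * t) := by group
          _ = t⁻¹ * (t * s) := by rw [this]
          _ = s := by group
      rw [h3, key' _ hs]
      exact hs
  have hsup : IsPGroup 2 (Subgroup.zpowers u ⊔ Subgroup.zpowers (g * u * g⁻¹) : Subgroup G) :=
    IsPGroup.to_sup_of_normal_left' hp1 hp2 hnorm
  obtain ⟨Q, hQ⟩ := hsup.exists_le_sylow
  obtain ⟨c, hc⟩ := MulAction.exists_smul_eq G Q P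
  have h1 : u ∈ (Q : Subgroup G) := hQ (Subgroup.mem_sup_left (Subgroup.mem_zpowers u))
  have h2 : g * u * g⁻¹ ∈ (Q : Subgroup G) := hQ (Subgroup.mem_sup_right (Subgroup.mem_zpowers _))
  have hcQ : ∀ t ∈ (Q : Subgroup G), c * t * c⁻¹ ∈ (P : Subgroup G) := by
    intro t ht
    rw [← hc, Sylow.coe_subgroup_smul, Subgroup.mem_pointwise_smul_iff_inv_smul_mem]
    simpa [MulAut.smul_def, mul_assoc] using ht
  have e1 := hiso c (hcQ u h1)
  have e2 := hiso (c * g) (by
    have : (c * g) * u * (c * g)⁻¹ = c * (g * u * g⁻¹) * c⁻¹ := by group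
    rw [this]; exact hcQ _ h2)
  have e3 : c * (g * u * g⁻¹) * c⁻¹ = c * u * c⁻¹ := by
    rw [e1]
    calc c * (g * u * g⁻¹) * c⁻¹ = c * g * u * (c * g)⁻¹ := by group
      _ = u := e2
  have := congrArg (fun t => c⁻¹ * t * c) e3
  simpa [mul_assoc] using this

/-- Step (G) in the interface of helper55 (`zs_prod_conj`): `hIH H hH` is `ZSProp ↥H` unfolded. -/
theorem zs_prod_conj [Finite G]
    (hIH : ∀ H : Subgroup G, H ≠ ⊤ → ∀ z : ↥H, Cfsg.IsIsolatedInvolution z →
      ∀ h : ↥H, z * h * z⁻¹ * h⁻¹ ∈ Cfsg.pPrimeCore 2 ↥H)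
    (hcen : ∀ z : G, orderOf z = 2 → ∃ g, g * z ≠ z * g) {x y : G}
    (hx : Cfsg.IsIsolatedInvolution x) (hy : orderOf y = 2) (hxy : Commute x y) (hne : y ≠ x)
    (g : G) :
    ∃ z v : G, g * x * g⁻¹ * y = z * v ∧ IsConj (x * y) z ∧
      v ∈ Cfsg.centralizerPPrimeCore 2 z ∧ orderOf z = 2 := by
  have hR1 : ∀ z : G, orderOf z = 2 → z ∉ Subgroup.center G := by
    intro z hz hzc
    obtain ⟨g, hg⟩ := hcen z hz
    exact hg (Subgroup.mem_center_iff.mp hzc g)
  obtain ⟨z, v, hz, hconj, hv, he⟩ := stepG hx hR1 hIH hy hxy hne g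
  exact ⟨z, v, he, hconj, hv, hz⟩

/-- Step (G) in the interface of helper67 (`g_step`): `ih` is `ZStarBelow (Nat.card G)` unfolded. -/
theorem g_step [Finite G]
    (ih : ∀ (H : Type u) [Group H] [Finite H], Nat.card H < Nat.card G → ∀ x : H,
      Cfsg.IsIsolatedInvolution x → ∃ N : Subgroup H, N.Normal ∧ Odd (Nat.card N) ∧
        ∀ g : H, x * g * x⁻¹ * g⁻¹ ∈ N)
    (hZ : ∀ z ∈ Subgroup.center G, orderOf z ≠ 2) {x y : G}
    (hx : Cfsg.IsIsolatedInvolution x) (hy : orderOf y = 2) (hxy : Commute x y) (hne : y ≠ x)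
    (g : G) :
    ∃ z v : G, g * x * g⁻¹ * y = z * v ∧ orderOf z = 2 ∧ IsConj z (x * y) ∧
      v ∈ Cfsg.centralizerPPrimeCore 2 z := by
  have hR1 : ∀ z : G, orderOf z = 2 → z ∉ Subgroup.center G := fun z hz hzc => hZ z hzc hz
  have hIH : ∀ H : Subgroup G, H ≠ ⊤ → ∀ u : ↥H, Cfsg.IsIsolatedInvolution u →
      ∀ h : ↥H, u * h * u⁻¹ * h⁻¹ ∈ Cfsg.pPrimeCore 2 ↥H := by
    intro H hH u hu h
    have hlt : Nat.card H < Nat.card G := by
      refine lt_of_le_of_ne (Subgroup.card_le_card_group H) ?_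
      intro he
      exact hH ((Subgroup.card_eq_iff_eq_top H).mp he)
    obtain ⟨N, hN, hodd, hcomm⟩ := ih H hlt u hu
    have hle : N ≤ Cfsg.pPrimeCore 2 ↥H := by
      apply le_sSup
      exact ⟨hN, Nat.coprime_two_right.mpr hodd⟩
    exact hle (hcomm h)
  obtain ⟨z, v, hz, hconj, hv, he⟩ := stepG hx hR1 hIH hy hxy hne g
  exact ⟨z, v, he, hz, hconj.symm, hv⟩

end Cfsg.Agent.Lib.Helper96.ZStarG
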