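import Cfsg.Agent.Lib.Helper96.BG1310C
import Cfsg.Agent.Lib.Helper10.BG144
import Cfsg.Agent.Lib.Helper21.RelCompl
import Cfsg.Agent.Lib.Helper32.BG142Defs
import Cfsg.Agent.S1378
import Cfsg.Agent.S1428

set_option autoImplicit false
set_option linter.style.haveILetI false
set_option linter.unusedSectionVars false

/-!
# Piece IV of Bender–Glauberman Theorem 14.2 (helper96, for helper32's S1430)

`inf_normalizer_eq`: for a maximal subgroup `M` with `κ(M) ⊆ τ₁(M)`, `K ≠ 1` a Hall `κ(M)`-subgroup,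
`K* = C_{M_σ}(K)` and `X ≤ K` of prime order: `N_M(X) = N_M(K) = K K*`.
-/

namespace Cfsg.Agent.Lib.Helper32.BG142

open Subgroup Cfsg Cfsg.Agent.Lib.Helper33 Cfsg.Agent.Lib.Helper63 Cfsg.Agent.Lib.Helper63.BG13
open Cfsg.Agent.Lib.Helper23.BG1310 Cfsg.Agent.Lib.Helper96.BG1310C
open scoped commutatorElement

universe u

variable {G : Type u} [Group G] [Finite G]

/-- local version of helper56's `hall_kappa_cyclic`: a Hall `κ(M)`-subgroup is cyclic when
`κ(M) ⊆ τ₁(M)` -/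
theorem isCyclic_of_kappa_subset_tau1 {M K : Subgroup G} (hκ : kappa M ⊆ tau1 M)
    (hK : IsPiHallOf (kappa M) K M) : IsCyclic K := by
  classical
  obtain ⟨hKM, hKκ, -⟩ := hK
  have hinf : K ⊓ ⁅M, M⁆ = ⊥ := by
    rw [← Subgroup.card_eq_one]
    by_contra hne
    obtain ⟨p, hp, hpd⟩ := Nat.exists_prime_and_dvd hne
    have h1 : p ∣ Nat.card K := hpd.trans (Subgroup.card_dvd_of_le inf_le_left)
    have h2 : p ∣ Nat.card ↥⁅M, M⁆ := hpd.trans (Subgroup.card_dvd_of_le inf_le_right)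
    exact (hκ (hKκ p hp h1)).2.2.2.1 h2
  have hcomm : ∀ a ∈ K, ∀ b ∈ K, a * b = b * a := by
    intro a ha b hb
    have h1 : ⁅a, b⁆ ∈ K ⊓ ⁅M, M⁆ :=
      ⟨K.mul_mem (K.mul_mem (K.mul_mem ha hb) (K.inv_mem ha)) (K.inv_mem hb),
        Subgroup.commutator_mem_commutator (hKM ha) (hKM hb)⟩
    rw [hinf, Subgroup.mem_bot] at h1
    exact (commutatorElement_eq_one_iff_mul_comm.1 h1)
  letI : CommGroup ↥K :=
    { (inferInstance : Group ↥K) with
      mul_comm := fun a b => Subtype.ext (hcomm a.1 a.2 b.1 b.2) }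
  haveI : Group.IsNilpotent ↥K := CommGroup.isNilpotent
  haveI : IsZGroup ↥K := by
    refine ⟨fun p hp P => ?_⟩
    haveI : Fact p.Prime := ⟨hp⟩
    by_cases hpd : p ∣ Nat.card K
    · have hκ' := hKκ p hp hpd
      let f : ↥K →* ↥M := Subgroup.inclusion hKM
      have hf : Function.Injective f := Subgroup.inclusion_injective hKM
      have hPp : IsPGroup p ((P : Subgroup ↥K).map f) := P.2.map f
      obtain ⟨Q, hPQ⟩ := hPp.exists_le_sylow
      have hQc : IsCyclic Q := (hκ'.2.2.2 Q).1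
      have e1 : ↥(P : Subgroup ↥K) ≃* ↥((P : Subgroup ↥K).map f) :=
        (P : Subgroup ↥K).equivMapOfInjective f hf
      have hc2 : IsCyclic ↥(((P : Subgroup ↥K).map f).subgroupOf Q) := Subgroup.isCyclic _
      have e2 := (Subgroup.subgroupOfEquivOfLe hPQ)
      have hc3 : IsCyclic ↥((P : Subgroup ↥K).map f) :=
        isCyclic_of_surjective e2.toMonoidHom e2.surjective
      exact isCyclic_of_surjective e1.symm.toMonoidHom e1.symm.surjective
    · have h1 : Nat.card (P : Subgroup ↥K) = 1 := by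
        obtain ⟨n, hn⟩ := IsPGroup.iff_card.1 P.2
        rcases Nat.eq_zero_or_pos n with h0 | h0
        · rw [hn, h0, pow_zero]
        · exfalso
          apply hpd
          have : p ∣ Nat.card (P : Subgroup ↥K) := by rw [hn]; exact dvd_pow_self p h0.ne'
          exact this.trans (Subgroup.card_subgroup_dvd_card _)
      haveI : Subsingleton ↥(P : Subgroup ↥K) := (Nat.card_eq_one_iff_unique.1 h1).1
      exact isCyclic_of_subsingleton
  infer_instance

/-- elements of a cyclic subgroup commute -/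
theorem comm_of_isCyclic {K : Subgroup G} (hK : IsCyclic K) :
    ∀ a ∈ K, ∀ b ∈ K, a * b = b * a := by
  intro a ha b hb
  haveI := hK
  have hc : IsMulCommutative K := inferInstance
  have := hc.is_comm.comm ⟨a, ha⟩ ⟨b, hb⟩
  simpa using congrArg Subtype.val this

/-- for `p ∈ κ(M)`, a subgroup `X ≤ M` of order `p` has a nontrivial centralizer in `M_σ` -/
theorem inf_centralizer_ne_bot_of_kappa {M : Subgroup G}
    {p : ℕ} [hp : Fact p.Prime] (hpκ : p ∈ kappa M) {X : Subgroup G}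
    (hXM : X ≤ M) (hXc : Nat.card X = p) :
    sigmaCore M ⊓ centralizer (X : Set G) ≠ ⊥ := by
  have hpp := hp.out
  have hXp : IsPGroup p X := IsPGroup.of_card (n := 1) (by rw [hXc, pow_one])
  have hXp' : IsPGroup p (X.subgroupOf M) := hXp.comap_subtype
  obtain ⟨P, hP⟩ := hXp'.exists_le_sylow
  obtain ⟨hPcyc, x₀, hx₀P, hx₀1, y, hyW, hy1, hcomm⟩ := hpκ.2.2.2 P
  obtain ⟨hP1, hP2, hP3⟩ := Cfsg.Agent.Lib.Helper24.sylow_map_facts M P
  set P' := (P : Subgroup M).map M.subtype with hP'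
  have hXP' : X ≤ P' := by
    intro z hz
    exact ⟨⟨z, hXM hz⟩, hP (Subgroup.mem_subgroupOf.mpr hz), rfl⟩
  have hP'cyc : IsCyclic ↥P' := by
    have e1 : ↥(P : Subgroup ↥M) ≃* ↥P' :=
      (P : Subgroup ↥M).equivMapOfInjective M.subtype M.subtype_injective
    haveI := hPcyc
    exact isCyclic_of_surjective e1.toMonoidHom e1.surjective
  have hx₀P' : (x₀ : G) ∈ P' := ⟨x₀, hx₀P, rfl⟩
  have hx₀1' : (x₀ : G) ≠ 1 := fun h => hx₀1 (Subtype.ext h)
  -- a subgroup of order `p` inside `⟨x₀⟩`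
  have hZp : IsPGroup p (zpowers (x₀ : G)) := hP2.to_le (zpowers_le.mpr hx₀P')
  have hdvd : p ∣ Nat.card (zpowers (x₀ : G)) := by
    obtain ⟨k, hk⟩ := IsPGroup.iff_card.mp hZp
    rcases Nat.eq_zero_or_pos k with h0 | hpos
    · exfalso
      rw [h0, pow_zero] at hk
      have := Subgroup.card_eq_one.mp hk
      exact hx₀1' (zpowers_eq_bot.mp this)
    · rw [hk]; exact dvd_pow_self p hpos.ne'
  obtain ⟨w, hw⟩ := exists_prime_orderOf_dvd_card' (G := ↥(zpowers (x₀ : G))) p hdvd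
  set X₀ := zpowers (w : G) with hX₀
  have hX₀c : Nat.card X₀ = p := by rw [hX₀, Nat.card_zpowers, Subgroup.orderOf_coe, hw]
  have hX₀le : X₀ ≤ zpowers (x₀ : G) := zpowers_le.mpr w.2
  have heq : X = X₀ :=
    eq_of_card_prime_of_le_isCyclic hP'cyc hXc hX₀c hXP' (hX₀le.trans (zpowers_le.mpr hx₀P'))
  intro hbot
  have hy : y ∈ sigmaCore M ⊓ centralizer (X : Set G) := by
    refine ⟨hyW, ?_⟩
    show y ∈ centralizer (X : Set G)
    rw [mem_centralizer_iff]
    intro z hz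
    rw [heq] at hz
    obtain ⟨k, rfl⟩ := mem_zpowers_iff.mp (hX₀le hz)
    exact ((Commute.zpow_left (show Commute (x₀ : G) y from hcomm) k)).eq
  rw [hbot, mem_bot] at hy
  exact hy1 hy

/-- a prime `r ∉ σ(M)` of rank one in `M`, with a subgroup of order `r` of `M` centralizing a
nontrivial subgroup of `M_σ`, lies in `κ(M)` -/
theorem mem_kappa_of_rank_one (hG : IsMinSimpleOddOrder G) {M : Subgroup G}
    {r : ℕ} [hr : Fact r.Prime] (hrσ : r ∉ sigma M) (hr1 : PRankLE r 1 ↥M) {R : Subgroup G}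
    (hRM : R ≤ M) (hRc : Nat.card R = r)
    (hne : sigmaCore M ⊓ centralizer (R : Set G) ≠ ⊥) : r ∈ kappa M := by
  have hrp := hr.out
  have hRp : IsPGroup r R := IsPGroup.of_card (n := 1) (by rw [hRc, pow_one])
  have hrM : r ∣ Nat.card M := by rw [← hRc]; exact Subgroup.card_dvd_of_le hRM
  have hrG : r ∣ Nat.card G := hrM.trans (Subgroup.card_subgroup_dvd_card M)
  have hr2 : r ≠ 2 := ne_two_of_dvd_card hG hrG
  refine ⟨hrp, hrM, hrσ, fun P => ?_⟩
  obtain ⟨hP1, hP2, hP3⟩ := Cfsg.Agent.Lib.Helper24.sylow_map_facts M P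
  set P' := (P : Subgroup M).map M.subtype with hP'
  have hP'cyc : IsCyclic ↥P' := isCyclic_of_le_of_pRankLE_one hr2 hP2 hP1 hr1
  have e1 : ↥(P : Subgroup ↥M) ≃* ↥P' :=
    (P : Subgroup ↥M).equivMapOfInjective M.subtype M.subtype_injective
  refine ⟨isCyclic_of_surjective e1.symm.toMonoidHom e1.symm.surjective, ?_⟩
  obtain ⟨m, hm, hmR⟩ := sylow_sub hP1 hP2 hP3 hRM hRp
  -- a generator of `R`
  have hR1 : R ≠ ⊥ := by
    intro h; rw [h, Subgroup.card_bot] at hRc; exact hrp.one_lt.ne hRc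
  obtain ⟨z, hz1⟩ := (Subgroup.ne_bot_iff_exists_ne_one).mp hR1
  have hz1' : (z : G) ≠ 1 := fun h => hz1 (Subtype.ext h)
  obtain ⟨y₀, hy₀1⟩ := (Subgroup.ne_bot_iff_exists_ne_one).mp hne
  have hy₀1' : (y₀ : G) ≠ 1 := fun h => hy₀1 (Subtype.ext h)
  have hy₀W : (y₀ : G) ∈ sigmaCore M := y₀.2.1
  have hy₀C : (y₀ : G) ∈ centralizer (R : Set G) := y₀.2.2
  have hzy : (z : G) * y₀ = y₀ * z := (mem_centralizer_iff.mp hy₀C z z.2)
  have hxP' : m * (z : G) * m⁻¹ ∈ P' := hmR (conj_mem_cj z.2)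
  obtain ⟨x, hxP, hxe⟩ := hxP'
  refine ⟨x, hxP, ?_, m * (y₀ : G) * m⁻¹, ?_, ?_, ?_⟩
  · intro hx1
    apply hz1'
    have : m * (z : G) * m⁻¹ = 1 := by rw [← hxe, hx1]; rfl
    have h2 : (z : G) = m⁻¹ * (m * (z : G) * m⁻¹) * m := by group
    rw [h2, this]; group
  · have hn := Cfsg.Agent.Lib.Helper24.BG.le_normalizer_sigmaCore M hm
    exact (mem_normalizer_iff.mp hn _).mp hy₀W
  · intro h
    apply hy₀1'
    have h2 : (y₀ : G) = m⁻¹ * (m * (y₀ : G) * m⁻¹) * m := by group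
    rw [h2, h]; group
  · have : (x : G) = m * (z : G) * m⁻¹ := hxe
    rw [this]
    calc m * (z : G) * m⁻¹ * (m * (y₀ : G) * m⁻¹) = m * ((z : G) * y₀) * m⁻¹ := by group
      _ = m * ((y₀ : G) * z) * m⁻¹ := by rw [hzy]
      _ = m * (y₀ : G) * m⁻¹ * (m * (z : G) * m⁻¹) := by group

/-- a subgroup whose centralizer lies in a unique maximal subgroup `M` has its normalizer in `M` -/
theorem normalizer_le_of_centralizer_unique (hG : IsMinSimpleOddOrder G) {M R : Subgroup G}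
    (hR1 : R ≠ ⊥) (hRtop : R ≠ ⊤)
    (huniq : ∀ L : Subgroup G, IsCoatom L → centralizer (R : Set G) ≤ L → L = M) :
    normalizer (R : Set G) ≤ M := by
  obtain ⟨L, hL, hNL⟩ := Cfsg.Agent.Lib.Helper64.BG9.exists_coatom_ge
    (BG10.normalizer_ne_top hG hR1 hRtop)
  have := huniq L hL ((Subgroup.centralizer_le_normalizer (R : Set G)).trans hNL)
  rw [← this]; exact hNL

/-- the `τ₂`-case of piece IV is impossible -/
theorem false_of_tau2 (hG : IsMinSimpleOddOrder G) (hLE : StmtE G) {M E : Subgroup G}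
    (hM : IsCoatom M) (hE : IsComplIn E (sigmaCore M) M) {p : ℕ} [hp : Fact p.Prime]
    (hpτ : p ∈ tau1 M) {X : Subgroup G} (hXE : X ≤ E) (hXc : Nat.card X = p)
    (hne : sigmaCore M ⊓ centralizer (X : Set G) ≠ ⊥)
    {r : ℕ} [hr : Fact r.Prime] (hrτ : r ∈ tau2 M) {R : Subgroup G} (hRE : R ≤ E)
    (hRc : Nat.card R = r) (hRX : R ≤ centralizer (X : Set G))
    (hle : sigmaCore M ⊓ centralizer (X : Set G) ≤ centralizer (R : Set G)) : False := by
  have hpp := hp.out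
  have hrp := hr.out
  have hEM : E ≤ M := hE.1
  have hXM : X ≤ M := hXE.trans hEM
  have hRM : R ≤ M := hRE.trans hEM
  have hMtop : M ≠ ⊤ := hM.1
  have hHallM := hallStmt hG M hM
  have hXp : IsPGroup p X := IsPGroup.of_card (n := 1) (by rw [hXc, pow_one])
  have hRp : IsPGroup r R := IsPGroup.of_card (n := 1) (by rw [hRc, pow_one])
  have hX1 : X ≠ ⊥ := by
    intro h; rw [h, Subgroup.card_bot] at hXc; exact hpp.one_lt.ne hXc
  have hR1 : R ≠ ⊥ := by
    intro h; rw [h, Subgroup.card_bot] at hRc; exact hrp.one_lt.ne hRc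
  have hXtop : X ≠ ⊤ := fun h => hMtop (top_le_iff.mp (h ▸ hXM))
  have hRtop : R ≠ ⊤ := fun h => hMtop (top_le_iff.mp (h ▸ hRM))
  have hrσ : r ∉ sigma M := hrτ.2.1
  obtain ⟨A, hAE, hAe, hAc⟩ := Cfsg.Agent.Lib.Helper96.BG127.exists_elemAb_sq_le_compl hE hrτ
  have h18 := Cfsg.Agent.S1418.result hG M hM E hE r hrτ A ⟨hAE, hAe, hAc⟩
  have hRA : R ≤ A := h18.1.2 R hRE hRc
  have hneR : sigmaCore M ⊓ centralizer (R : Set G) ≠ ⊥ := by
    intro h
    apply hne
    have : sigmaCore M ⊓ centralizer (X : Set G) ≤ sigmaCore M ⊓ centralizer (R : Set G) :=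
      le_inf inf_le_left hle
    rw [h] at this
    exact le_bot_iff.mp this
  obtain ⟨hCR, huniq⟩ := h18.2.2 R hRA hRc hneR
  have hNR : normalizer (R : Set G) ≤ M := normalizer_le_of_centralizer_unique hG hR1 hRtop huniq
  -- the partner `H`
  obtain ⟨H, hH, hNH⟩ := Cfsg.Agent.Lib.Helper64.BG9.exists_coatom_ge
    (BG10.normalizer_ne_top hG hX1 hXtop)
  have hHallH := hallStmt hG H hH
  have hHtop : H ≠ ⊤ := hH.1
  have hpH : p ∈ sigma H := hLE M H hM hH p (Or.inl hpτ) X hXc hXM hne hNH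
  have hHM : H ≠ M := by
    intro h; rw [h] at hpH; exact hpτ.2.1 hpH
  have hCXH : centralizer (X : Set G) ≤ H := (Subgroup.centralizer_le_normalizer (X : Set G)).trans hNH
  have hXH : X ≤ H := le_normalizer.trans hNH
  have hRH : R ≤ H := hRX.trans hCXH
  have hXσ : X ≤ sigmaCore H :=
    Cfsg.Agent.Lib.Helper76.BGSigU.le_sigmaCore_of_isPGroup hHallH hpH hXp hXH
  have hneH : sigmaCore H ⊓ centralizer (R : Set G) ≠ ⊥ := by
    intro h
    have : X ≤ sigmaCore H ⊓ centralizer (R : Set G) := le_inf hXσ (le_centralizer_symm hRX)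
    rw [h] at this
    exact hX1 (le_bot_iff.mp this)
  -- (E1) `r ∉ σ(H)`
  have hrH : r ∉ sigma H := by
    intro hrH
    have hA1 : A ≠ ⊥ := by
      intro h; rw [h, Subgroup.card_bot] at hAc
      have : 1 < r ^ 2 := Nat.one_lt_pow (by norm_num) hrp.one_lt
      omega
    have hAM : A ≤ M := hAE.trans hEM
    have hAtop : A ≠ ⊤ := fun h => hMtop (top_le_iff.mp (h ▸ hAM))
    obtain ⟨L, hL, hNL⟩ := Cfsg.Agent.Lib.Helper64.BG9.exists_coatom_ge
      (BG10.normalizer_ne_top hG hA1 hAtop)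
    have hrL : r ∈ sigma L :=
      Cfsg.Agent.Lib.Helper10.BG14.mem_sigma_of_normalizer_le hG
        (fun M hM E hE p _ hp A hA => Cfsg.Agent.S1418.result hG M hM E hE p hp A hA)
        hL hAe hAc hNL
    obtain ⟨g, hg⟩ := (Cfsg.Agent.S1378.result hG).2 H L hH hL ⟨r, hrH, hrL⟩
    have hAL : A ≤ L := le_normalizer.trans hNL
    have hRL : R ≤ L := hRA.trans hAL
    have hcjR : R.map (MulAut.conj g⁻¹).toMonoidHom ≤ H := by
      have h1 : R ≤ cj g H := by
        have : L = cj g H := hg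
        rw [← this]; exact hRL
      have := cj_mono (g := g⁻¹) h1
      rwa [cj_inv_cj] at this
    obtain ⟨h, hh, c, hc, hghc⟩ :=
      (Cfsg.Agent.S1404.result hG H hH r hrH R hRp hR1 hRH).1 g⁻¹ hcjR
    have hg' : g = c⁻¹ * h⁻¹ := by
      have := congrArg (·⁻¹) hghc
      simpa [mul_inv_rev] using this
    have hLc : L = cj c⁻¹ H := by
      rw [hg, hg']
      show cj (c⁻¹ * h⁻¹) H = cj c⁻¹ H
      rw [cj_mul, cj_eq_self_of_mem (H.inv_mem hh)]
    have hcM : c ∈ M := hCR hc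
    -- `A' = c A c⁻¹ ≤ M ∩ H`
    have hA'H : cj c A ≤ H := by
      have := cj_mono (g := c) hAL
      rwa [hLc, cj_cj_inv] at this
    have hA'M : cj c A ≤ M := by
      have := cj_mono (g := c) hAM
      rwa [cj_eq_self_of_mem hcM] at this
    have hA'e : IsElementaryAbelian r (cj c A) := Cfsg.Agent.Lib.Helper47.BG117.elemAb_cj hAe c
    have hA'c : Nat.card (cj c A) = r ^ 2 := by rw [card_cj, hAc]
    have h17 := Cfsg.Agent.S1417.result hG M hM r hrτ (cj c A) ⟨hA'M, hA'e, hA'c⟩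
    have hbot := h17.2.2.2.2.1 H hH hHM hA'H
    apply hne
    have : sigmaCore M ⊓ centralizer (X : Set G) ≤ sigmaCore M ⊓ H :=
      le_inf inf_le_left (inf_le_right.trans hCXH)
    rw [hbot] at this
    exact le_bot_iff.mp this
  have hrHσ : ¬ r ∣ Nat.card (sigmaCore H) := fun h =>
    hrH (Cfsg.Agent.Lib.Helper60.BG139.mem_sigma_of_dvd_card_sigmaCore hG hH hrp h)
  -- (E2) `H` has `r`-rank one
  have hr2 : PRankLE r 2 ↥H := by
    by_contra h
    have h5 := Cfsg.Agent.S1405.result hG H hH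
    exact hrH (Cfsg.Agent.Lib.Helper76.BGSigU.alpha_subset_sigma hHallH h5.1 h5.2.2.1 ⟨hrp, h⟩)
  have hr1 : PRankLE r 1 ↥H := by
    by_contra hr1
    have hτ2 : r ∈ tau2 H := ⟨hrp, hrH, hr2, hr1⟩
    have hcop : (Nat.card R).Coprime (Nat.card (sigmaCore H)) := by
      rw [hRc]; exact (Nat.Prime.coprime_iff_not_dvd hrp).mpr hrHσ
    obtain ⟨EH, hEH, hREH⟩ := exists_compl_ge hG hHtop hHallH hRH hcop
    obtain ⟨AH, hAHE, hAHe, hAHc⟩ :=
      Cfsg.Agent.Lib.Helper96.BG127.exists_elemAb_sq_le_compl hEH hτ2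
    have h18H := Cfsg.Agent.S1418.result hG H hH EH hEH r hτ2 AH ⟨hAHE, hAHe, hAHc⟩
    have hRAH : R ≤ AH := h18H.1.2 R hREH hRc
    have hCRH : centralizer (R : Set G) ≤ H := (h18H.2.2 R hRAH hRc hneH).1
    exact hHM (huniq H hH hCRH)
  -- (E3) `r ∈ τ₁(H) ∪ τ₃(H)`, so `r ∈ σ(M)`
  have hrH' : r ∣ Nat.card H := by
    rw [← hRc]; exact Subgroup.card_dvd_of_le hRH
  have hτ13 : r ∈ tau1 H ∪ tau3 H := by
    by_cases hd : r ∣ Nat.card ↥⁅H, H⁆
    · exact Or.inr ⟨hrp, hrH, hd, hr1⟩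
    · exact Or.inl ⟨hrp, hrH, hrH', hd, hr1⟩
  exact hrσ (hLE H M hH hM r hτ13 R hRc hRH hneH hNR)

/-- **Piece IV of BG 14.2.** -/
theorem inf_normalizer_eq (hG : IsMinSimpleOddOrder G) (hLE : StmtE G) {M K : Subgroup G}
    (hM : IsCoatom M) (hK : IsPiHallOf (kappa M) K M) (hκ : kappa M ⊆ tau1 M)
    (hSP : ∀ k ∈ K, k ≠ 1 → sigmaCore M ⊓ centralizer ({k} : Set G) =
      sigmaCore M ⊓ centralizer (K : Set G))
    {X : Subgroup G} (hXK : X ≤ K) (hX : (Nat.card X).Prime) :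
    M ⊓ normalizer (X : Set G) = K ⊔ (sigmaCore M ⊓ centralizer (K : Set G)) ∧
      M ⊓ normalizer (K : Set G) = K ⊔ (sigmaCore M ⊓ centralizer (K : Set G)) := by
  classical
  obtain ⟨p, hpdef⟩ : ∃ p, Nat.card X = p := ⟨_, rfl⟩
  have hpp : p.Prime := hpdef ▸ hX
  haveI hpf : Fact p.Prime := ⟨hpp⟩
  have hKM : K ≤ M := hK.1
  have hXM : X ≤ M := hXK.trans hKM
  have hMtop : M ≠ ⊤ := hM.1
  have hHallM := hallStmt hG M hM
  have hWM : sigmaCore M ≤ M := hHallM.1
  have hpK : p ∣ Nat.card K := hpdef ▸ Subgroup.card_dvd_of_le hXK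
  have hpκ : p ∈ kappa M := hK.2.1 p hpp hpK
  have hpτ : p ∈ tau1 M := hκ hpκ
  have hKcyc : IsCyclic K := isCyclic_of_kappa_subset_tau1 hκ hK
  have hKcomm := comm_of_isCyclic hKcyc
  have hXp : IsPGroup p X := IsPGroup.of_card (n := 1) (by rw [hpdef, pow_one])
  have hX1 : X ≠ ⊥ := by
    intro h; rw [h, Subgroup.card_bot] at hpdef; exact hpp.one_lt.ne hpdef
  -- `C_W(X) = K*`
  have hCWX : sigmaCore M ⊓ centralizer (X : Set G) = sigmaCore M ⊓ centralizer (K : Set G) := by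
    obtain ⟨x, hx1⟩ := (Subgroup.ne_bot_iff_exists_ne_one).mp hX1
    have hx1' : (x : G) ≠ 1 := fun h => hx1 (Subtype.ext h)
    have hzx : zpowers (x : G) = X :=
      Cfsg.Agent.Lib.Helper47.BG11.zpowers_eq_of_card_prime hpdef x.2 hx1'
    rw [← hzx, Cfsg.Agent.Lib.Helper60.BG139.centralizer_zpowers_eq]
    exact hSP x (hXK x.2) hx1'
  have hne : sigmaCore M ⊓ centralizer (X : Set G) ≠ ⊥ :=
    inf_centralizer_ne_bot_of_kappa hpκ hXM hpdef
  -- easy inclusions
  have hK_CX : K ≤ centralizer (X : Set G) := by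
    intro k hk
    rw [mem_centralizer_iff]
    intro x hx
    exact hKcomm x (hXK hx) k hk
  have hKst_CX : sigmaCore M ⊓ centralizer (K : Set G) ≤ centralizer (X : Set G) :=
    inf_le_right.trans (centralizer_le hXK)
  have hsup_le : K ⊔ (sigmaCore M ⊓ centralizer (K : Set G)) ≤ M ⊓ centralizer (X : Set G) :=
    sup_le (le_inf hKM hK_CX) (le_inf (inf_le_left.trans hWM) hKst_CX)
  -- `N_M(X) = C_M(X)`
  have hXM' : X ⊓ ⁅M, M⁆ = ⊥ := by
    rw [← Subgroup.card_eq_one]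
    have h1 : Nat.card ↥(X ⊓ ⁅M, M⁆) ∣ p := hpdef ▸ Subgroup.card_dvd_of_le inf_le_left
    rcases (Nat.dvd_prime hpp).mp h1 with h | h
    · exact h
    · exfalso
      apply hpτ.2.2.2.1
      rw [← h]
      exact Subgroup.card_dvd_of_le inf_le_right
  have hNC : M ⊓ normalizer (X : Set G) ≤ M ⊓ centralizer (X : Set G) := by
    intro g hg
    refine ⟨hg.1, ?_⟩
    show g ∈ centralizer (X : Set G)
    rw [mem_centralizer_iff]
    intro x hx
    have h1 : g * x * g⁻¹ ∈ X := (mem_normalizer_iff.mp hg.2 x).mp hx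
    have h2 : ⁅g, x⁆ ∈ X ⊓ ⁅M, M⁆ :=
      ⟨X.mul_mem h1 (X.inv_mem hx), Subgroup.commutator_mem_commutator hg.1 (hXM hx)⟩
    rw [hXM', Subgroup.mem_bot] at h2
    exact (commutatorElement_eq_one_iff_mul_comm.1 h2).symm
  -- the complement `F` of `K*` in `D = C_M(X)` over `K`
  set D := M ⊓ centralizer (X : Set G) with hD
  set N := sigmaCore M ⊓ centralizer (X : Set G) with hN
  have hND : N ≤ D := le_inf (inf_le_left.trans hWM) inf_le_right
  have hDN : D ≤ normalizer (N : Set G) := by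
    intro d hd
    have hdW := Cfsg.Agent.Lib.Helper24.BG.le_normalizer_sigmaCore M hd.1
    have hdC : d ∈ normalizer ((centralizer (X : Set G) : Subgroup G) : Set G) :=
      le_normalizer hd.2
    rw [mem_normalizer_iff] at hdW hdC ⊢
    intro h
    rw [hN, Subgroup.mem_inf, Subgroup.mem_inf, ← hdW h, ← hdC h]
  have hcopN : (Nat.card N).Coprime (N.relIndex D) := by
    apply Nat.coprime_of_dvd
    intro l hl hlN hlr
    haveI : Fact l.Prime := ⟨hl⟩
    have hlσ : l ∈ sigma M := hHallM.2.1 l hl (hlN.trans (Subgroup.card_dvd_of_le inf_le_left))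
    obtain ⟨L₀⟩ : Nonempty (Sylow l ↥D) := inferInstance
    have hle : (L₀ : Subgroup ↥D) ≤ N.subgroupOf D := by
      intro d hd
      rw [Subgroup.mem_subgroupOf]
      have hL₀p : IsPGroup l ((L₀ : Subgroup ↥D).map D.subtype) := L₀.2.map _
      have hL₀M : (L₀ : Subgroup ↥D).map D.subtype ≤ M :=
        (map_subtype_le _).trans inf_le_left
      have h1 := Cfsg.Agent.Lib.Helper76.BGSigU.le_sigmaCore_of_isPGroup hHallM hlσ hL₀p hL₀M
      exact ⟨h1 ⟨d, hd, rfl⟩, d.2.2⟩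
    have h2 : (N.subgroupOf D).index ∣ (L₀ : Subgroup ↥D).index := Subgroup.index_dvd_of_le hle
    exact L₀.not_dvd_index (hlr.trans h2)
  have hKD : K ≤ D := le_inf hKM hK_CX
  have hcopK : (Nat.card K).Coprime (Nat.card N) := by
    apply Nat.coprime_of_dvd
    intro l hl hlK hlN
    have h1 : l ∈ kappa M := hK.2.1 l hl hlK
    have h2 : l ∈ sigma M := hHallM.2.1 l hl (hlN.trans (Subgroup.card_dvd_of_le inf_le_left))
    exact h1.2.2.1 h2
  haveI hKsolv : Group.IsSolvable ↥K :=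
    Group.isSolvable_of_comm (fun a b => Subtype.ext (hKcomm a.1 a.2 b.1 b.2))
  obtain ⟨F, hF, hKF⟩ := Cfsg.Agent.Lib.Helper21.exists_compl_ge_of_coprime hND hDN hcopN
    (Or.inr hKsolv) hKD hcopK
  obtain ⟨hFD, -, hFN, hFprod⟩ := hF
  have hFM : F ≤ M := hFD.trans inf_le_left
  have hFCX : F ≤ centralizer (X : Set G) := hFD.trans inf_le_right
  -- `F` is a `σ(M)'`-group
  have hFσ : ∀ r : ℕ, r.Prime → r ∣ Nat.card F → r ∉ sigma M := by
    intro r hr hrF hrσ
    haveI : Fact r.Prime := ⟨hr⟩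
    obtain ⟨z, hz⟩ := exists_prime_orderOf_dvd_card' (G := ↥F) r hrF
    set R₀ := zpowers (z : G) with hR₀
    have hR₀c : Nat.card R₀ = r := by rw [hR₀, Nat.card_zpowers, Subgroup.orderOf_coe, hz]
    have hR₀F : R₀ ≤ F := zpowers_le.mpr z.2
    have hR₀p : IsPGroup r R₀ := IsPGroup.of_card (n := 1) (by rw [hR₀c, pow_one])
    have h1 := Cfsg.Agent.Lib.Helper76.BGSigU.le_sigmaCore_of_isPGroup hHallM hrσ hR₀p
      (hR₀F.trans hFM)
    have h2 : R₀ ≤ F ⊓ N := le_inf hR₀F (le_inf h1 (hR₀F.trans hFCX))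
    rw [hFN] at h2
    have h3 : R₀ = ⊥ := le_bot_iff.mp h2
    rw [h3, Subgroup.card_bot] at hR₀c
    exact hr.one_lt.ne hR₀c
  have hcopF : (Nat.card F).Coprime (Nat.card (sigmaCore M)) := by
    apply Nat.coprime_of_dvd
    intro l hl hlF hlW
    exact hFσ l hl hlF (hHallM.2.1 l hl hlW)
  obtain ⟨E, hE, hFE⟩ := exists_compl_ge hG hMtop hHallM hFM hcopF
  have hXE : X ≤ E := (hXK.trans hKF).trans hFE
  -- every prime of `|F|` lies in `κ(M)`
  have hFκ : ∀ r : ℕ, r.Prime → r ∣ Nat.card F → r ∈ kappa M := by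
    intro r hr hrF
    haveI : Fact r.Prime := ⟨hr⟩
    have hrσ := hFσ r hr hrF
    obtain ⟨z, hz⟩ := exists_prime_orderOf_dvd_card' (G := ↥F) r hrF
    set R := zpowers (z : G) with hR
    have hRc : Nat.card R = r := by rw [hR, Nat.card_zpowers, Subgroup.orderOf_coe, hz]
    have hRF : R ≤ F := zpowers_le.mpr z.2
    have hRE : R ≤ E := hRF.trans hFE
    have hRX : R ≤ centralizer (X : Set G) := hRF.trans hFCX
    have h28 := Cfsg.Agent.S1428.result hG M hM E hE p hpτ X hXE hpdef R (le_inf hRE hRX)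
      (hRc ▸ hr)
    have hle : sigmaCore M ⊓ centralizer (X : Set G) ≤ centralizer (R : Set G) :=
      h28.trans inf_le_right
    by_cases hr1 : PRankLE r 1 ↥M
    · apply mem_kappa_of_rank_one hG hrσ hr1 (hRF.trans hFM) hRc
      intro h
      apply hne
      have : sigmaCore M ⊓ centralizer (X : Set G) ≤ sigmaCore M ⊓ centralizer (R : Set G) := h28
      rw [h] at this
      exact le_bot_iff.mp this
    · exfalso
      have hr2 : PRankLE r 2 ↥M := by
        by_contra h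
        have h5 := Cfsg.Agent.S1405.result hG M hM
        exact hrσ (Cfsg.Agent.Lib.Helper76.BGSigU.alpha_subset_sigma hHallM h5.1 h5.2.2.1 ⟨hr, h⟩)
      exact false_of_tau2 hG hLE hM hE hpτ hXE hpdef hne ⟨hr, hrσ, hr2, hr1⟩ hRE hRc hRX hle
  -- `F = K`
  have hFK : F ≤ K := by
    rw [← Subgroup.relIndex_eq_one]
    by_contra hne1
    obtain ⟨r, hr, hrd⟩ := Nat.exists_prime_and_dvd hne1
    have h1 : r ∣ Nat.card F := hrd.trans (Subgroup.relIndex_dvd_card K F)
    have h2 : K.relIndex F ∣ K.relIndex M := by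
      rw [← Subgroup.relIndex_mul_relIndex K F M hKF hFM]
      exact dvd_mul_right _ _
    exact hK.2.2 r hr (hFκ r hr h1) (hrd.trans h2)
  -- `D = K K*`
  have hD_le : D ≤ K ⊔ (sigmaCore M ⊓ centralizer (K : Set G)) := by
    intro m hm
    obtain ⟨a, ha, b, hb, rfl⟩ := hFprod m hm
    exact Subgroup.mul_mem _ (Subgroup.mem_sup_left (hFK ha))
      (Subgroup.mem_sup_right (hCWX ▸ hb))
  have h1 : M ⊓ normalizer (X : Set G) = K ⊔ (sigmaCore M ⊓ centralizer (K : Set G)) :=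
    le_antisymm (hNC.trans hD_le)
      (hsup_le.trans (inf_le_inf_left M (Subgroup.centralizer_le_normalizer (X : Set G))))
  refine ⟨h1, le_antisymm ?_ ?_⟩
  · intro g hg
    rw [← h1]
    refine ⟨hg.1, ?_⟩
    show g ∈ normalizer (X : Set G)
    rw [← cj_eq_self_iff]
    have hgK : cj g K = K := cj_eq_self_iff.mpr hg.2
    have h2 : cj g X ≤ K := hgK ▸ cj_mono hXK
    exact eq_of_card_prime_of_le_isCyclic hKcyc (by rw [card_cj, hpdef]) hpdef h2 hXK
  · apply sup_le (le_inf hKM le_normalizer)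
    exact le_inf (inf_le_left.trans hWM)
      (inf_le_right.trans (Subgroup.centralizer_le_normalizer (K : Set G)))

end Cfsg.Agent.Lib.Helper32.BG142
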