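import Cfsg.Agent.S1350
import Cfsg.Agent.S1378
import Cfsg.Agent.S1352
import Cfsg.Agent.S1353
import Cfsg.Agent.S1420
import Cfsg.Agent.S1429
import Cfsg.Agent.S1430
import Cfsg.Agent.Lib.Helper19.BG1311
import Cfsg.Agent.Lib.Helper19.BG142L2
import Cfsg.Agent.Lib.Helper21.HallSub
import Cfsg.Agent.Lib.Helper23.BG1310F
import Cfsg.Agent.Lib.Helper32.BG142Main
import Cfsg.Agent.Lib.Helper47.BG147P
import Cfsg.Agent.Lib.Helper55.InvolSylow
import Cfsg.Agent.Lib.Helper64.BG135W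
import Cfsg.Agent.Lib.Helper70.BG14Final
import Cfsg.Agent.Lib.Helper96.BG142IV
import Cfsg.Agent.Lib.Helper96.BG142Pin

set_option autoImplicit false
set_option linter.style.haveILetI false
set_option linter.unusedSectionVars false
set_option linter.unusedVariables false

/-!
# Case N kill, pieces N3 and N4: a partner `L` of a Case N group `M` is of type `P₁` with its
Hall `κ(L)`-subgroup inside `Z = E ⊔ C_{M_σ}(E)`; two different partners meet inside `Z`.
-/

namespace Cfsg.Agent.Lib.Helper96.BG141N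

open Subgroup Cfsg

universe u

variable {G : Type u} [Group G] [Finite G]

/-- conjugation by `1` is the identity on subgroups -/
theorem map_conj_one (M : Subgroup G) : M.map (MulAut.conj (1 : G)).toMonoidHom = M := by
  ext x
  simp [Subgroup.mem_map]

/-- non-conjugate maximal subgroups have disjoint `σ`'s -/
theorem sigma_disj (hG : IsMinSimpleOddOrder G) {M L : Subgroup G} (hM : IsCoatom M)
    (hL : IsCoatom L) (hnc : ∀ g : G, L ≠ M.map (MulAut.conj g).toMonoidHom) {p : ℕ}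
    (hpM : p ∈ sigma M) (hpL : p ∈ sigma L) : False := by
  obtain ⟨g, hg⟩ := (Cfsg.Agent.S1378.result hG).2 M L hM hL ⟨p, hpM, hpL⟩
  exact hnc g hg

/-- `σ`-cores of non-conjugate maximal subgroups meet trivially -/
theorem sigmaCore_inf_eq_bot (hG : IsMinSimpleOddOrder G) {M L : Subgroup G} (hM : IsCoatom M)
    (hL : IsCoatom L) (hnc : ∀ g : G, L ≠ M.map (MulAut.conj g).toMonoidHom) :
    sigmaCore M ⊓ sigmaCore L = ⊥ := by
  apply Cfsg.Agent.Lib.Helper19.BG14.inf_eq_bot_of_primes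
  intro p hp h1 h2
  exact sigma_disj hG hM hL hnc
    (Cfsg.Agent.Lib.Helper47.BG11.mem_sigma_of_dvd_card_le le_rfl hp h1)
    (Cfsg.Agent.Lib.Helper47.BG11.mem_sigma_of_dvd_card_le le_rfl hp h2)

/-- the centralizer of a cyclic subgroup is the centralizer of its generator -/
theorem centralizer_zpowers_eq (x : G) :
    centralizer ((zpowers x : Subgroup G) : Set G) = centralizer ({x} : Set G) := by
  apply le_antisymm
  · apply centralizer_le
    intro y hy
    rw [Set.mem_singleton_iff] at hy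
    rw [hy]
    exact mem_zpowers x
  · intro g hg
    rw [mem_centralizer_iff] at hg ⊢
    intro y hy
    obtain ⟨n, rfl⟩ := mem_zpowers_iff.mp hy
    have h1 : x * g = g * x := hg x (Set.mem_singleton x)
    have h2 : Commute x g := h1
    exact (h2.zpow_left n).eq

/-- an element `y` of prime order `t ∉ σ(L)` of `L`, centralizing a nontrivial element of `L_σ`,
whose centralizer lies in a maximal subgroup other than `L`, has `t ∈ κ(L)` -/
theorem mem_kappa_of_cent_unique (hG : IsMinSimpleOddOrder G) {L : Subgroup G} (hL : IsCoatom L)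
    {t : ℕ} (ht : t.Prime) {y : G} (hyL : y ∈ L) (hyo : orderOf y = t) (htσ : t ∉ sigma L)
    {x : G} (hxV : x ∈ sigmaCore L) (hx1 : x ≠ 1) (hxy : y * x = x * y)
    {N : Subgroup G} (hN : IsCoatom N) (hNL : N ≠ L) (hCN : centralizer ({y} : Set G) ≤ N) :
    t ∈ kappa L := by
  haveI : Fact t.Prime := ⟨ht⟩
  have hσL := Cfsg.Agent.Lib.Helper47.BG11.sigmaHallIn_of_coatom hG hL
  obtain ⟨EL, hEL⟩ := Cfsg.Agent.Lib.Helper10.BG13.exists_isComplIn_sigmaCore hσL
  have hy1 : y ≠ 1 := by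
    intro h
    rw [h, orderOf_one] at hyo
    exact ht.one_lt.ne hyo
  have hTL : zpowers y ≤ L := by rw [zpowers_le]; exact hyL
  have hTc : Nat.card ↥(zpowers y) = t := by rw [Nat.card_zpowers, hyo]
  have htL : t ∣ Nat.card L := by rw [← hTc]; exact Subgroup.card_dvd_of_le hTL
  have htE : t ∣ Nat.card EL := Cfsg.Agent.Lib.Helper19.BG1311.dvd_card_compl hEL ht htL htσ
  have hne : sigmaCore L ⊓ centralizer ((zpowers y : Subgroup G) : Set G) ≠ ⊥ := by
    intro h
    have hxc : x ∈ centralizer ({y} : Set G) := by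
      rw [mem_centralizer_iff]
      intro z hz
      rw [Set.mem_singleton_iff] at hz
      rw [hz]; exact hxy
    have hx : x ∈ sigmaCore L ⊓ centralizer ((zpowers y : Subgroup G) : Set G) := by
      rw [centralizer_zpowers_eq]
      exact ⟨hxV, hxc⟩
    rw [h, mem_bot] at hx
    exact hx1 hx
  rcases (Cfsg.Agent.Lib.Helper24.S1421.prime_class hG hL hEL ht htE).2 with h | h
  · have hr1 : PRankLE t 1 ↥L := by
      rcases h with h | h
      · exact h.2.2.2.2
      · exact h.2.2.2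
    exact Cfsg.Agent.Lib.Helper32.BG142.mem_kappa_of_rank_one hG htσ hr1 hTL hTc hne
  · exfalso
    have h4 := (Cfsg.Agent.S1420.result hG L hL EL hEL).2.2.2 y hyL hy1
      (by
        intro p hp hpd
        rw [hyo] at hpd
        rw [(Nat.prime_dvd_prime_iff_eq hp ht).mp hpd]
        exact h)
      ⟨hyL, x, hxV, hx1, hxy⟩
    exact hNL (h4.2 N hN hCN)

/-- every maximal subgroup is in Case N or has `κ ⊆ τ₁` -/
theorem caseN_or_kappa_tau1 (hG : IsMinSimpleOddOrder G) {L : Subgroup G} (hL : IsCoatom L) :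
    Cfsg.Agent.Lib.Helper19.BG1311.CaseN L ∨ kappa L ⊆ tau1 L := by
  by_cases h : ∃ q, q ∈ kappa L ∧ q ∈ tau3 L
  · left
    obtain ⟨q, hqκ, hq3⟩ := h
    have h78 := (Cfsg.Agent.S1378.result hG).2
    have hLE := Cfsg.Agent.Lib.Helper70.BG14.stmtE32 hG
    have h1310 := Cfsg.Agent.Lib.Helper23.BG1310.stmt1310_of hG
      (Cfsg.Agent.Lib.Helper70.BG14.stmtE23 hG)
    have hPin := Cfsg.Agent.Lib.Helper32.BG142.stmtPin hG
    refine ⟨?_, fun E hE =>
      Cfsg.Agent.Lib.Helper32.BG142.exc_structure hG h78 hLE h1310 hPin hL hE hq3 hqκ⟩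
    have hσL := Cfsg.Agent.Lib.Helper47.BG11.sigmaHallIn_of_coatom hG hL
    obtain ⟨E, hE⟩ := Cfsg.Agent.Lib.Helper10.BG13.exists_isComplIn_sigmaCore hσL
    have hqp : q.Prime := hq3.1
    haveI : Fact q.Prime := ⟨hqp⟩
    have hqE : q ∣ Nat.card E :=
      Cfsg.Agent.Lib.Helper19.BG1311.dvd_card_compl hE hqp hqκ.2.1 hq3.2.1
    obtain ⟨z, hz⟩ := exists_prime_orderOf_dvd_card' q hqE
    have hZE : zpowers (z : G) ≤ E := by rw [zpowers_le]; exact z.2
    have hZ : Nat.card ↥(zpowers (z : G)) = q := by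
      rw [Nat.card_zpowers, Subgroup.orderOf_coe, hz]
    have hZne : sigmaCore L ⊓ centralizer ((zpowers (z : G) : Subgroup G) : Set G) ≠ ⊥ :=
      Cfsg.Agent.Lib.Helper32.BG142.cent_ne_bot_of_kappa hG hL hqκ (hZE.trans hE.1) hZ
    have h2 := Cfsg.Agent.Lib.Helper32.BG142.exc_tau2 hG hLE hL hE hq3 hZE hZ hZne
    ext s
    simp only [Set.mem_empty_iff_false, iff_false]
    exact h2 s
  · right
    intro p hp
    rcases Cfsg.Agent.Lib.Helper32.BG142.kappa_subset_tau13 hG hp with h1 | h3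
    · exact h1
    · exact absurd ⟨p, hp, h3⟩ h

/-- coprimality of `|M_σ|` with `|E| * |L_σ|` -/
theorem coprime_sigmaCore (hG : IsMinSimpleOddOrder G) {M E L : Subgroup G} (hM : IsCoatom M)
    (hE : IsComplIn E (sigmaCore M) M) (hL : IsCoatom L)
    (hnc : ∀ g : G, L ≠ M.map (MulAut.conj g).toMonoidHom) :
    (Nat.card ↥(sigmaCore M)).Coprime (Nat.card E * Nat.card ↥(sigmaCore L)) := by
  by_contra hcon
  obtain ⟨p, hp, h1, h2⟩ := Nat.Prime.not_coprime_iff_dvd.mp hcon
  have hpM : p ∈ sigma M := Cfsg.Agent.Lib.Helper47.BG11.mem_sigma_of_dvd_card_le le_rfl hp h1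
  rcases (Nat.Prime.dvd_mul hp).mp h2 with h | h
  · exact (Cfsg.Agent.Lib.Helper24.S1421.prime_class hG hM hE hp h).1 hpM
  · exact sigma_disj hG hM hL hnc hpM
      (Cfsg.Agent.Lib.Helper47.BG11.mem_sigma_of_dvd_card_le le_rfl hp h)

/-- **N3.** A partner `L` of a Case N group `M = M_σ E`: `Y = C_{M_σ}(E)` is a `κ(L)`-group, and
every Hall `κ(L)`-subgroup `K ≥ Y` lies in `Z = E ⊔ Y`, complements `L_σ` in `L`, acts
semiprimely on `L_σ`, with `C_{L_σ}(K) ≤ Z`. -/
theorem partner_hall (hG : IsMinSimpleOddOrder G) {M E L : Subgroup G} (hM : IsCoatom M)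
    (hE : IsComplIn E (sigmaCore M) M)
    (hne : sigmaCore M ⊓ centralizer (E : Set G) ≠ ⊥)
    (hτ1 : ∃ p ∈ tau1 M, p ∣ Nat.card E)
    (hnab : ¬ IsMulCommutative E)
    (hL : IsCoatom L) (hnc : ∀ g : G, L ≠ M.map (MulAut.conj g).toMonoidHom)
    (hZL : E ⊔ (sigmaCore M ⊓ centralizer (E : Set G)) ≤ L)
    (hML : M ⊓ L ≤ E ⊔ (sigmaCore M ⊓ centralizer (E : Set G)))
    {X : Subgroup G} (hXE : X ≤ E) (hXV : X ≤ sigmaCore L) (hX1 : X ≠ ⊥) :
    (∃ K : Subgroup G, IsPiHallOf (kappa L) K L ∧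
      sigmaCore M ⊓ centralizer (E : Set G) ≤ K) ∧
    ∀ K : Subgroup G, IsPiHallOf (kappa L) K L →
      sigmaCore M ⊓ centralizer (E : Set G) ≤ K →
      K ≤ E ⊔ (sigmaCore M ⊓ centralizer (E : Set G)) ∧ L ≤ K ⊔ sigmaCore L ∧
      sigmaCore L ⊓ centralizer (K : Set G) ≤ E ⊔ (sigmaCore M ⊓ centralizer (E : Set G)) ∧
      ∀ k ∈ K, k ≠ 1 → sigmaCore L ⊓ centralizer ({k} : Set G) =
        sigmaCore L ⊓ centralizer (K : Set G) := by
  classical
  have hEM : E ≤ M := hE.1
  have hEL : E ≤ L := le_sup_left.trans hZL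
  have hYL : sigmaCore M ⊓ centralizer (E : Set G) ≤ L := le_sup_right.trans hZL
  have hYW : sigmaCore M ⊓ centralizer (E : Set G) ≤ sigmaCore M := inf_le_left
  have hLM : M ≠ L := fun h => hnc 1 (by rw [map_conj_one]; exact h.symm)
  obtain ⟨x', hx'1⟩ := (Subgroup.ne_bot_iff_exists_ne_one).mp hX1
  have hxX : (x' : G) ∈ X := x'.2
  have hx1 : (x' : G) ≠ 1 := fun h => hx'1 (Subtype.ext h)
  -- Step 1 : `Y` is a `κ(L)`-group
  have hYκ : ∀ t : ℕ, t.Prime → t ∣ Nat.card ↥(sigmaCore M ⊓ centralizer (E : Set G)) →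
      t ∈ kappa L := by
    intro t ht htY
    haveI : Fact t.Prime := ⟨ht⟩
    obtain ⟨y, hy⟩ := exists_prime_orderOf_dvd_card' t htY
    have hyo : orderOf (y : G) = t := by rw [Subgroup.orderOf_coe]; exact hy
    have hyY : (y : G) ∈ sigmaCore M ⊓ centralizer (E : Set G) := y.2
    have htσM : t ∈ sigma M :=
      Cfsg.Agent.Lib.Helper47.BG11.mem_sigma_of_dvd_card_le hYW ht htY
    have htσL : t ∉ sigma L := fun h => sigma_disj hG hM hL hnc htσM h
    have hTY : zpowers (y : G) ≤ sigmaCore M ⊓ centralizer (E : Set G) := by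
      rw [zpowers_le]; exact hyY
    have hTp : (Nat.card ↥(zpowers (y : G))).Prime := by rw [Nat.card_zpowers, hyo]; exact ht
    have hZ := Cfsg.Agent.Lib.Helper64.BG135.stmtZ_final hG hM hEM hτ1 hTY hTp
    have hC : centralizer ({(y : G)} : Set G) ≤ M := by
      rw [← centralizer_zpowers_eq]; exact hZ.1.1
    have hxy : (y : G) * (x' : G) = (x' : G) * (y : G) :=
      (mem_centralizer_iff.mp hyY.2 (x' : G) (hXE hxX)).symm
    exact mem_kappa_of_cent_unique hG hL ht (hYL hyY) hyo htσL (hXV hxX) hx1 hxy hM hLM hC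
  have hsolv : Group.IsSolvable ↥L := Cfsg.Agent.Lib.Helper23.isSolvable_of_ne_top hG hL.1
  refine ⟨Cfsg.Agent.Lib.Helper21.exists_isPiHallOf_ge (kappa L) L hsolv _ hYL hYκ, ?_⟩
  intro K hK hYK
  have hK1 : K ≠ ⊥ := by
    intro h
    apply hne
    rw [eq_bot_iff, ← h]
    exact hYK
  obtain ⟨hsp, -, h3⟩ := Cfsg.Agent.S1430.result hG L hL K hK hK1
  -- a subgroup of prime order of `Y`
  obtain ⟨t, y, ht, htY, hyY, hy1, hyt⟩ := Cfsg.Agent.Lib.Helper47.BG147P.exists_prime_orderOf hne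
  haveI : Fact t.Prime := ⟨ht⟩
  have hyo : orderOf y = t := orderOf_eq_prime hyt hy1
  have hTY : zpowers y ≤ sigmaCore M ⊓ centralizer (E : Set G) := by
    rw [zpowers_le]; exact hyY
  have hTp : (Nat.card ↥(zpowers y)).Prime := by rw [Nat.card_zpowers, hyo]; exact ht
  have hZ := Cfsg.Agent.Lib.Helper64.BG135.stmtZ_final hG hM hEM hτ1 hTY hTp
  obtain ⟨h3a, -, -⟩ := h3 (zpowers y) (hTY.trans hYK) hTp
  have hle : K ⊔ (sigmaCore L ⊓ centralizer (K : Set G)) ≤
      E ⊔ (sigmaCore M ⊓ centralizer (E : Set G)) := by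
    rw [← h3a]
    exact le_trans (le_inf (inf_le_right.trans hZ.2) inf_le_left) hML
  have hKZ : K ≤ E ⊔ (sigmaCore M ⊓ centralizer (E : Set G)) := le_sup_left.trans hle
  have hKsZ : sigmaCore L ⊓ centralizer (K : Set G) ≤
      E ⊔ (sigmaCore M ⊓ centralizer (E : Set G)) := le_sup_right.trans hle
  refine ⟨hKZ, ?_, hKsZ, hsp⟩
  rcases caseN_or_kappa_tau1 hG hL with hN | hκ
  · have hc := Cfsg.Agent.Lib.Helper19.BG1311.isComplIn_of_hall_kappa hG hL hN hK
    intro m hm
    obtain ⟨a, ha, b, hb, rfl⟩ := hc.2.2.2 m hm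
    exact mul_mem ((le_sup_left : K ≤ K ⊔ sigmaCore L) ha)
      ((le_sup_right : sigmaCore L ≤ K ⊔ sigmaCore L) hb)
  · have hKc : IsCyclic K := Cfsg.Agent.Lib.Helper32.BG142.isCyclic_of_kappa_subset_tau1 hκ hK
    obtain ⟨U, hKU⟩ := (Cfsg.Agent.S1352.result hG L hL K hKc hK).1
    by_cases hU : U = ⊥
    · intro m hm
      obtain ⟨a, ha, b, hb, rfl⟩ := hKU.compl.2.2.2 m hm
      rw [hU, mem_bot] at ha
      rw [ha, one_mul]; exact hb
    · exfalso
      have hreg := Cfsg.Agent.S1353.result hG L hL K U hKU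
      obtain ⟨hKp, -, hVnil⟩ :=
        Cfsg.Agent.Lib.Helper47.BG147P.card_prime_of_U_ne_bot hG hL hKU hK1 hU hreg hsp
      -- `Y = K`
      have hYK' : sigmaCore M ⊓ centralizer (E : Set G) = K := by
        apply Subgroup.eq_of_le_of_card_ge hYK
        have hd : Nat.card ↥(sigmaCore M ⊓ centralizer (E : Set G)) ∣ Nat.card K :=
          Subgroup.card_dvd_of_le hYK
        rcases (Nat.dvd_prime hKp).mp hd with h1 | h1
        · exact absurd (Subgroup.card_eq_one.mp h1) hne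
        · exact h1.ge
      obtain ⟨h3K, -, -⟩ := h3 K le_rfl hKp
      have hEle : E ≤ K ⊔ (sigmaCore L ⊓ centralizer (K : Set G)) := by
        rw [← h3K]
        refine le_inf hEL ?_
        rw [← hYK']
        intro e he
        apply centralizer_le_normalizer
        rw [mem_centralizer_iff]
        intro y' hy'
        exact (mem_centralizer_iff.mp hy'.2 e he).symm
      have hKnorm : K ≤ normalizer ((sigmaCore L ⊓ centralizer (K : Set G) : Subgroup G) : Set G) :=
        (Cfsg.Agent.Lib.Helper96.BG1310C.le_centralizer_symm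
          (inf_le_right : sigmaCore L ⊓ centralizer (K : Set G) ≤ centralizer (K : Set G))).trans
          (centralizer_le_normalizer _)
      have hcop := coprime_sigmaCore hG hM hE hL hnc
      have hEV : E ≤ sigmaCore L := by
        intro e he
        obtain ⟨k, hk, c, hc, hkc⟩ := Cfsg.Agent.Lib.Helper19.BG14.mul_decomp hKnorm (hEle he)
        have hkY : k ∈ sigmaCore M ⊓ centralizer (E : Set G) := by rw [hYK']; exact hk
        -- `k` commutes with `e` and with `c`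
        have hke : e * k = k * e := mem_centralizer_iff.mp hkY.2 e he
        have hkc' : k * c = c * k := mem_centralizer_iff.mp hc.2 k hk
        have hce : Commute e c⁻¹ := by
          have hc' : c = k⁻¹ * e := by rw [hkc]; group
          have h1 : Commute e k := hke
          have h2 : Commute e (k⁻¹ * e) := (h1.inv_right).mul_right (Commute.refl e)
          rw [← hc'] at h2
          exact h2.inv_right
        have hk' : k = e * c⁻¹ := by rw [hkc]; group
        have hpow : k ^ (Nat.card E * Nat.card ↥(sigmaCore L)) = 1 := by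
          rw [hk', hce.mul_pow]
          have h1 : e ^ (Nat.card E * Nat.card ↥(sigmaCore L)) = 1 := by
            rw [pow_mul]
            have : e ^ Nat.card E = 1 :=
              orderOf_dvd_iff_pow_eq_one.mp (Subgroup.orderOf_dvd_natCard E he)
            rw [this, one_pow]
          have h2 : c⁻¹ ^ (Nat.card E * Nat.card ↥(sigmaCore L)) = 1 := by
            rw [mul_comm, pow_mul]
            have : c⁻¹ ^ Nat.card ↥(sigmaCore L) = 1 :=
              orderOf_dvd_iff_pow_eq_one.mp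
                (Subgroup.orderOf_dvd_natCard (sigmaCore L) ((sigmaCore L).inv_mem hc.1))
            rw [this, one_pow]
          rw [h1, h2, one_mul]
        have ho1 : orderOf k ∣ Nat.card E * Nat.card ↥(sigmaCore L) :=
          orderOf_dvd_of_pow_eq_one hpow
        have ho2 : orderOf k ∣ Nat.card ↥(sigmaCore M) :=
          Subgroup.orderOf_dvd_natCard (sigmaCore M) hkY.1
        have ho : orderOf k = 1 := Nat.eq_one_of_dvd_coprimes hcop ho2 ho1
        have hk1 : k = 1 := orderOf_eq_one_iff.mp ho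
        rw [hkc, hk1, one_mul]
        exact hc.1
      have hEnil : Group.IsNilpotent ↥E := by
        haveI := hVnil
        have : Group.IsNilpotent ↥(E.subgroupOf (sigmaCore L)) := inferInstance
        exact Group.nilpotent_of_mulEquiv (Subgroup.subgroupOfEquivOfLe hEV)
      exact hnab ((Cfsg.Agent.S1420.result hG M hM E hE).1 E hEM hEnil
        (fun p hp hpE => (Cfsg.Agent.Lib.Helper24.S1421.prime_class hG hM hE hp hpE).1))

/-- two subgroups of `E`, both normalized by `E`, meeting trivially, commute elementwise -/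
theorem commute_of_normalized {E A B : Subgroup G} (hAE : A ≤ E) (hBE : B ≤ E)
    (hA : E ≤ normalizer (A : Set G)) (hB : E ≤ normalizer (B : Set G)) (hAB : A ⊓ B = ⊥)
    {a b : G} (ha : a ∈ A) (hb : b ∈ B) : a * b = b * a := by
  have h1 : a * b * a⁻¹ * b⁻¹ ∈ A := by
    have h2 : b * a⁻¹ * b⁻¹ ∈ A := (mem_normalizer_iff.mp (hA (hBE hb)) a⁻¹).mp (A.inv_mem ha)
    have : a * b * a⁻¹ * b⁻¹ = a * (b * a⁻¹ * b⁻¹) := by group
    rw [this]
    exact A.mul_mem ha h2
  have h2 : a * b * a⁻¹ * b⁻¹ ∈ B := by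
    have h3 : a * b * a⁻¹ ∈ B := (mem_normalizer_iff.mp (hB (hAE ha)) b).mp hb
    exact B.mul_mem h3 (B.inv_mem hb)
  have h3 : a * b * a⁻¹ * b⁻¹ ∈ A ⊓ B := ⟨h1, h2⟩
  rw [hAB, mem_bot] at h3
  have : a * b = (a * b * a⁻¹ * b⁻¹) * (b * a) := by group
  rw [this, h3, one_mul]

/-- **N4.** Two different (non-conjugate) partners of a Case N group meet inside `Z = E ⊔ Y`. -/
theorem partner_inf_le (hG : IsMinSimpleOddOrder G) {M E L L' : Subgroup G} (hM : IsCoatom M)
    (hE : IsComplIn E (sigmaCore M) M)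
    (hne : sigmaCore M ⊓ centralizer (E : Set G) ≠ ⊥)
    (hτ1 : ∃ p ∈ tau1 M, p ∣ Nat.card E)
    (hnab : ¬ IsMulCommutative E)
    (hnorm : ∀ X : Subgroup G, X ≤ E → (Nat.card X).Prime → E ≤ normalizer (X : Set G))
    (hL : IsCoatom L) (hnc : ∀ g : G, L ≠ M.map (MulAut.conj g).toMonoidHom)
    (hZL : E ⊔ (sigmaCore M ⊓ centralizer (E : Set G)) ≤ L)
    (hML : M ⊓ L ≤ E ⊔ (sigmaCore M ⊓ centralizer (E : Set G)))
    {X : Subgroup G} (hXE : X ≤ E) (hXV : X ≤ sigmaCore L) (hX1 : X ≠ ⊥)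
    (hL' : IsCoatom L') (hnc' : ∀ g : G, L' ≠ L.map (MulAut.conj g).toMonoidHom)
    (hZL' : E ⊔ (sigmaCore M ⊓ centralizer (E : Set G)) ≤ L')
    {X' : Subgroup G} (hX'E : X' ≤ E) (hX' : (Nat.card X').Prime)
    (hX'V : X' ≤ sigmaCore L') (hNL' : normalizer (X' : Set G) ≤ L') :
    L ⊓ L' ≤ E ⊔ (sigmaCore M ⊓ centralizer (E : Set G)) := by
  classical
  have hEL : E ≤ L := le_sup_left.trans hZL
  have hYL : sigmaCore M ⊓ centralizer (E : Set G) ≤ L := le_sup_right.trans hZL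
  have hLL' : L' ≠ L := fun h => hnc' 1 (by rw [map_conj_one]; exact h)
  obtain ⟨hex, hall⟩ := partner_hall hG hM hE hne hτ1 hnab hL hnc hZL hML hXE hXV hX1
  -- the prime `p' = |X'|`
  have hp'σL' : Nat.card X' ∈ sigma L' :=
    Cfsg.Agent.Lib.Helper47.BG11.mem_sigma_of_dvd_card_le hX'V hX' (dvd_refl _)
  have hp'σL : Nat.card X' ∉ sigma L := fun h => sigma_disj hG hL hL' hnc' h hp'σL'
  -- an element of prime order of `X`
  obtain ⟨p₀, x₀, hp₀, -, hx₀X, hx₀1, hx₀p⟩ :=
    Cfsg.Agent.Lib.Helper47.BG147P.exists_prime_orderOf hX1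
  haveI : Fact p₀.Prime := ⟨hp₀⟩
  have hx₀o : orderOf x₀ = p₀ := orderOf_eq_prime hx₀p hx₀1
  have hX₀X : zpowers x₀ ≤ X := by rw [zpowers_le]; exact hx₀X
  have hX₀c : Nat.card ↥(zpowers x₀) = p₀ := by rw [Nat.card_zpowers, hx₀o]
  have hp₀σ : p₀ ∈ sigma L :=
    Cfsg.Agent.Lib.Helper47.BG11.mem_sigma_of_dvd_card_le (hX₀X.trans hXV) hp₀
      (by rw [hX₀c])
  have hpne : p₀ ≠ Nat.card X' := by
    intro h
    rw [h] at hp₀σ
    exact hp'σL hp₀σ
  have hinf : zpowers x₀ ⊓ X' = ⊥ := by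
    apply disjoint_iff.mp
    apply Subgroup.disjoint_of_coprime_natCard
    rw [hX₀c]
    exact (Nat.coprime_primes hp₀ hX').mpr hpne
  have hcomm : ∀ b ∈ X', x₀ * b = b * x₀ := by
    intro b hb
    exact commute_of_normalized (hX₀X.trans hXE) hX'E
      (hnorm _ (hX₀X.trans hXE) (by rw [hX₀c]; exact hp₀)) (hnorm _ hX'E hX') hinf
      (mem_zpowers x₀) hb
  -- a generator of `X'`
  have hX'1 : X' ≠ ⊥ := by
    intro h
    rw [h, Subgroup.card_bot] at hX'
    exact Nat.not_prime_one hX'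
  obtain ⟨x'', hx''1⟩ := (Subgroup.ne_bot_iff_exists_ne_one).mp hX'1
  have hx'X' : (x'' : G) ∈ X' := x''.2
  have hx'1 : (x'' : G) ≠ 1 := fun h => hx''1 (Subtype.ext h)
  have hx'o : orderOf (x'' : G) = Nat.card X' := by
    have hd : orderOf (x'' : G) ∣ Nat.card X' := Subgroup.orderOf_dvd_natCard X' hx'X'
    rcases (Nat.dvd_prime hX').mp hd with h | h
    · exact absurd (orderOf_eq_one_iff.mp h) hx'1
    · exact h
  have hzX' : zpowers (x'' : G) = X' := by
    apply Subgroup.eq_of_le_of_card_ge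
    · rw [zpowers_le]; exact hx'X'
    · rw [Nat.card_zpowers, hx'o]
  have hCx' : centralizer ({(x'' : G)} : Set G) ≤ L' := by
    rw [← centralizer_zpowers_eq, hzX']
    exact (centralizer_le_normalizer _).trans hNL'
  have hp'κ : Nat.card X' ∈ kappa L :=
    mem_kappa_of_cent_unique hG hL hX' (hEL (hX'E hx'X')) hx'o hp'σL (hXV hx₀X) hx₀1
      (hcomm _ hx'X').symm hL' hLL' hCx'
  -- `X' ⊔ Y` is a `κ(L)`-subgroup
  obtain ⟨K₀, hK₀, hYK₀⟩ := hex
  have hX'N : X' ≤ normalizer ((sigmaCore M ⊓ centralizer (E : Set G) : Subgroup G) : Set G) := by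
    refine le_trans ?_ (centralizer_le_normalizer _)
    exact hX'E.trans (Cfsg.Agent.Lib.Helper96.BG1310C.le_centralizer_symm
      (inf_le_right : sigmaCore M ⊓ centralizer (E : Set G) ≤ centralizer (E : Set G)))
  have hsupκ : ∀ t : ℕ, t.Prime →
      t ∣ Nat.card ↥(X' ⊔ (sigmaCore M ⊓ centralizer (E : Set G))) → t ∈ kappa L := by
    intro t ht htd
    have h1 := Cfsg.Agent.Lib.Helper55.card_sup_dvd_mul_of_le_normalizer X'
      (sigmaCore M ⊓ centralizer (E : Set G)) hX'N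
    rcases (Nat.Prime.dvd_mul ht).mp (htd.trans h1) with h | h
    · rw [(Nat.prime_dvd_prime_iff_eq ht hX').mp h]
      exact hp'κ
    · exact hK₀.2.1 t ht (h.trans (Subgroup.card_dvd_of_le hYK₀))
  have hsolv : Group.IsSolvable ↥L := Cfsg.Agent.Lib.Helper23.isSolvable_of_ne_top hG hL.1
  obtain ⟨K, hK, hsupK⟩ := Cfsg.Agent.Lib.Helper21.exists_isPiHallOf_ge (kappa L) L hsolv
    (X' ⊔ (sigmaCore M ⊓ centralizer (E : Set G))) (sup_le (hX'E.trans hEL) hYL) hsupκ
  have hYK : sigmaCore M ⊓ centralizer (E : Set G) ≤ K := le_sup_right.trans hsupK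
  have hX'K : X' ≤ K := le_sup_left.trans hsupK
  obtain ⟨hKZ, hLK, hKsZ, hsp⟩ := hall K hK hYK
  -- the main argument
  intro g hg
  have hKV : K ≤ normalizer ((sigmaCore L : Subgroup G) : Set G) :=
    hK.1.trans (Cfsg.Agent.Lib.Helper24.BG.le_normalizer_sigmaCore L)
  obtain ⟨k, hk, v, hv, hgkv⟩ := Cfsg.Agent.Lib.Helper19.BG14.mul_decomp hKV (hLK hg.1)
  have hkZ : k ∈ E ⊔ (sigmaCore M ⊓ centralizer (E : Set G)) := hKZ hk
  have hvL' : v ∈ L' := by
    have : v = k⁻¹ * g := by rw [hgkv]; group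
    rw [this]
    exact L'.mul_mem (L'.inv_mem (hZL' hkZ)) hg.2
  -- `v` commutes with `x''`
  have hVV : sigmaCore L ⊓ sigmaCore L' = ⊥ := sigmaCore_inf_eq_bot hG hL hL' hnc'
  have hx'L : (x'' : G) ∈ L := hEL (hX'E hx'X')
  have hvx : v * (x'' : G) = (x'' : G) * v := by
    have h1 : v * (x'' : G) * v⁻¹ * (x'' : G)⁻¹ ∈ sigmaCore L := by
      have h2 : (x'' : G) * v⁻¹ * (x'' : G)⁻¹ ∈ sigmaCore L :=
        (mem_normalizer_iff.mp (Cfsg.Agent.Lib.Helper24.BG.le_normalizer_sigmaCore L hx'L)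
          v⁻¹).mp ((sigmaCore L).inv_mem hv)
      have : v * (x'' : G) * v⁻¹ * (x'' : G)⁻¹ = v * ((x'' : G) * v⁻¹ * (x'' : G)⁻¹) := by group
      rw [this]
      exact (sigmaCore L).mul_mem hv h2
    have h2 : v * (x'' : G) * v⁻¹ * (x'' : G)⁻¹ ∈ sigmaCore L' := by
      have h3 : v * (x'' : G) * v⁻¹ ∈ sigmaCore L' :=
        (mem_normalizer_iff.mp (Cfsg.Agent.Lib.Helper24.BG.le_normalizer_sigmaCore L' hvL')
          (x'' : G)).mp (hX'V hx'X')
      exact (sigmaCore L').mul_mem h3 ((sigmaCore L').inv_mem (hX'V hx'X'))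
    have h3 : v * (x'' : G) * v⁻¹ * (x'' : G)⁻¹ ∈ sigmaCore L ⊓ sigmaCore L' := ⟨h1, h2⟩
    rw [hVV, mem_bot] at h3
    have : v * (x'' : G) = (v * (x'' : G) * v⁻¹ * (x'' : G)⁻¹) * ((x'' : G) * v) := by group
    rw [this, h3, one_mul]
  have hvc : v ∈ centralizer ({(x'' : G)} : Set G) := by
    rw [mem_centralizer_iff]
    intro z hz
    rw [Set.mem_singleton_iff] at hz
    rw [hz]
    exact hvx.symm
  have hvC : v ∈ sigmaCore L ⊓ centralizer ({(x'' : G)} : Set G) := ⟨hv, hvc⟩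
  rw [hsp (x'' : G) (hX'K hx'X') hx'1] at hvC
  rw [hgkv]
  exact mul_mem hkZ (hKsZ hvC)

end Cfsg.Agent.Lib.Helper96.BG141N
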