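import Cfsg.Agent.Lib.Helper23.BG1310Defs
import Cfsg.Agent.Lib.Helper63.BG13b
import Cfsg.Agent.Lib.Helper60.BG139S1
import Cfsg.Agent.Lib.Helper64.BG9
import Cfsg.Agent.S1404
import Cfsg.Agent.S1405

set_option autoImplicit false
set_option linter.style.haveILetI false
set_option linter.unusedSectionVars false

/-!
# Piece C of Bender–Glauberman Lemma 13.10 (helper96, for helper23)

`pin_of_cent`: `M`, `H` non-conjugate maximal subgroups, `q ∈ σ(H)`, `Z ≤ H` of order `q`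
centralized by `M_σ ∩ H`.  Then every nontrivial `t`-subgroup `S` of `M_σ ∩ H` is cyclic and
`N_G(S) ≤ M`.
-/

namespace Cfsg.Agent.Lib.Helper96.BG1310C

open Subgroup Cfsg Cfsg.Agent.Lib.Helper33 Cfsg.Agent.Lib.Helper63 Cfsg.Agent.Lib.Helper63.BG13
open Cfsg.Agent.Lib.Helper23.BG1310

universe u

variable {G : Type u} [Group G] [Finite G]

/-- a subgroup of prime order is abelian -/
theorem le_centralizer_self_of_card {t : ℕ} [ht : Fact t.Prime] {X : Subgroup G}
    (hX : Nat.card X = t) : X ≤ centralizer (X : Set G) := by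
  haveI : IsCyclic ↥X := isCyclic_of_prime_card hX
  intro r hr
  rw [mem_centralizer_iff]
  intro s hs
  have hc : IsMulCommutative ↥X := inferInstance
  have := hc.is_comm.comm ⟨s, hs⟩ ⟨r, hr⟩
  simpa using congrArg Subtype.val this

/-- a `t`-group in which some subgroup of order `t` has cyclic centralizer is cyclic -/
theorem isCyclic_of_isCyclic_inf_centralizer {t : ℕ} [ht : Fact t.Prime] {T X : Subgroup G}
    (hT : IsPGroup t T) (hXT : X ≤ T) (hX : Nat.card X = t)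
    (hc : IsCyclic ↥(T ⊓ centralizer (X : Set G))) : IsCyclic ↥T := by
  have hX1 : X ≠ ⊥ := by
    intro h; rw [h, Subgroup.card_bot] at hX; exact ht.out.one_lt.ne hX
  haveI : Nontrivial ↥T := by
    obtain ⟨x, hx1⟩ := (Subgroup.ne_bot_iff_exists_ne_one).mp hX1
    refine ⟨⟨1, ⟨(x : G), hXT x.2⟩, fun h => hx1 ?_⟩⟩
    apply Subtype.ext
    have := congrArg Subtype.val h
    simpa using this.symm
  haveI := hT.center_nontrivial
  have hdvd : t ∣ Nat.card (center ↥T) := by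
    obtain ⟨k, hk⟩ := IsPGroup.iff_card.mp (hT.to_subgroup (center ↥T))
    rcases Nat.eq_zero_or_pos k with h0 | hpos
    · exfalso
      rw [h0, pow_zero] at hk
      have : Subsingleton (center ↥T) := (Nat.card_eq_one_iff_unique.mp hk).1
      exact not_subsingleton _ this
    · rw [hk]; exact dvd_pow_self t hpos.ne'
  obtain ⟨z, hz⟩ := exists_prime_orderOf_dvd_card' (G := ↥(center ↥T)) t hdvd
  have hzT : ((z : ↥T) : G) ∈ T := (z : ↥T).2
  have hzo : orderOf ((z : ↥T) : G) = t := by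
    rw [Subgroup.orderOf_coe, Subgroup.orderOf_coe, hz]
  have hzc : ∀ a ∈ T, a * ((z : ↥T) : G) = ((z : ↥T) : G) * a := by
    intro a ha
    have := Subgroup.mem_center_iff.mp z.2 ⟨a, ha⟩
    simpa using congrArg Subtype.val this
  set X' := zpowers ((z : ↥T) : G) with hX'
  have hX'c : Nat.card X' = t := by rw [hX', Nat.card_zpowers, hzo]
  have hX'le : X' ≤ T ⊓ centralizer (X : Set G) := by
    rw [hX', zpowers_le]
    refine ⟨hzT, ?_⟩
    show ((z : ↥T) : G) ∈ centralizer (X : Set G)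
    rw [mem_centralizer_iff]
    intro x hx
    exact hzc x (hXT hx)
  have hXle : X ≤ T ⊓ centralizer (X : Set G) := le_inf hXT (le_centralizer_self_of_card hX)
  have heq : X = X' := eq_of_card_prime_of_le_isCyclic hc hX hX'c hXle hX'le
  have hTle : T ≤ centralizer (X : Set G) := by
    intro a ha
    rw [mem_centralizer_iff]
    intro x hx
    rw [heq, hX'] at hx
    obtain ⟨k, rfl⟩ := mem_zpowers_iff.mp hx
    exact ((Commute.zpow_left (show Commute ((z : ↥T) : G) a from (hzc a ha).symm) k)).eq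
  have : T ⊓ centralizer (X : Set G) = T := inf_of_le_left hTle
  rw [this] at hc
  exact hc

/-- `centralizer` is symmetric -/
theorem le_centralizer_symm {A B : Subgroup G} (h : A ≤ centralizer (B : Set G)) :
    B ≤ centralizer (A : Set G) := by
  intro b hb
  rw [mem_centralizer_iff]
  intro a ha
  exact ((mem_centralizer_iff.mp (h ha)) b hb).symm

/-- **Piece C of BG 13.10**, with the rank conclusion. -/
theorem pin_of_cent_rank (hG : IsMinSimpleOddOrder G) (h78 : Stmt1378b G) (hLE : StmtE G)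
    {M H : Subgroup G} (hM : IsCoatom M) (hH : IsCoatom H)
    (hnc : ∀ g : G, H ≠ M.map (MulAut.conj g).toMonoidHom)
    {q : ℕ} [Fact q.Prime] (hqH : q ∈ sigma H) {Z : Subgroup G} (hZ : Nat.card Z = q)
    (hZH : Z ≤ H) (hWH : sigmaCore M ⊓ H ≤ centralizer (Z : Set G))
    {t : ℕ} [ht : Fact t.Prime] {S : Subgroup G} (hSt : IsPGroup t S) (hS1 : S ≠ ⊥)
    (hSW : S ≤ sigmaCore M ⊓ H) :
    IsCyclic S ∧ normalizer (S : Set G) ≤ M ∧ PRankLE t 1 ↥H := by
  have htp : t.Prime := ht.out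
  have hqp : q.Prime := Fact.out
  have hHallM := hallStmt hG M hM
  have hHallH := hallStmt hG H hH
  have hHtop : H ≠ ⊤ := hH.1
  -- `t ∣ |S|`, `t ∈ σ(M)`
  have htS : t ∣ Nat.card S := by
    obtain ⟨k, hk⟩ := IsPGroup.iff_card.mp hSt
    rcases Nat.eq_zero_or_pos k with h0 | hpos
    · exfalso
      rw [h0, pow_zero] at hk
      exact hS1 (Subgroup.card_eq_one.mp hk)
    · rw [hk]; exact dvd_pow_self t hpos.ne'
  have htW : t ∣ Nat.card (sigmaCore M) :=
    htS.trans (Subgroup.card_dvd_of_le (hSW.trans inf_le_left))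
  have htM : t ∈ sigma M :=
    Cfsg.Agent.Lib.Helper60.BG139.mem_sigma_of_dvd_card_sigmaCore hG hM htp htW
  have htG : t ∣ Nat.card G := htS.trans (Subgroup.card_subgroup_dvd_card S)
  have ht2 : t ≠ 2 := ne_two_of_dvd_card hG htG
  -- `t ∉ σ(H)`
  have htH : t ∉ sigma H := by
    intro h
    obtain ⟨g, hg⟩ := h78 M H hM hH ⟨t, htM, h⟩
    exact hnc g hg
  have htHσ : ¬ t ∣ Nat.card (sigmaCore H) := fun h =>
    htH (Cfsg.Agent.Lib.Helper60.BG139.mem_sigma_of_dvd_card_sigmaCore hG hH htp h)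
  -- `H` has `t`-rank at most two
  have hr2 : PRankLE t 2 ↥H := by
    by_contra h
    have h5 := Cfsg.Agent.S1405.result hG H hH
    exact htH (Cfsg.Agent.Lib.Helper76.BGSigU.alpha_subset_sigma hHallH h5.1 h5.2.2.1 ⟨htp, h⟩)
  -- `Z ≤ H_σ`, `Z ≠ 1`
  have hZp : IsPGroup q Z := IsPGroup.of_card (n := 1) (by rw [hZ, pow_one])
  have hZσ : Z ≤ sigmaCore H :=
    Cfsg.Agent.Lib.Helper76.BGSigU.le_sigmaCore_of_isPGroup hHallH hqH hZp hZH
  have hZ1 : Z ≠ ⊥ := by
    intro h; rw [h, Subgroup.card_bot] at hZ; exact hqp.one_lt.ne hZ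
  -- (i) `t`-subgroups of `M_σ ∩ H` have rank one
  have key1 : ∀ S' : Subgroup G, IsPGroup t S' → S' ≤ sigmaCore M ⊓ H → PRankLE t 1 ↥S' := by
    intro S' hS' hle
    by_contra hr
    obtain ⟨A, hAS', hAe, hAc⟩ := BG10.exists_elemAb_sq_le hr
    have hAH : A ≤ H := (hAS'.trans hle).trans inf_le_right
    have hr1 : ¬ PRankLE t 1 ↥H := by
      apply Cfsg.Agent.Lib.Helper96.BG103.not_pRankLE_of_le hAH
      · intro x hx y hy
        have := hAe.1.is_comm.comm ⟨x, hx⟩ ⟨y, hy⟩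
        simpa using congrArg Subtype.val this
      · exact hAe.2
      · rw [hAc, pow_one]
        calc t = t ^ 1 := (pow_one t).symm
          _ < t ^ 2 := Nat.pow_lt_pow_right htp.one_lt (by norm_num)
    have hτ2 : t ∈ tau2 H := ⟨htp, htH, hr2, hr1⟩
    have h17 := Cfsg.Agent.S1417.result hG H hH t hτ2 A ⟨hAH, hAe, hAc⟩
    have hbot := h17.2.2.2.1
    have hZA : Z ≤ centralizer (A : Set G) :=
      le_centralizer_symm ((hAS'.trans hle).trans hWH)
    have : Z ≤ sigmaCore H ⊓ centralizer (A : Set G) := le_inf hZσ hZA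
    rw [hbot] at this
    exact hZ1 (le_bot_iff.mp this)
  have key1c : ∀ S' : Subgroup G, IsPGroup t S' → S' ≤ sigmaCore M ⊓ H → IsCyclic ↥S' :=
    fun S' hS' hle => isCyclic_of_le_of_pRankLE_one ht2 hS' le_rfl (key1 S' hS' hle)
  have hScyc : IsCyclic ↥S := key1c S hSt hSW
  refine ⟨hScyc, ?_⟩
  -- `X := Ω₁(S)`
  obtain ⟨x, hx⟩ := exists_prime_orderOf_dvd_card' (G := ↥S) t htS
  set X := zpowers (x : G) with hXdef
  have hXc : Nat.card X = t := by rw [hXdef, Nat.card_zpowers, Subgroup.orderOf_coe, hx]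
  have hXS : X ≤ S := zpowers_le.mpr x.2
  have hXH : X ≤ H := (hXS.trans hSW).trans inf_le_right
  have hXW : X ≤ sigmaCore M := (hXS.trans hSW).trans inf_le_left
  have hXM : X ≤ M := hXW.trans hHallM.1
  have hXp : IsPGroup t X := IsPGroup.of_card (n := 1) (by rw [hXc, pow_one])
  have hX1 : X ≠ ⊥ := by
    intro h; rw [h, Subgroup.card_bot] at hXc; exact htp.one_lt.ne hXc
  have hZX : Z ≤ centralizer (X : Set G) := le_centralizer_symm ((hXS.trans hSW).trans hWH)
  have hne : sigmaCore H ⊓ centralizer (X : Set G) ≠ ⊥ := by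
    intro h
    have : Z ≤ sigmaCore H ⊓ centralizer (X : Set G) := le_inf hZσ hZX
    rw [h] at this
    exact hZ1 (le_bot_iff.mp this)
  -- (ii) `H` has `t`-rank one
  have hr1 : PRankLE t 1 ↥H := by
    by_contra hr
    have hτ2 : t ∈ tau2 H := ⟨htp, htH, hr2, hr⟩
    have hcop : (Nat.card X).Coprime (Nat.card (sigmaCore H)) := by
      rw [hXc]; exact (Nat.Prime.coprime_iff_not_dvd htp).mpr htHσ
    obtain ⟨EH, hEH, hXE⟩ := exists_compl_ge hG hHtop hHallH hXH hcop
    obtain ⟨AH, hAE, hAe, hAc⟩ := Cfsg.Agent.Lib.Helper96.BG127.exists_elemAb_sq_le_compl hEH hτ2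
    have h18 := Cfsg.Agent.S1418.result hG H hH EH hEH t hτ2 AH ⟨hAE, hAe, hAc⟩
    have hXA : X ≤ AH := h18.1.2 X hXE hXc
    have hCX : centralizer (X : Set G) ≤ H := (h18.2.2 X hXA hXc hne).1
    -- a Sylow `t`-subgroup of `M_σ` over `X`
    have hXW' : IsPGroup t (X.subgroupOf (sigmaCore M)) := hXp.comap_subtype
    obtain ⟨T, hT⟩ := hXW'.exists_le_sylow
    obtain ⟨hT1, hT2, hT3⟩ := Cfsg.Agent.Lib.Helper24.sylow_map_facts (sigmaCore M) T
    set T' := (T : Subgroup (sigmaCore M)).map (sigmaCore M).subtype with hT'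
    have hXT : X ≤ T' := by
      intro y hy
      exact ⟨⟨y, hXW hy⟩, hT (Subgroup.mem_subgroupOf.mpr hy), rfl⟩
    have hcyc : IsCyclic ↥(T' ⊓ centralizer (X : Set G)) := by
      apply key1c
      · exact hT2.to_le inf_le_left
      · exact le_inf (inf_le_left.trans hT1) (inf_le_right.trans hCX)
    have hTcyc : IsCyclic ↥T' := isCyclic_of_isCyclic_inf_centralizer hT2 hXT hXc hcyc
    -- `T'` is a Sylow subgroup of `G`
    have hHallG := (Cfsg.Agent.S1350.result hG M hM).2.1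
    have hidx : ¬ t ∣ T'.relIndex ⊤ := by
      rw [Subgroup.relIndex_top_right, ← Subgroup.relIndex_mul_index hT1]
      intro hd
      rcases (Nat.Prime.dvd_mul htp).mp hd with h | h
      · exact hT3 h
      · exact hHallG.2 t htp htM h
    obtain ⟨c, -, hcA⟩ := sylow_sub (K := ⊤) le_top hT2 hidx (le_top : AH ≤ ⊤)
      (Cfsg.Agent.Lib.Helper63.BG10.isPGroup_of_elemAb hAe)
    -- so `AH` is cyclic: contradiction
    have hr1' : PRankLE t 1 ↥T' := pRankLE_one_of_isCyclic htp hTcyc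
    have hAcj : cj c AH ≤ T' := hcA
    have := Cfsg.Agent.Lib.Helper96.BG103.not_pRankLE_of_le (q := t) (k := 1) hAcj
      (by
        intro a ha b hb
        obtain ⟨a', ha', rfl⟩ := mem_cj'.mp ha
        obtain ⟨b', hb', rfl⟩ := mem_cj'.mp hb
        have := hAe.1.is_comm.comm ⟨a', ha'⟩ ⟨b', hb'⟩
        have h2 : a' * b' = b' * a' := by simpa using congrArg Subtype.val this
        calc c * a' * c⁻¹ * (c * b' * c⁻¹) = c * (a' * b') * c⁻¹ := by group
          _ = c * (b' * a') * c⁻¹ := by rw [h2]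
          _ = c * b' * c⁻¹ * (c * a' * c⁻¹) := by group)
      (by
        intro a ha
        obtain ⟨a', ha', rfl⟩ := mem_cj'.mp ha
        have := hAe.2 a' ha'
        rw [conj_pow, this]; simp)
      (by
        rw [card_cj, hAc, pow_one]
        calc t = t ^ 1 := (pow_one t).symm
          _ < t ^ 2 := Nat.pow_lt_pow_right htp.one_lt (by norm_num))
    exact this hr1'
  -- (iii) `t ∈ τ₁(H) ∪ τ₃(H)`
  have htH' : t ∣ Nat.card H := by
    rw [← hXc]; exact Subgroup.card_dvd_of_le hXH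
  have hτ13 : t ∈ tau1 H ∪ tau3 H := by
    by_cases hd : t ∣ Nat.card ↥⁅H, H⁆
    · exact Or.inr ⟨htp, htH, hd, hr1⟩
    · exact Or.inl ⟨htp, htH, htH', hd, hr1⟩
  -- a maximal subgroup over `N_G(X)`
  have hXtop : X ≠ ⊤ := fun h => hHtop (top_le_iff.mp (h ▸ hXH))
  obtain ⟨L, hL, hNL⟩ := Cfsg.Agent.Lib.Helper64.BG9.exists_coatom_ge
    (BG10.normalizer_ne_top hG hX1 hXtop)
  have htL : t ∈ sigma L := hLE H L hH hL t hτ13 X hXc hXH hne hNL
  obtain ⟨g, hg⟩ := h78 M L hM hL ⟨t, htM, htL⟩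
  have hXL : X ≤ L := le_normalizer.trans hNL
  have hcjX : X.map (MulAut.conj g⁻¹).toMonoidHom ≤ M := by
    have h1 : X ≤ cj g M := by
      have : L = cj g M := hg
      rw [← this]; exact hXL
    have := cj_mono (g := g⁻¹) h1
    rwa [cj_inv_cj] at this
  obtain ⟨m, hm, c, hc, hgmc⟩ := (Cfsg.Agent.S1404.result hG M hM t htM X hXp hX1 hXM).1 g⁻¹ hcjX
  have hcL : c ∈ L := hNL (Subgroup.centralizer_le_normalizer (X : Set G) hc)
  have hLM : L = M := by
    have hg' : g = c⁻¹ * m⁻¹ := by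
      have := congrArg (·⁻¹) hgmc
      simpa [mul_inv_rev] using this
    have h1 : L = cj c⁻¹ M := by
      rw [hg, hg']
      show cj (c⁻¹ * m⁻¹) M = cj c⁻¹ M
      rw [cj_mul, cj_eq_self_of_mem (M.inv_mem hm)]
    have h2 : cj c L = L := cj_eq_self_of_mem hcL
    have h3 : cj c L = M := by rw [h1, cj_cj_inv]
    rw [← h2, h3]
  -- `N_G(S) ≤ N_G(X) ≤ M`
  refine ⟨?_, hr1⟩
  intro n hn
  apply hLM ▸ hNL
  rw [← cj_eq_self_iff]
  have hnS : cj n S = S := cj_eq_self_iff.mpr hn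
  have h1 : cj n X ≤ S := hnS ▸ cj_mono hXS
  exact eq_of_card_prime_of_le_isCyclic hScyc (by rw [card_cj, hXc]) hXc h1 hXS

/-- **Piece C of BG 13.10.** -/
theorem pin_of_cent (hG : IsMinSimpleOddOrder G) (h78 : Stmt1378b G) (hLE : StmtE G)
    {M H : Subgroup G} (hM : IsCoatom M) (hH : IsCoatom H)
    (hnc : ∀ g : G, H ≠ M.map (MulAut.conj g).toMonoidHom)
    {q : ℕ} [Fact q.Prime] (hqH : q ∈ sigma H) {Z : Subgroup G} (hZ : Nat.card Z = q)
    (hZH : Z ≤ H) (hWH : sigmaCore M ⊓ H ≤ centralizer (Z : Set G))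
    {t : ℕ} [ht : Fact t.Prime] {S : Subgroup G} (hSt : IsPGroup t S) (hS1 : S ≠ ⊥)
    (hSW : S ≤ sigmaCore M ⊓ H) :
    IsCyclic S ∧ normalizer (S : Set G) ≤ M :=
  have h := pin_of_cent_rank hG h78 hLE hM hH hnc hqH hZ hZH hWH hSt hS1 hSW
  ⟨h.1, h.2.1⟩

end Cfsg.Agent.Lib.Helper96.BG1310C
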