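import Mathlib
import Cfsg.Agent.Lib.Helper96.Schmidt3

set_option autoImplicit false
set_option linter.style.haveILetI false

/-! Wielandt's theorem on nilpotent Hall subgroups. -/

namespace Cfsg.Agent.Lib.Helper96

variable {G : Type*} [Group G]

/-- in a finite nilpotent group, elements of coprime order commute -/
theorem commute_of_coprime_orderOf [Finite G] (hn : Group.IsNilpotent G) {x y : G}
    (hxy : (orderOf x).Coprime (orderOf y)) : Commute x y := by
  obtain ⟨e⟩ := ((Group.isNilpotent_of_finite_tfae (G := G)).out 0 4).mp hn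
  change x * y = y * x
  apply e.symm.injective
  rw [map_mul, map_mul]
  funext p P
  simp only [Pi.mul_apply]
  have hp : (p : ℕ).Prime := Nat.prime_of_mem_primeFactors p.2
  haveI : Fact (p : ℕ).Prime := ⟨hp⟩
  -- the projection hom
  let φ : G →* (P : Subgroup G) :=
    { toFun := fun g => e.symm g p P
      map_one' := by simp
      map_mul' := by intro a b; simp }
  have hφ : ∀ g, φ g = e.symm g p P := fun g => rfl
  have key : ∀ g : G, ¬ (p : ℕ) ∣ orderOf g → e.symm g p P = 1 := by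
    intro g hg
    rw [← hφ]
    have h1 : orderOf (φ g) ∣ orderOf g := orderOf_map_dvd φ g
    obtain ⟨k, hk⟩ := P.2 (φ g)
    have h2 : orderOf (φ g) ∣ (p : ℕ) ^ k := orderOf_dvd_of_pow_eq_one hk
    have hcop : Nat.Coprime ((p : ℕ) ^ k) (orderOf g) :=
      Nat.Coprime.pow_left k ((Nat.Prime.coprime_iff_not_dvd hp).mpr hg)
    rw [← orderOf_eq_one_iff]
    exact Nat.eq_one_of_dvd_coprimes hcop h2 h1
  by_cases hpx : (p : ℕ) ∣ orderOf x
  · have hpy : ¬ (p : ℕ) ∣ orderOf y := by
      intro hpy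
      have := Nat.dvd_gcd hpx hpy
      rw [hxy.gcd_eq_one] at this
      exact hp.one_lt.ne' (Nat.dvd_one.mp this)
    rw [key y hpy, mul_one, one_mul]
  · rw [key x hpx, mul_one, one_mul]

/-- `p`-part / `p'`-part decomposition of an element of a finite group -/
theorem exists_decomp_p_pprime [Finite G] {p : ℕ} (hp : p.Prime) (g : G) :
    ∃ g₁ g₂ : G, g₁ ∈ Subgroup.zpowers g ∧ g₂ ∈ Subgroup.zpowers g ∧ g = g₁ * g₂ ∧
      (∃ a : ℕ, g₁ ^ p ^ a = 1) ∧ (orderOf g₂).Coprime p := by
  have hn : 0 < orderOf g := orderOf_pos g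
  obtain ⟨a, m, hm, hnm⟩ := Nat.exists_eq_pow_mul_and_not_dvd hn.ne' p hp.ne_one
  have hcop : Nat.Coprime (p ^ a) m :=
    Nat.Coprime.pow_left a ((Nat.Prime.coprime_iff_not_dvd hp).mpr hm)
  obtain ⟨u, v, huv⟩ := Nat.isCoprime_iff_coprime.mpr hcop
  have hpowz : g ^ (((p ^ a * m : ℕ)) : ℤ) = 1 := by
    rw [zpow_natCast, ← hnm]; exact pow_orderOf_eq_one g
  refine ⟨g ^ (v * ((m : ℕ) : ℤ)), g ^ (u * ((p ^ a : ℕ) : ℤ)),
    Subgroup.zpow_mem_zpowers g _, Subgroup.zpow_mem_zpowers g _, ?_, ⟨a, ?_⟩, ?_⟩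
  · rw [← zpow_add, add_comm, huv, zpow_one]
  · rw [← zpow_natCast, ← zpow_mul]
    have : v * ((m : ℕ) : ℤ) * ((p ^ a : ℕ) : ℤ) = ((p ^ a * m : ℕ) : ℤ) * v := by
      push_cast; ring
    rw [this, zpow_mul, hpowz, one_zpow]
  · have h1 : (g ^ (u * ((p ^ a : ℕ) : ℤ))) ^ m = 1 := by
      rw [← zpow_natCast, ← zpow_mul]
      have : u * ((p ^ a : ℕ) : ℤ) * ((m : ℕ) : ℤ) = ((p ^ a * m : ℕ) : ℤ) * u := by
        push_cast; ring
      rw [this, zpow_mul, hpowz, one_zpow]
    have h2 : orderOf (g ^ (u * ((p ^ a : ℕ) : ℤ))) ∣ m := orderOf_dvd_of_pow_eq_one h1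
    exact Nat.Coprime.coprime_dvd_left h2 ((Nat.Prime.coprime_iff_not_dvd hp).mpr hm).symm

/-- the subgroup generated by the `p'`-elements of `M` -/
def pPrimeClosure (p : ℕ) (M : Subgroup G) : Subgroup G :=
  Subgroup.closure {m : G | m ∈ M ∧ (orderOf m).Coprime p}

theorem pPrimeClosure_le (p : ℕ) (M : Subgroup G) : pPrimeClosure p M ≤ M := by
  rw [pPrimeClosure, Subgroup.closure_le]
  exact fun m hm => hm.1

theorem mem_pPrimeClosure (p : ℕ) (M : Subgroup G) {m : G} (hm : m ∈ M)
    (hmp : (orderOf m).Coprime p) : m ∈ pPrimeClosure p M :=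
  Subgroup.subset_closure ⟨hm, hmp⟩

theorem conj_mem_pPrimeClosure (p : ℕ) (M : Subgroup G) (k : G)
    (hk : ∀ m ∈ M, k * m * k⁻¹ ∈ M) : ∀ t ∈ pPrimeClosure p M, k * t * k⁻¹ ∈ pPrimeClosure p M := by
  intro t ht
  have hle : pPrimeClosure p M ≤ (pPrimeClosure p M).comap (MulAut.conj k).toMonoidHom := by
    refine (Subgroup.closure_le _).mpr ?_
    rintro m ⟨hm, hmp⟩
    rw [SetLike.mem_coe, Subgroup.mem_comap]
    change (MulAut.conj k) m ∈ pPrimeClosure p M
    rw [MulAut.conj_apply]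
    refine Subgroup.subset_closure ⟨hk m hm, ?_⟩
    have : orderOf (k * m * k⁻¹) = orderOf m := by
      have := orderOf_injective (MulAut.conj k).toMonoidHom (MulAut.conj k).injective m
      simpa [MulAut.conj_apply] using this
    rw [this]; exact hmp
  have := hle ht
  simpa [MulAut.conj_apply] using this

theorem le_normalizer_pPrimeClosure (p : ℕ) (M K : Subgroup G)
    (hK : K ≤ Subgroup.normalizer (M : Set G)) : K ≤ Subgroup.normalizer (pPrimeClosure p M : Set G) := by
  intro k hk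
  have h1 : ∀ k ∈ K, ∀ m ∈ M, k * m * k⁻¹ ∈ M := by
    intro k hk m hm
    exact (Subgroup.mem_normalizer_iff.mp (hK hk) m).mp hm
  rw [Subgroup.mem_normalizer_iff]
  intro t
  constructor
  · exact conj_mem_pPrimeClosure p M k (h1 k hk) t
  · intro ht
    have := conj_mem_pPrimeClosure p M k⁻¹ (h1 k⁻¹ (K.inv_mem hk)) _ ht
    simpa [mul_assoc] using this

/-- Sylow conjugation inside a subgroup `N`: a `p`-subgroup `A ≤ N` is conjugate under `N` into
a `p`-subgroup `B ≤ N` of index prime to `p` in `N`. -/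
theorem exists_conj_le_of_not_dvd_relIndex [Finite G] {p : ℕ} [Fact p.Prime] (N A B : Subgroup G)
    (hA : IsPGroup p A) (hB : IsPGroup p B) (hAN : A ≤ N)
    (hind : ¬ p ∣ B.relIndex N) : ∃ x ∈ N, ∀ a ∈ A, x * a * x⁻¹ ∈ B := by
  have hB' : IsPGroup p (B.subgroupOf N) := hB.comap_subtype
  have hA' : IsPGroup p (A.subgroupOf N) := hA.comap_subtype
  let SB : Sylow p N := hB'.toSylow hind
  obtain ⟨S, hS⟩ := hA'.exists_le_sylow
  obtain ⟨n, hn⟩ := MulAction.exists_smul_eq N S SB
  refine ⟨n, n.2, fun a ha => ?_⟩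
  have h1 : (⟨a, hAN ha⟩ : N) ∈ (S : Subgroup N) := hS (Subgroup.mem_subgroupOf.mpr ha)
  have h2 : n * ⟨a, hAN ha⟩ * n⁻¹ ∈ ((n • S : Sylow p N) : Subgroup N) := by
    rw [Sylow.coe_subgroup_smul]
    have := Subgroup.smul_mem_pointwise_smul _ (MulAut.conj n) (S : Subgroup N) h1
    simpa [MulAut.smul_def] using this
  rw [hn] at h2
  have h3 : n * ⟨a, hAN ha⟩ * n⁻¹ ∈ B.subgroupOf N := h2
  rw [Subgroup.mem_subgroupOf] at h3
  simpa using h3

/-- the main step in Wielandt's theorem -/
theorem wielandt_step [Finite G] (H K M : Subgroup G) (hHnil : Group.IsNilpotent H)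
    (hHall : (Nat.card H).Coprime H.index) {p : ℕ} [hp : Fact p.Prime] (hpH : p ∣ Nat.card H)
    (hMH : M ≤ H) (hMK : M ≤ K) (hMn : K ≤ Subgroup.normalizer (M : Set G))
    (hind : M.relIndex K = p) :
    ∃ y : G, ∀ k ∈ K, y * k * y⁻¹ ∈ H := by
  -- M nilpotent
  have hMnil : Group.IsNilpotent M := by
    haveI := hHnil
    exact Subgroup.isNilpotent_of_ker_le_center (Subgroup.inclusion hMH) (by
      rw [(MonoidHom.ker_eq_bot_iff _).mpr (Subgroup.inclusion_injective hMH)]; exact bot_le)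
  have h3M : ∀ (p : ℕ) (_ : Fact p.Prime) (P : Sylow p M), (P : Subgroup M).Normal :=
    ((Group.isNilpotent_of_finite_tfae (G := M)).out 0 3).mp hMnil
  -- Sylow p of M
  obtain ⟨SM⟩ : Nonempty (Sylow p M) := inferInstance
  set A : Subgroup G := (SM : Subgroup M).map M.subtype with hA
  have hAp : IsPGroup p A := SM.2.map _
  have hAK : A ≤ K := (Subgroup.map_subtype_le _).trans hMK
  -- Sylow p of K containing A
  obtain ⟨P', hP'⟩ := (hAp.comap_subtype (K := K)).exists_le_sylow
  set P : Subgroup G := (P' : Subgroup K).map K.subtype with hP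
  have hPp : IsPGroup p P := P'.2.map _
  have hPK : P ≤ K := Subgroup.map_subtype_le _
  have hAP : A ≤ P := by
    intro a ha
    exact Subgroup.mem_map.mpr ⟨⟨a, hAK ha⟩, hP' (Subgroup.mem_subgroupOf.mpr ha), rfl⟩
  set T := pPrimeClosure p M with hT
  -- M ≤ T ⊔ P
  have hMTP : M ≤ T ⊔ P := by
    intro m hm
    obtain ⟨m₁, m₂, hm₁, hm₂, hmm, ⟨a, hm₁p⟩, hm₂p⟩ := exists_decomp_p_pprime hp.1 m
    have hm₁M : m₁ ∈ M := (Subgroup.zpowers_le.mpr hm) hm₁
    have hm₂M : m₂ ∈ M := (Subgroup.zpowers_le.mpr hm) hm₂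
    have h1 : (⟨m₁, hm₁M⟩ : M) ∈ (SM : Subgroup M) :=
      mem_of_pow_eq_one_of_normal_sylow SM (h3M p hp SM) (l := a)
        (Subtype.ext (by simpa using hm₁p))
    have h2 : m₁ ∈ A := Subgroup.mem_map.mpr ⟨⟨m₁, hm₁M⟩, h1, rfl⟩
    rw [hmm]
    exact Subgroup.mul_mem _ ((le_sup_right : P ≤ T ⊔ P) (hAP h2))
      ((le_sup_left : T ≤ T ⊔ P) (mem_pPrimeClosure p M hm₂M hm₂p))
  -- K ≤ M ⊔ P
  have hKMP : K ≤ M ⊔ P := by
    have hle1 : M ≤ M ⊔ P := le_sup_left
    have hle2 : M ⊔ P ≤ K := sup_le hMK hPK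
    have hmul := Subgroup.relIndex_mul_relIndex _ _ _ hle1 hle2
    rw [hind] at hmul
    rcases (Nat.dvd_prime hp.1).mp (Dvd.intro_left _ hmul) with h | h
    · exact Subgroup.relIndex_eq_one.mp h
    · exfalso
      rw [h] at hmul
      have h1 : M.relIndex (M ⊔ P) = 1 :=
        Nat.eq_of_mul_eq_mul_right hp.1.pos (by rw [hmul, one_mul])
      have hPM : P ≤ M := le_trans le_sup_right (Subgroup.relIndex_eq_one.mp h1)
      have h2 := Subgroup.relIndex_mul_relIndex _ _ _ hPM hMK
      rw [hind] at h2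
      have h3 : P.relIndex K = (P' : Subgroup K).index := by
        rw [Subgroup.relIndex, hP]
        congr 1
        exact Subgroup.comap_map_eq_self_of_injective K.subtype_injective _
      exact P'.not_dvd_index (h3 ▸ Dvd.intro_left _ h2)
  -- K ≤ N := normalizer T
  have hKN : K ≤ Subgroup.normalizer (T : Set G) := le_normalizer_pPrimeClosure p M K hMn
  -- Sylow p of H
  obtain ⟨SH⟩ : Nonempty (Sylow p H) := inferInstance
  set B : Subgroup G := (SH : Subgroup H).map H.subtype with hB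
  have hBp : IsPGroup p B := SH.2.map _
  have hBH : B ≤ H := Subgroup.map_subtype_le _
  have hBcent : ∀ b ∈ B, ∀ t ∈ T, b * t = t * b := by
    intro b hb
    have hle : T ≤ Subgroup.centralizer {b} := by
      refine (Subgroup.closure_le _).mpr ?_
      rintro m ⟨hm, hmp⟩
      rw [SetLike.mem_coe, Subgroup.mem_centralizer_iff]
      intro c hc
      rw [Set.mem_singleton_iff] at hc
      subst hc
      obtain ⟨b', hb', rfl⟩ := Subgroup.mem_map.mp hb
      have hcop : (orderOf b').Coprime (orderOf (⟨m, hMH hm⟩ : H)) := by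
        obtain ⟨k, hk⟩ := SH.2 ⟨b', hb'⟩
        have h1 : orderOf b' ∣ p ^ k :=
          orderOf_dvd_of_pow_eq_one (by simpa using congrArg Subtype.val hk)
        have h2 : orderOf (⟨m, hMH hm⟩ : H) = orderOf m := Subgroup.orderOf_mk m _
        rw [h2]
        exact Nat.Coprime.coprime_dvd_left h1 (Nat.Coprime.pow_left k hmp.symm)
      have hcomm := commute_of_coprime_orderOf (G := H) hHnil hcop
      have := congrArg Subtype.val hcomm.eq
      simpa using this
    intro t ht
    have := hle ht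
    rw [Subgroup.mem_centralizer_iff] at this
    exact this b rfl
  have hBN : B ≤ Subgroup.normalizer (T : Set G) := by
    intro b hb
    rw [Subgroup.mem_normalizer_iff]
    intro t
    have hc : ∀ t ∈ T, b * t * b⁻¹ = t := fun t ht => by
      rw [hBcent b hb t ht, mul_inv_cancel_right]
    constructor
    · intro ht; rw [hc t ht]; exact ht
    · intro ht
      have := hc _ ht
      have h2 : b * t * b⁻¹ = t := mul_left_cancel (mul_right_cancel this)
      rw [← h2]; exact ht
  have hBind : ¬ p ∣ B.relIndex (Subgroup.normalizer (T : Set G)) := by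
    intro hd
    have h1 : B.relIndex (Subgroup.normalizer (T : Set G)) ∣ B.index :=
      Subgroup.relIndex_dvd_index_of_le hBN
    have h2 : B.index = (SH : Subgroup H).index * H.index := Subgroup.index_map_subtype _
    have h3 : p ∣ (SH : Subgroup H).index * H.index := h2 ▸ hd.trans h1
    rcases (Nat.Prime.dvd_mul hp.1).mp h3 with h | h
    · exact SH.not_dvd_index h
    · have := Nat.dvd_gcd hpH h
      rw [hHall.gcd_eq_one] at this
      exact hp.1.one_lt.ne' (Nat.dvd_one.mp this)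
  obtain ⟨x, hxN, hx⟩ := exists_conj_le_of_not_dvd_relIndex (Subgroup.normalizer (T : Set G)) P B
    hPp hBp (hPK.trans hKN) hBind
  refine ⟨x, fun k hk => ?_⟩
  have hle : T ⊔ P ≤ H.comap (MulAut.conj x).toMonoidHom := by
    refine sup_le ?_ ?_
    · intro t ht
      rw [Subgroup.mem_comap]
      change (MulAut.conj x) t ∈ H
      rw [MulAut.conj_apply]
      exact hMH (pPrimeClosure_le p M ((Subgroup.mem_normalizer_iff.mp hxN t).mp ht))
    · intro a ha
      rw [Subgroup.mem_comap]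
      change (MulAut.conj x) a ∈ H
      rw [MulAut.conj_apply]
      exact hBH (hx a ha)
  have hk' : k ∈ T ⊔ P := (sup_le hMTP le_sup_right) (hKMP hk)
  have := hle hk'
  rw [Subgroup.mem_comap] at this
  simpa [MulAut.conj_apply] using this

/-- Wielandt's theorem, elementwise form, by strong induction on the order of `K`. -/
theorem wielandt_aux [Finite G] : ∀ (n : ℕ) (H K : Subgroup G), Group.IsNilpotent H →
    (Nat.card H).Coprime H.index → (∀ p : ℕ, p.Prime → p ∣ Nat.card K → p ∣ Nat.card H) →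
    Nat.card K = n → ∃ y : G, ∀ k ∈ K, y * k * y⁻¹ ∈ H := by
  intro n
  induction n using Nat.strong_induction_on with
  | _ n ih =>
  intro H K hHnil hHall hKp hKn
  by_cases hKbot : K = ⊥
  · refine ⟨1, fun k hk => ?_⟩
    rw [hKbot, Subgroup.mem_bot] at hk
    subst hk
    simp
  have hprop : ∀ L : Subgroup G, L ≤ K → L ≠ K → ∃ y : G, ∀ l ∈ L, y * l * y⁻¹ ∈ H := by
    intro L hLK hne
    have hlt : Nat.card L < n := by
      rw [← hKn]
      exact lt_of_le_of_ne (Subgroup.card_le_of_le hLK)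
        (fun h => hne (Subgroup.eq_of_le_of_card_ge hLK h.ge))
    refine ih _ hlt H L hHnil hHall ?_ rfl
    intro q hq hqL
    exact hKp q hq (hqL.trans (Subgroup.card_dvd_of_le hLK))
  have hnilsub : ∀ L : Subgroup G, (∃ y : G, ∀ l ∈ L, y * l * y⁻¹ ∈ H) →
      Group.IsNilpotent L := by
    rintro L ⟨y, hy⟩
    let f : L →* H :=
      { toFun := fun l => ⟨y * l * y⁻¹, hy l l.2⟩
        map_one' := by ext; simp
        map_mul' := by intro a b; ext; simp [mul_assoc] }
    have hf : Function.Injective f := by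
      intro a b hab
      have h1 : y * (a : G) * y⁻¹ = y * (b : G) * y⁻¹ := congrArg Subtype.val hab
      exact Subtype.ext (mul_left_cancel (mul_right_cancel h1))
    haveI := hHnil
    exact Subgroup.isNilpotent_of_ker_le_center f (by
      rw [(MonoidHom.ker_eq_bot_iff f).mpr hf]; exact bot_le)
  haveI hKsol : Group.IsSolvable K := by
    apply Cfsg.Agent.S0046.result
    intro L hL
    have h1 : L.map K.subtype ≠ K := by
      intro h
      apply hL.1
      rw [eq_top_iff]
      intro k _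
      have hk : (k : G) ∈ L.map K.subtype := by rw [h]; exact k.2
      obtain ⟨l, hl, hlk⟩ := Subgroup.mem_map.mp hk
      have : l = k := Subtype.ext hlk
      rw [← this]; exact hl
    have h2 := hnilsub _ (hprop _ (Subgroup.map_subtype_le L) h1)
    exact (Group.isNilpotent_congr
      (Subgroup.equivMapOfInjective L K.subtype K.subtype_injective)).mpr h2
  haveI : Nontrivial K := (Subgroup.nontrivial_iff_ne_bot K).mpr hKbot
  obtain ⟨M₀, hM₀n, hM₀c, hM₀p⟩ := exists_normal_coatom_of_isSolvable (G := K)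
  set p := M₀.index with hp
  haveI : Fact p.Prime := ⟨hM₀p⟩
  set M : Subgroup G := M₀.map K.subtype with hM
  have hMK : M ≤ K := Subgroup.map_subtype_le _
  have hMsub : M.subgroupOf K = M₀ :=
    Subgroup.comap_map_eq_self_of_injective K.subtype_injective M₀
  have hMne : M ≠ K := by
    intro h
    apply hM₀c.1
    rw [← hMsub, h]; exact Subgroup.subgroupOf_self K
  have hMnorm : K ≤ Subgroup.normalizer (M : Set G) := by
    rw [← Subgroup.normal_subgroupOf_iff_le_normalizer hMK, hMsub]; exact hM₀n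
  have hind : M.relIndex K = p := by rw [Subgroup.relIndex, hMsub]
  obtain ⟨g, hg⟩ := hprop M hMK hMne
  set H' : Subgroup G := H.map (MulAut.conj g⁻¹).toMonoidHom with hH'
  have hMH' : M ≤ H' := by
    intro m hm
    refine Subgroup.mem_map.mpr ⟨g * m * g⁻¹, hg m hm, ?_⟩
    simp [mul_assoc]
  have hH'nil : Group.IsNilpotent H' :=
    (Group.isNilpotent_congr
      (Subgroup.equivMapOfInjective H _ (MulAut.conj g⁻¹).injective)).mp hHnil
  have hcard : Nat.card H' = Nat.card H :=
    Subgroup.card_map_of_injective (MulAut.conj g⁻¹).injective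
  have hindex : H'.index = H.index := Subgroup.index_map_equiv H (MulAut.conj g⁻¹)
  have hH'Hall : (Nat.card H').Coprime H'.index := by rw [hcard, hindex]; exact hHall
  have hpH' : p ∣ Nat.card H' := by
    rw [hcard]
    apply hKp p hM₀p
    rw [hp]; exact Subgroup.index_dvd_card M₀
  obtain ⟨y, hy⟩ := wielandt_step H' K M hH'nil hH'Hall hpH' hMH' hMK hMnorm hind
  refine ⟨g * y, fun k hk => ?_⟩
  obtain ⟨h, hh, hhk⟩ := Subgroup.mem_map.mp (hy k hk)
  have e : (MulAut.conj g⁻¹) h = y * k * y⁻¹ := hhk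
  rw [MulAut.conj_apply] at e
  have : g * y * k * (g * y)⁻¹ = h := by
    rw [mul_inv_rev]
    calc g * y * k * (y⁻¹ * g⁻¹) = g * (y * k * y⁻¹) * g⁻¹ := by group
      _ = g * (g⁻¹ * h * g⁻¹⁻¹) * g⁻¹ := by rw [e]
      _ = h := by group
  rw [this]; exact hh

end Cfsg.Agent.Lib.Helper96
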