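import Cfsg.Agent.Lib.Helper47.FLDefs

set_option autoImplicit false

/-! # FL hive (S2863), leaf FL-CORETRIV: the core, with `core_split` as a hypothesis. -/

namespace Cfsg.Agent.Lib.Helper47.FL

open Cfsg

section core

variable {H : Type*} [Group H]

theorem coretriv_conj_central {c : H} (hc : c ∈ Subgroup.center H) (x : H) :
    x * c * x⁻¹ = c := by
  have h1 : x * c = c * x := Subgroup.mem_center_iff.mp hc x
  rw [h1, mul_assoc, mul_inv_cancel, mul_one]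

/-- `{x | [x, w] ∈ C}` is a subgroup when `C` is central. -/
def coretriv_sub (C : Subgroup H) (hC : C ≤ Subgroup.center H) (w : H) : Subgroup H where
  carrier := {x | x * w * x⁻¹ * w⁻¹ ∈ C}
  one_mem' := by
    show (1 : H) * w * (1 : H)⁻¹ * w⁻¹ ∈ C
    have : (1 : H) * w * (1 : H)⁻¹ * w⁻¹ = 1 := by group
    rw [this]
    exact C.one_mem
  mul_mem' := by
    intro x y hx hy
    show (x * y) * w * (x * y)⁻¹ * w⁻¹ ∈ C
    have hx' : x * w * x⁻¹ * w⁻¹ ∈ C := hx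
    have hy' : y * w * y⁻¹ * w⁻¹ ∈ C := hy
    have e : (x * y) * w * (x * y)⁻¹ * w⁻¹
        = (x * (y * w * y⁻¹ * w⁻¹) * x⁻¹) * (x * w * x⁻¹ * w⁻¹) := by group
    rw [e, coretriv_conj_central (hC hy') x]
    exact C.mul_mem hy' hx'
  inv_mem' := by
    intro x hx
    show x⁻¹ * w * x⁻¹⁻¹ * w⁻¹ ∈ C
    have hx' : x * w * x⁻¹ * w⁻¹ ∈ C := hx
    have e : x⁻¹ * w * x⁻¹⁻¹ * w⁻¹ = x⁻¹ * (x * w * x⁻¹ * w⁻¹)⁻¹ * x⁻¹⁻¹ := by group
    rw [e, coretriv_conj_central (hC (C.inv_mem hx')) x⁻¹]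
    exact C.inv_mem hx'

theorem coretriv_mem_sub {C : Subgroup H} {hC : C ≤ Subgroup.center H} {w x : H} :
    x ∈ coretriv_sub C hC w ↔ x * w * x⁻¹ * w⁻¹ ∈ C := Iff.rfl

/-- if all commutators `[x, w]` are central and `w` commutes with a subgroup `K` whose normal
closure is everything, then `w` is central. -/
theorem coretriv_central {w : H} (hall : ∀ x : H, x * w * x⁻¹ * w⁻¹ ∈ Subgroup.center H)
    (K : Subgroup H) (hK : Subgroup.normalClosure (K : Set H) = ⊤)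
    (hKw : ∀ x ∈ K, x * w = w * x) : w ∈ Subgroup.center H := by
  have hmul : ∀ x y : H, (x * y) * w * (x * y)⁻¹ * w⁻¹
      = (x * w * x⁻¹ * w⁻¹) * (y * w * y⁻¹ * w⁻¹) := by
    intro x y
    have e : (x * y) * w * (x * y)⁻¹ * w⁻¹
        = (x * (y * w * y⁻¹ * w⁻¹) * x⁻¹) * (x * w * x⁻¹ * w⁻¹) := by group
    rw [e, coretriv_conj_central (hall y) x]
    exact Subgroup.mem_center_iff.mp (hall y) _ |>.symm
  let φ : H →* H := MonoidHom.mk' (fun x => x * w * x⁻¹ * w⁻¹) hmul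
  have hφ : ∀ x, φ x = x * w * x⁻¹ * w⁻¹ := fun _ => rfl
  have hKker : (K : Set H) ⊆ (φ.ker : Set H) := by
    intro x hx
    have hx' : x ∈ K := hx
    show x ∈ φ.ker
    rw [MonoidHom.mem_ker, hφ, hKw x hx', mul_assoc w x, mul_inv_cancel, mul_one,
      mul_inv_cancel]
  have hle : Subgroup.normalClosure (K : Set H) ≤ φ.ker := Subgroup.normalClosure_le_normal hKker
  rw [hK] at hle
  rw [Subgroup.mem_center_iff]
  intro x
  have hx : φ x = 1 := MonoidHom.mem_ker.mp (hle (Subgroup.mem_top x))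
  rw [hφ] at hx
  have h2 : x * w = (x * w * x⁻¹ * w⁻¹) * (w * x) := by group
  rw [h2, hx, one_mul]

variable {Y A : Subgroup H}

theorem coretriv_exists_not_mem (h : CoreSetup Y A) :
    ∃ g : H, g ∉ Subgroup.normalizer (Y : Set H) := by
  by_contra hcon
  exact h.nne ((Subgroup.eq_top_iff' _).mpr
    (fun x => by_contra (fun hx => hcon ⟨x, hx⟩)))

theorem coretriv_cj_comm (h : CoreSetup Y A) (g : H) {x z : H} (hx : x ∈ cj g Y)
    (hz : z ∈ cj g Y) : x * z = z * x := by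
  obtain ⟨y, hy, rfl⟩ := mem_cj.mp hx
  obtain ⟨y', hy', rfl⟩ := mem_cj.mp hz
  have hc : y * y' = y' * y := h.comm y hy y' hy'
  have e1 : g * y * g⁻¹ * (g * y' * g⁻¹) = g * (y * y') * g⁻¹ := by group
  have e2 : g * y' * g⁻¹ * (g * y * g⁻¹) = g * (y' * y) * g⁻¹ := by group
  rw [e1, e2, hc]

theorem coretriv_normalClosure_cj (h : CoreSetup Y A) (g : H) :
    Subgroup.normalClosure ((cj g Y : Subgroup H) : Set H) = ⊤ := by
  rw [eq_top_iff, ← h.ycl]
  apply Subgroup.normalClosure_le_normal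
  intro y hy
  have hy' : y ∈ Y := hy
  have h1 : g * y * g⁻¹ ∈ Subgroup.normalClosure ((cj g Y : Subgroup H) : Set H) :=
    Subgroup.subset_normalClosure (conj_mem_cj hy')
  have h2 := (Subgroup.normalClosure_normal (s := ((cj g Y : Subgroup H) : Set H))).conj_mem _ h1 g⁻¹
  have e : g⁻¹ * (g * y * g⁻¹) * g⁻¹⁻¹ = y := by group
  rw [e] at h2
  exact h2

/-- FL-CORETRIV with `core_split` as a hypothesis. -/
theorem coretriv_core (h : CoreSetup Y A)
    (hsplit : ∀ g : H, g ∉ Subgroup.normalizer (Y : Set H) → ∀ a ∈ A,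
      ∃ w ∈ Y ⊓ A, ∃ w' ∈ cj g Y ⊓ A, a = w * w')
    {a : H} (ha : a ∈ A)
    (hfix : ∀ x : H, x * a * x⁻¹ * a⁻¹ ∈ Y ⊓ Subgroup.center H) :
    a ∈ Y ⊓ Subgroup.center H := by
  obtain ⟨g, hg⟩ := coretriv_exists_not_mem h
  obtain ⟨w, hw, w', hw', rfl⟩ := hsplit g hg a ha
  have hC : Y ⊓ Subgroup.center H ≤ Subgroup.center H := inf_le_right
  have hwY : w ∈ Y := hw.1
  have hw'Y : w' ∈ cj g Y := hw'.1
  -- Step 1: `[x, w'] ∈ C` for `x ∈ Y`
  have step1 : ∀ x ∈ Y, x * w' * x⁻¹ * w'⁻¹ ∈ Y ⊓ Subgroup.center H := by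
    intro x hx
    have hxw : x * w = w * x := h.comm x hx w hwY
    have e1 : w⁻¹ * x * w = x := by
      rw [mul_assoc, hxw, ← mul_assoc, inv_mul_cancel, one_mul]
    have e : x * w' * x⁻¹ * w'⁻¹ = w⁻¹ * (x * (w * w') * x⁻¹ * (w * w')⁻¹) * w⁻¹⁻¹ := by
      have e2 : w⁻¹ * (x * (w * w') * x⁻¹ * (w * w')⁻¹) * w⁻¹⁻¹
          = (w⁻¹ * x * w) * w' * x⁻¹ * w'⁻¹ := by group
      rw [e2, e1]
    rw [e, coretriv_conj_central (hC (hfix x)) w⁻¹]
    exact hfix x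
  -- Step 2: `[x, w'] = 1` for `x ∈ Y^g`
  have step2 : ∀ x ∈ cj g Y, x * w' * x⁻¹ * w'⁻¹ ∈ Y ⊓ Subgroup.center H := by
    intro x hx
    have hxw : x * w' = w' * x := coretriv_cj_comm h g hx hw'Y
    have e : x * w' * x⁻¹ * w'⁻¹ = 1 := by
      rw [hxw, mul_assoc w' x, mul_inv_cancel, mul_one, mul_inv_cancel]
    rw [e]
    exact Subgroup.one_mem _
  -- Step 3: `[x, w'] ∈ C` for all `x`
  have step3 : ∀ x : H, x * w' * x⁻¹ * w'⁻¹ ∈ Y ⊓ Subgroup.center H := by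
    intro x
    have hle : (⊤ : Subgroup H) ≤ coretriv_sub (Y ⊓ Subgroup.center H) hC w' := by
      rw [← h.opp g hg]
      exact sup_le (fun x hx => step1 x hx) (fun x hx => step2 x hx)
    exact hle (Subgroup.mem_top x)
  -- Step 4: `[x, w] ∈ C` for all `x`
  have step4 : ∀ x : H, x * w * x⁻¹ * w⁻¹ ∈ Y ⊓ Subgroup.center H := by
    intro x
    have e : x * w * x⁻¹ * w⁻¹
        = (x * (w * w') * x⁻¹ * (w * w')⁻¹) * (w * (x * w' * x⁻¹ * w'⁻¹) * w⁻¹)⁻¹ := by group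
    rw [e, coretriv_conj_central (hC (step3 x)) w]
    exact Subgroup.mul_mem _ (hfix x) (Subgroup.inv_mem _ (step3 x))
  -- Step 5: `w` and `w'` are central
  have hwc : w ∈ Subgroup.center H :=
    coretriv_central (fun x => hC (step4 x)) Y h.ycl (fun x hx => h.comm x hx w hwY)
  have hw'c : w' ∈ Subgroup.center H :=
    coretriv_central (fun x => hC (step3 x)) (cj g Y) (coretriv_normalClosure_cj h g)
      (fun x hx => coretriv_cj_comm h g hx hw'Y)
  have hw'Y2 : w' ∈ Y := by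
    have h1 : g⁻¹ * w' * g ∈ Y := mem_cj_iff.mp hw'Y
    have h2 := coretriv_conj_central hw'c g⁻¹
    rw [inv_inv] at h2
    rwa [h2] at h1
  exact ⟨Y.mul_mem hwY hw'Y2, Subgroup.mul_mem _ hwc hw'c⟩

end core

end Cfsg.Agent.Lib.Helper47.FL
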