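import Mathlib
import Cfsg.Agent.Lib.Helper2.Frobenius
import Cfsg.Agent.Lib.Helper2.PComplement
import Cfsg.Agent.Lib.Helper2.PResidual
import Cfsg.Agent.Lib.Helper10.ThompsonIn
import Cfsg.Agent.Lib.Helper24.SylowInv
import Cfsg.Agent.Lib.Helper96.Wielandt
import Cfsg.Agent.Lib.Helper96.Schmidt3
import Cfsg.Agent.S0602

set_option autoImplicit false

/-! Thompson: a finite group with a nilpotent maximal subgroup of odd order is solvable
(given Thompson's normal `p`-complement theorem as a hypothesis). -/

namespace Cfsg.Agent.Lib.Helper96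

open Subgroup

/-- image of a coatom containing the kernel under the quotient map is a coatom -/
theorem isCoatom_map_mk' {G : Type*} [Group G] (N : Subgroup G) [N.Normal] {M : Subgroup G}
    (hM : IsCoatom M) (hNM : N ≤ M) : IsCoatom (M.map (QuotientGroup.mk' N)) := by
  set π := QuotientGroup.mk' N with hπ
  have hπs : Function.Surjective π := QuotientGroup.mk'_surjective N
  have hker : π.ker = N := QuotientGroup.ker_mk' N
  have hcomap : (M.map π).comap π = M := by
    rw [comap_map_eq, hker, sup_eq_left.mpr hNM]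
  refine ⟨?_, ?_⟩
  · intro h
    rw [h, comap_top] at hcomap
    exact hM.1 hcomap.symm
  · intro K hK
    have h1 : M ≤ K.comap π := by
      rw [← hcomap]; exact comap_mono hK.le
    have h2 : K.comap π ≠ M := by
      intro h
      have : K = M.map π := by
        rw [← h, map_comap_eq_self_of_surjective hπs]
      exact hK.ne' this
    have h3 : K.comap π = ⊤ := hM.2 _ (lt_of_le_of_ne h1 (Ne.symm h2))
    rw [← map_comap_eq_self_of_surjective hπs K, h3, ← MonoidHom.range_eq_map,
      MonoidHom.range_eq_top.mpr hπs]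

/-- a finite nilpotent group has a normal `p`-complement -/
theorem hasNormalPComplement_of_isNilpotent {M : Type*} [Group M] [Finite M]
    (hn : Group.IsNilpotent M) (p : ℕ) [Fact p.Prime] : Cfsg.HasNormalPComplement p M := by
  have hF : Cfsg.Agent.Lib.Helper2.FrobCond p M := by
    intro Q hQ g _ hg
    rw [mem_centralizer_iff]
    intro h hh
    obtain ⟨k, hk⟩ := (IsPGroup.iff_orderOf.mp hQ) ⟨h, hh⟩
    have hoh : orderOf h = p ^ k := by rw [← hk]; exact (Subgroup.orderOf_mk h hh).symm
    have hcop : (orderOf h).Coprime (orderOf g) := by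
      rw [hoh]; exact Nat.Coprime.pow_left k hg.symm
    exact (commute_of_coprime_orderOf hn hcop).eq
  have h1 := Cfsg.Agent.Lib.Helper2.not_dvd_card_pResidual_of_frobCond (p := p) (Nat.card M) M rfl hF
  let P : Sylow p M := default
  exact (Cfsg.Agent.Lib.Helper2.hasNormalPComplement_iff P).mpr
    ((Cfsg.Agent.Lib.Helper2.exists_normal_complement_iff_not_dvd_card_pResidual P).mpr h1)

theorem isSolvable_of_nilpotent_odd_coatom.{u}
    (hS : ∀ (H : Type u) [Group H] [Finite H] (p : ℕ) [Fact p.Prime], p ≠ 2 → ∀ P : Sylow p H,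
      Cfsg.HasNormalPComplement p
        (normalizer (Cfsg.thompsonSubgroupOf p (P : Subgroup H) : Set H)) →
      Cfsg.HasNormalPComplement p
        (centralizer (((P : Subgroup H) ⊓ centralizer (P : Set H) : Subgroup H) : Set H)) →
      Cfsg.HasNormalPComplement p H) :
    ∀ (n : ℕ) (G : Type u) [Group G] [Finite G], Nat.card G = n → ∀ M : Subgroup G, IsCoatom M →
      Group.IsNilpotent M → Odd (Nat.card M) → Group.IsSolvable G := by
  intro n
  induction n using Nat.strong_induction_on with
  | _ n ih =>
  intro G _ _ hn M hM hnil hodd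
  by_cases hN : ∃ Q : Subgroup G, Q.Normal ∧ Q ≠ ⊥ ∧ Q ≤ M
  · obtain ⟨Q, hQn, hQne, hQM⟩ := hN
    haveI := hQn
    set π := QuotientGroup.mk' Q with hπ
    have hco := isCoatom_map_mk' Q hM hQM
    have hsurj : Function.Surjective (π.subgroupMap M) := π.subgroupMap_surjective M
    have hnil' : Group.IsNilpotent (M.map π) := by
      haveI := hnil
      exact Group.nilpotent_of_surjective _ hsurj
    have hodd' : Odd (Nat.card (M.map π)) := by
      have := Subgroup.card_dvd_of_surjective _ hsurj
      exact Odd.of_dvd_nat hodd this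
    have hlt : Nat.card (G ⧸ Q) < n := by
      rw [← hn, Subgroup.card_eq_card_quotient_mul_card_subgroup Q]
      have h1 : 1 < Nat.card Q := (Subgroup.one_lt_card_iff_ne_bot Q).mpr hQne
      have h0 : 0 < Nat.card (G ⧸ Q) := Nat.card_pos
      nlinarith
    haveI : Group.IsSolvable (G ⧸ Q) := ih _ hlt (G ⧸ Q) rfl _ hco hnil' hodd'
    haveI : Group.IsSolvable Q := by
      haveI : Group.IsSolvable M := by haveI := hnil; infer_instance
      exact Group.isSolvable_of_isSolvable_injective (Subgroup.inclusion_injective hQM)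
    exact Group.isSolvable_of_ker_le_range Q.subtype π
      (by rw [QuotientGroup.ker_mk', Subgroup.range_subtype])
  push Not at hN
  by_cases hMbot : M = ⊥
  · subst hMbot
    have : ∃ g : G, g ≠ 1 := by
      by_contra h
      push Not at h
      apply hM.1
      ext x
      simp [h x]
    obtain ⟨g, hg⟩ := this
    have hz : zpowers g = ⊤ := hM.2 _ (bot_lt_iff_ne_bot.mpr (by rwa [Ne, zpowers_eq_bot]))
    apply Group.isSolvable_of_comm
    intro a b
    have ha : a ∈ zpowers g := hz ▸ mem_top a
    have hb : b ∈ zpowers g := hz ▸ mem_top b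
    obtain ⟨i, rfl⟩ := mem_zpowers_iff.mp ha
    obtain ⟨j, rfl⟩ := mem_zpowers_iff.mp hb
    exact (Commute.zpow_zpow_self g i j).eq
  -- Step A : normal p-complements
  have hstepA : ∀ p : ℕ, p.Prime → p ∣ Nat.card M → Cfsg.HasNormalPComplement p G := by
    intro p hp hpM
    haveI := Fact.mk hp
    have hp2 : p ≠ 2 := by
      rintro rfl
      exact (Nat.not_even_iff_odd.mpr hodd) (even_iff_two_dvd.mpr hpM)
    have h3 : ∀ (q : ℕ) (_ : Fact q.Prime) (Q : Sylow q M), (Q : Subgroup M).Normal :=
      ((Group.isNilpotent_of_finite_tfae (G := M)).out 0 3).mp hnil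
    let P₀ : Sylow p M := default
    have hP₀n : (P₀ : Subgroup M).Normal := h3 p inferInstance P₀
    set PG : Subgroup G := (P₀ : Subgroup M).map M.subtype with hPG
    have hPGM : PG ≤ M := map_subtype_le _
    have hPGp : IsPGroup p PG := P₀.2.map _
    have hPGne : PG ≠ ⊥ := by
      rw [Ne, map_eq_bot_iff_of_injective _ M.subtype_injective]
      exact P₀.ne_bot_of_dvd_card hpM
    have hMN : M ≤ normalizer (PG : Set G) := by
      have := le_normalizer_map (H := (P₀ : Subgroup M)) M.subtype
      rw [normalizer_eq_top_iff.mpr hP₀n, ← MonoidHom.range_eq_map, range_subtype] at this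
      exact this
    have hNPG : normalizer (PG : Set G) = M := by
      refine ((hM.le_iff_eq ?_).mp hMN)
      intro htop
      exact hN PG (normalizer_eq_top_iff.mp htop) hPGne hPGM
    obtain ⟨P, hP⟩ := hPGp.exists_le_sylow
    have hPeq : (P : Subgroup G) = PG := by
      by_contra hne
      have hlt : PG.subgroupOf P < ⊤ := by
        rw [lt_top_iff_ne_top, Ne, subgroupOf_eq_top]
        intro h
        exact hne (le_antisymm h hP)
      haveI : Group.IsNilpotent (P : Subgroup G) := P.2.isNilpotent
      have hnc := normalizerCondition_of_isNilpotent (G := (P : Subgroup G)) _ hlt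
      obtain ⟨u, hu1, hu2⟩ := SetLike.exists_of_lt hnc
      rw [← subgroupOf_normalizer_eq hP, mem_subgroupOf, hNPG] at hu1
      obtain ⟨k, hk⟩ := P.2 u
      have hk' : ((⟨(u : G), hu1⟩ : M)) ^ p ^ k = 1 :=
        Subtype.ext (by simpa using congrArg Subtype.val hk)
      have := mem_of_pow_eq_one_of_normal_sylow P₀ hP₀n hk'
      apply hu2
      rw [mem_subgroupOf]
      exact ⟨_, this, rfl⟩
    have hPM : (P : Subgroup G) ≤ M := hPeq ▸ hPGM
    have hNP : normalizer ((P : Subgroup G) : Set G) = M := by rw [hPeq]; exact hNPG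
    set J := Cfsg.thompsonSubgroupOf p (P : Subgroup G) with hJ
    have hJP : J ≤ P := Cfsg.Agent.Lib.Helper10.thompsonSubgroupOf_le_self p _
    have hPne : (P : Subgroup G) ≠ ⊥ := hPeq ▸ hPGne
    have hJne : J ≠ ⊥ := by
      have hdvd : p ∣ Nat.card (P : Subgroup G) := by
        rcases P.2.card_eq_or_dvd with h | h
        · exact absurd ((Subgroup.card_eq_one).mp h) hPne
        · exact h
      have := (Cfsg.Agent.S0602.result (G := (P : Subgroup G)) (p := p)).2 hdvd
      rw [hJ, Cfsg.thompsonSubgroupOf, Ne, map_eq_bot_iff_of_injective _ (subtype_injective _)]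
      exact this
    have hMNJ : M ≤ normalizer (J : Set G) := by
      intro m hm
      apply mem_normalizer_fintype
      intro j hj
      have hmN : m ∈ normalizer ((P : Subgroup G) : Set G) := hNP ▸ hm
      have hmP : (P : Subgroup G).map (MulAut.conj m).toMonoidHom = P := by
        ext x
        constructor
        · rintro ⟨y, hy, rfl⟩
          exact (mem_normalizer_iff.mp hmN y).mp hy
        · intro hx
          refine ⟨m⁻¹ * x * m, ?_, ?_⟩
          · have := (mem_normalizer_iff.mp (inv_mem hmN) x).mp hx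
            rw [inv_inv] at this
            exact this
          · simp only [MulEquiv.coe_toMonoidHom, MulAut.conj_apply]
            group
      have hJm := Cfsg.Agent.Lib.Helper10.map_thompsonSubgroupOf p (P : Subgroup G) (MulAut.conj m)
      rw [hmP] at hJm
      have hmem : (MulAut.conj m) j ∈ J.map (MulAut.conj m).toMonoidHom := ⟨j, hj, rfl⟩
      rw [hJ, hJm] at hmem
      simpa [MulAut.conj_apply] using hmem
    have hNJ : normalizer (J : Set G) = M := by
      refine (hM.le_iff_eq ?_).mp hMNJ
      intro htop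
      exact hN J (normalizer_eq_top_iff.mp htop) hJne (hJP.trans hPM)
    set ZP : Subgroup G := (P : Subgroup G) ⊓ centralizer ((P : Subgroup G) : Set G) with hZP
    have hZPne : ZP ≠ ⊥ := by
      haveI : Nontrivial (P : Subgroup G) := (nontrivial_iff_ne_bot _).mpr hPne
      haveI := P.2.center_nontrivial
      obtain ⟨z, hz⟩ := exists_ne (1 : center (P : Subgroup G))
      intro hbot
      have hmem : ((z : (P : Subgroup G)) : G) ∈ ZP := by
        refine mem_inf.mpr ⟨(z : (P : Subgroup G)).2, ?_⟩
        rw [mem_centralizer_iff]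
        intro h hh
        have := mem_center_iff.mp z.2 ⟨h, hh⟩
        exact congrArg Subtype.val this
      rw [hbot, mem_bot] at hmem
      apply hz
      apply Subtype.ext
      apply Subtype.ext
      exact hmem
    have hMCZ : M ≤ centralizer (ZP : Set G) := by
      intro m hm
      rw [mem_centralizer_iff]
      intro z hz
      obtain ⟨hzP, hzC⟩ := mem_inf.mp hz
      obtain ⟨m₁, m₂, hm₁, hm₂, hm12, ⟨a, hm₁p⟩, hm₂p⟩ := exists_decomp_p_pprime hp m
      have hm₁M : m₁ ∈ M := (zpowers_le.mpr hm) hm₁
      have hm₂M : m₂ ∈ M := (zpowers_le.mpr hm) hm₂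
      have hm₁P : m₁ ∈ (P : Subgroup G) := by
        rw [hPeq]
        have h' : ((⟨m₁, hm₁M⟩ : M)) ^ p ^ a = 1 := Subtype.ext (by simpa using hm₁p)
        exact ⟨_, mem_of_pow_eq_one_of_normal_sylow P₀ hP₀n h', rfl⟩
      have h1 : m₁ * z = z * m₁ := mem_centralizer_iff.mp hzC m₁ hm₁P
      have hzM : z ∈ M := hPM hzP
      obtain ⟨k, hk⟩ := (IsPGroup.iff_orderOf.mp P.2) ⟨z, hzP⟩
      have hoz : orderOf z = p ^ k := by rw [← hk]; exact (Subgroup.orderOf_mk z hzP).symm
      have hcop : (orderOf (⟨m₂, hm₂M⟩ : M)).Coprime (orderOf (⟨z, hzM⟩ : M)) := by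
        rw [Subgroup.orderOf_mk, Subgroup.orderOf_mk, hoz]
        exact Nat.Coprime.pow_right k hm₂p
      have h2 := congrArg Subtype.val (commute_of_coprime_orderOf hnil hcop).eq
      simp only [Subgroup.coe_mul] at h2
      rw [hm12, ← mul_assoc, ← h1, mul_assoc, ← h2, mul_assoc]
    have hCZ : centralizer (ZP : Set G) = M := by
      refine (hM.le_iff_eq ?_).mp hMCZ
      intro htop
      have hZn : ZP.Normal := by
        refine ⟨fun z hz g => ?_⟩
        have hg : g ∈ centralizer (ZP : Set G) := htop ▸ mem_top g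
        have h := mem_centralizer_iff.mp hg z hz
        have : g * z * g⁻¹ = z := by rw [← h]; group
        rw [this]; exact hz
      exact hN ZP hZn hZPne (inf_le_left.trans hPM)
    have hMc : Cfsg.HasNormalPComplement p M := hasNormalPComplement_of_isNilpotent hnil p
    apply hS G p hp2 P
    · rw [hNJ]
      exact hMc
    · show Cfsg.HasNormalPComplement p ↥(centralizer (ZP : Set G))
      rw [hCZ]; exact hMc
  -- Step B : the normal complement K
  set S := (Nat.card M).primeFactors with hSdef
  have hRn : ∀ p : ℕ, (Cfsg.pResidual p G).Normal :=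
    fun p => Cfsg.Agent.Lib.Helper2.pResidual_normal p
  have hRcard : ∀ p ∈ S, ¬ p ∣ Nat.card (Cfsg.pResidual p G) := by
    intro p hpS
    have hp := Nat.prime_of_mem_primeFactors hpS
    have hpM := Nat.dvd_of_mem_primeFactors hpS
    haveI := Fact.mk hp
    have h := hstepA p hp hpM
    let P : Sylow p G := default
    exact (Cfsg.Agent.Lib.Helper2.exists_normal_complement_iff_not_dvd_card_pResidual P).mp
      ((Cfsg.Agent.Lib.Helper2.hasNormalPComplement_iff P).mp h)
  set K : Subgroup G := ⨅ p ∈ S, Cfsg.pResidual p G with hK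
  have hKn : K.Normal := normal_iInf_normal (fun p => normal_iInf_normal (fun _ => hRn p))
  have hKM : ∀ m ∈ M, m ∈ K → m = 1 := by
    intro m hmM hmK
    by_contra hm1
    have ho : orderOf m ≠ 1 := by rwa [Ne, orderOf_eq_one_iff]
    obtain ⟨p, hp, hpo⟩ := Nat.exists_prime_and_dvd ho
    have hpM : p ∣ Nat.card M := hpo.trans (M.orderOf_dvd_natCard hmM)
    have hpS : p ∈ S := Nat.mem_primeFactors.mpr ⟨hp, hpM, Nat.card_pos.ne'⟩
    have hmR : m ∈ Cfsg.pResidual p G := by
      have := mem_iInf.mp hmK p
      exact mem_iInf.mp this hpS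
    exact hRcard p hpS (hpo.trans ((Cfsg.pResidual p G).orderOf_dvd_natCard hmR))
  have hderiv : ∀ p : ℕ, p.Prime → ∃ k : ℕ, derivedSeries G k ≤ Cfsg.pResidual p G := by
    intro p hp
    haveI := Fact.mk hp
    haveI := hRn p
    have hpg : IsPGroup p (G ⧸ Cfsg.pResidual p G) :=
      Cfsg.Agent.Lib.Helper2.isPGroup_quotient_pResidual p
    haveI : Group.IsNilpotent (G ⧸ Cfsg.pResidual p G) := hpg.isNilpotent
    obtain ⟨k, hk⟩ := (Group.isSolvable_def _).mp
      (inferInstance : Group.IsSolvable (G ⧸ Cfsg.pResidual p G))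
    refine ⟨k, fun x hx => ?_⟩
    have h1 := map_derivedSeries_le_derivedSeries (QuotientGroup.mk' (Cfsg.pResidual p G)) k
      (mem_map_of_mem _ hx)
    rw [hk, mem_bot] at h1
    exact (QuotientGroup.eq_one_iff x).mp h1
  choose! f hf using hderiv
  have hGK : derivedSeries G (∑ p ∈ S, f p) ≤ K := by
    rw [hK]
    refine le_iInf (fun p => le_iInf (fun hpS => ?_))
    exact le_trans (derivedSeries_antitone G
      (Finset.single_le_sum (fun _ _ => Nat.zero_le _) hpS))
      (hf p (Nat.prime_of_mem_primeFactors hpS))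
  haveI := hKn
  haveI : Group.IsSolvable (G ⧸ K) := by
    rw [Group.isSolvable_def]
    refine ⟨∑ p ∈ S, f p, ?_⟩
    rw [eq_bot_iff]
    refine le_trans (derivedSeries_le_map_derivedSeries (QuotientGroup.mk'_surjective K) _) ?_
    rw [map_le_iff_le_comap, MonoidHom.comap_bot, QuotientGroup.ker_mk']
    exact hGK
  haveI : Group.IsSolvable K := by
    by_cases hKbot : K = ⊥
    · rw [hKbot]; infer_instance
    have hK1 : Nat.card K ≠ 1 := fun h => hKbot (Subgroup.card_eq_one.mp h)
    obtain ⟨r, hr, hrK⟩ := Nat.exists_prime_and_dvd hK1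
    haveI := Fact.mk hr
    have hcop : (Nat.card M).Coprime (Nat.card K) := by
      by_contra hnc
      obtain ⟨p, hp, hpM, hpK⟩ := Nat.Prime.not_coprime_iff_dvd.mp hnc
      haveI := Fact.mk hp
      have hpS : p ∈ S := Nat.mem_primeFactors.mpr ⟨hp, hpM, Nat.card_pos.ne'⟩
      obtain ⟨k, hk⟩ := exists_prime_orderOf_dvd_card' p hpK
      have hkR : (k : G) ∈ Cfsg.pResidual p G := by
        have := mem_iInf.mp k.2 p
        exact mem_iInf.mp this hpS
      apply hRcard p hpS
      have h := (Cfsg.pResidual p G).orderOf_dvd_natCard hkR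
      rwa [Subgroup.orderOf_coe, hk] at h
    obtain ⟨R, hR⟩ := Cfsg.Agent.Lib.Helper24.exists_invariant_sylow (p := r) M K
      (by rw [normalizer_eq_top_iff.mpr hKn]; exact le_top) hcop
      (Or.inl (by haveI := hnil; infer_instance))
    set RG := (R : Subgroup K).map K.subtype with hRG
    have hRGK : RG ≤ K := map_subtype_le _
    have hRne : RG ≠ ⊥ := by
      rw [Ne, map_eq_bot_iff_of_injective _ K.subtype_injective]
      exact R.ne_bot_of_dvd_card hrK
    have hsup : M ⊔ RG = ⊤ := by
      by_contra hne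
      have hMle : M ≤ M ⊔ RG := le_sup_left
      have heq : M ⊔ RG = M := (hM.le_iff_eq hne).mp hMle
      have hRGM : RG ≤ M := heq ▸ le_sup_right
      apply hRne
      rw [eq_bot_iff]
      intro x hx
      rw [mem_bot]
      exact hKM x (hRGM hx) (hRGK hx)
    have hRGn : RG.Normal := by
      rw [← normalizer_eq_top_iff, eq_top_iff, ← hsup]
      exact sup_le hR le_normalizer
    have hKR : ∀ k : K, k ∈ (R : Subgroup K) := by
      intro k
      have hk : (k : G) ∈ M ⊔ RG := hsup ▸ mem_top _
      rw [← SetLike.mem_coe, mul_normal] at hk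
      obtain ⟨m, hm, s, hs, hms⟩ := Set.mem_mul.mp hk
      have hm1 : m = 1 := by
        apply hKM m hm
        have : m = (k : G) * s⁻¹ := by rw [← hms]; group
        rw [this]
        exact K.mul_mem k.2 (K.inv_mem (hRGK hs))
      rw [hm1, one_mul] at hms
      obtain ⟨s', hs', hs'eq⟩ := hs
      have : s' = k := Subtype.ext (by rw [← hms, ← hs'eq]; rfl)
      rw [← this]; exact hs'
    have hpgK : IsPGroup r K := by
      intro k
      obtain ⟨n, hn⟩ := R.2 ⟨k, hKR k⟩
      exact ⟨n, by simpa using congrArg Subtype.val hn⟩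
    haveI := hpgK.isNilpotent
    infer_instance
  exact Group.isSolvable_of_ker_le_range K.subtype (QuotientGroup.mk' K)
    (by rw [QuotientGroup.ker_mk', range_subtype])

end Cfsg.Agent.Lib.Helper96
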