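import Cfsg.Agent.Lib.Helper76.SlDefs
import Cfsg.Agent.Lib.Helper3.Degree

/-!
# Sl hive (S2332, helper76), sub-hive SL-K2 (helper70): the generic integrality half.
`χ` irreducible, `χ 1 = d`, `χ g = z ∈ ℤ`  ⟹  `d ∣ |cl(g)| * z`.
-/

set_option autoImplicit false

namespace Cfsg.Agent.Lib.Helper76.Sl

open Cfsg

/-- the degree of the character of a representation on `Fin n → ℂ`. -/
theorem k2int_char_one {G : Type*} [Group G] (n : ℕ) (ρ : Representation ℂ G (Fin n → ℂ)) :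
    ρ.character 1 = n := by
  simp [Representation.character]

/-- SL-K2, generic integrality: `χ(1)` divides `|cl(g)| χ(g)` for an irreducible `χ` with integer
value at `g`. -/
theorem k2int_dvd {G : Type*} [Group G] [Fintype G] (χ : G → ℂ) (hχ : Cfsg.IsIrrCharacter G χ)
    (g : G) (d : ℕ) (z : ℤ) (hd : χ 1 = d) (hz : χ g = z) :
    (d : ℤ) ∣ ((Subgroup.centralizer ({g} : Set G)).index : ℤ) * z := by
  obtain ⟨n, ρ, hirr, rfl⟩ := hχ
  have hint := Cfsg.Agent.Lib.Helper3.isIntegral_omega ρ (hρ := hirr) g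
  have hfin : Module.finrank ℂ (Fin n → ℂ) = n := by simp
  have hdn : d = n := by
    have h1 : (d : ℂ) = n := by rw [← hd, k2int_char_one]
    exact_mod_cast h1
  subst hdn
  have hV : Nontrivial (Fin d → ℂ) := ((Cfsg.Agent.Lib.Helper3.isIrreducible_iff ρ).mp hirr).1
  have hd0 : d ≠ 0 := by
    rintro rfl
    exact not_subsingleton (Fin 0 → ℂ) inferInstance
  rw [hfin, hz] at hint
  set idx := (Subgroup.centralizer ({g} : Set G)).index with hidx
  have h1 : ((idx : ℂ) * (z : ℂ) / (d : ℂ)) = ((((idx : ℤ) * z : ℤ) : ℚ) / (d : ℚ) : ℚ) := by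
    push_cast; rfl
  rw [h1] at hint
  obtain ⟨w, hw⟩ := Cfsg.Agent.Lib.Helper3.int_of_isIntegral_ratCast hint
  have hdq : (d : ℚ) ≠ 0 := by exact_mod_cast hd0
  have h2 : (((idx : ℤ) * z : ℤ) : ℚ) = w * d := by
    rw [hw]; field_simp
  have h3 : (idx : ℤ) * z = w * d := by exact_mod_cast h2
  exact ⟨w, by rw [h3, mul_comm]⟩

end Cfsg.Agent.Lib.Helper76.Sl

namespace Cfsg.Agent.Lib.Helper76.Sl

open Matrix Cfsg

/-- K2-INT / SL-K2-INT: the exact leaf statement of `tools/helper70/SlK2Skel.lean.txt` and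
`tools/helper43/SlK2Skel.lean.txt` (the two coincide). -/
theorem k2_int {G : Type*} [Group G] [Fintype G] (χ : G → ℂ) (hχ : IsIrrCharacter G χ) (g : G)
    (d : ℕ) (z : ℤ) (hd : χ 1 = d) (hz : χ g = z) :
    (d : ℤ) ∣ ((Subgroup.centralizer ({g} : Set G)).index : ℤ) * z :=
  k2int_dvd χ hχ g d z hd hz

end Cfsg.Agent.Lib.Helper76.Sl
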