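import Cfsg.Agent.Lib.Helper46.AhDefs
import Cfsg.Agent.Lib.Helper3.Burnside

/-!
# Ah hive (S2538, helper46), leaf AH-CC, part CC1 (abstract): a solvable transitive group of prime
degree `r` whose order involves only the primes `2` and `r` has a cyclic point stabilizer `⟨t⟩` of
order `2 ^ k`, acting semiregularly off its fixed point.
-/

set_option autoImplicit false

namespace Cfsg.Agent.Lib.Helper46.Ah

open Equiv
open scoped commutatorElement

/-- a nontrivial solvable group has a nontrivial abelian normal subgroup. -/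
theorem cc1_exists_abelian_normal {G : Type*} [Group G] [Nontrivial G] (h : Group.IsSolvable G) :
    ∃ N : Subgroup G, N.Normal ∧ N ≠ ⊥ ∧ ∀ a ∈ N, ∀ b ∈ N, a * b = b * a := by
  obtain ⟨n, hn⟩ := h.solvable
  induction n with
  | zero =>
    rw [derivedSeries_zero] at hn
    exact absurd hn top_ne_bot
  | succ k ih =>
    by_cases hk : derivedSeries G k = ⊥
    · exact ih hk
    · refine ⟨derivedSeries G k, inferInstance, hk, fun a ha b hb => ?_⟩
      have h1 : ⁅a, b⁆ ∈ derivedSeries G (k + 1) := by
        rw [derivedSeries_succ]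
        exact Subgroup.commutator_mem_commutator ha hb
      rw [hn, Subgroup.mem_bot, commutatorElement_eq_one_iff_mul_comm] at h1
      exact h1

/-- AH-CC, part CC1, abstract form. -/
theorem cc1_abs {G : Type*} [Group G] [Finite G] {α : Type*} [Fintype α] [MulAction G α]
    [FaithfulSMul G α] [MulAction.IsPretransitive G α]
    (r : ℕ) (hr : r.Prime) (hr2 : r ≠ 2) (hcard : Fintype.card α = r)
    (hsolv : Group.IsSolvable G)
    (hpr : ∀ p : ℕ, p.Prime → p ∣ Nat.card G → p = 2 ∨ p = r) :
    ∃ (t : G) (k : ℕ) (x : α), orderOf t = 2 ^ k ∧ (Nat.card G).factorization 2 = k ∧ t • x = x ∧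
      ∀ j : ℕ, 0 < j → j < 2 ^ k → ∀ y : α, t ^ j • y = y → y = x := by
  classical
  have hcardα : Nat.card α = r := by rw [Nat.card_eq_fintype_card, hcard]
  have hprime : (Nat.card α).Prime := hcardα ▸ hr
  have : MulAction.IsPreprimitive G α := MulAction.IsPreprimitive.of_prime_card hprime
  have : Nonempty α := by
    have : 0 < Fintype.card α := by rw [hcard]; exact hr.pos
    exact Fintype.card_pos_iff.mp this
  obtain ⟨x⟩ := ‹Nonempty α›
  have hidx : (MulAction.stabilizer G x).index = r := by
    rw [MulAction.index_stabilizer_of_transitive, hcardα]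
  have hGcard : Nat.card G = Nat.card (MulAction.stabilizer G x) * r := by
    rw [← hidx, Subgroup.card_mul_index]
  have : Nontrivial G := by
    by_contra hnt
    rw [not_nontrivial_iff_subsingleton] at hnt
    have h1 : Nat.card G = 1 := Nat.card_unique
    rw [hGcard] at h1
    have h2 : r = 1 := Nat.eq_one_of_mul_eq_one_left h1
    exact hr.one_lt.ne' h2
  obtain ⟨N, hNnorm, hNne, hNcomm⟩ := cc1_exists_abelian_normal hsolv
  have := hNnorm
  -- `N` is transitive
  have hNtr : MulAction.IsPretransitive N α := by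
    apply MulAction.IsQuasiPreprimitive.isPretransitive_of_normal (G := G) (X := α)
    intro hfix
    apply hNne
    rw [Subgroup.eq_bot_iff_forall]
    intro n hn
    apply FaithfulSMul.eq_of_smul_eq_smul (α := α)
    intro y
    have hy : y ∈ MulAction.fixedPoints N α := by rw [hfix]; trivial
    rw [one_smul]
    exact hy ⟨n, hn⟩
  -- `N` acts freely
  have hfree : ∀ n ∈ N, ∀ y : α, n • y = y → n = 1 := by
    intro n hn y hy
    apply FaithfulSMul.eq_of_smul_eq_smul (α := α)
    intro z
    obtain ⟨m, rfl⟩ := MulAction.exists_smul_eq N y z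
    rw [one_smul]
    change n • ((m : G) • y) = (m : G) • y
    rw [smul_smul, hNcomm n hn m m.2, ← smul_smul, hy]
  have hNcard : Nat.card N = r := by
    have h1 : (MulAction.stabilizer N x).index = Nat.card α :=
      MulAction.index_stabilizer_of_transitive N x
    have h2 : MulAction.stabilizer N x = ⊥ := by
      rw [Subgroup.eq_bot_iff_forall]
      intro n hn
      rw [MulAction.mem_stabilizer_iff] at hn
      have := hfree (n : G) n.2 x hn
      exact Subtype.ext this
    rw [h2, Subgroup.index_bot, hcardα] at h1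
    exact h1
  have : Fact r.Prime := ⟨hr⟩
  have : Fact (Nat.card N).Prime := ⟨hNcard.symm ▸ hr⟩
  have : IsCyclic N := isCyclic_of_prime_card hNcard
  -- the stabilizer embeds in `MulAut N`
  let φ : MulAction.stabilizer G x →* MulAut N :=
    (MulAut.conjNormal (H := N)).comp (MulAction.stabilizer G x).subtype
  have hcomm_fix : ∀ h : G, h • x = x → ∀ n : N, h * (n : G) * h⁻¹ = (n : G) → n ≠ 1 → h = 1 := by
    intro h hx n hn hn1
    apply FaithfulSMul.eq_of_smul_eq_smul (α := α)
    intro z
    obtain ⟨m, rfl⟩ := MulAction.exists_smul_eq N x z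
    obtain ⟨i, rfl⟩ : m ∈ Subgroup.zpowers n := mem_zpowers_of_prime_card hNcard hn1
    rw [one_smul]
    change h • (((n ^ i : N) : G) • x) = ((n ^ i : N) : G) • x
    have hc : Commute h (n : G) := by
      have : h * (n : G) = (n : G) * h := by
        calc h * (n : G) = h * (n : G) * h⁻¹ * h := by group
          _ = (n : G) * h := by rw [hn]
      exact this
    have hc' : Commute h ((n : G) ^ i) := hc.zpow_right i
    rw [Subgroup.coe_zpow, smul_smul, hc'.eq, ← smul_smul, hx]
  have hφinj : Function.Injective φ := by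
    rw [injective_iff_map_eq_one]
    intro h hh
    obtain ⟨n, hn1⟩ : ∃ n : N, n ≠ 1 := by
      have : Nontrivial N := by
        rw [← Finite.one_lt_card_iff_nontrivial, hNcard]; exact hr.one_lt
      exact exists_ne 1
    have h1 : (φ h) n = n := by rw [hh]; rfl
    have h2 : (h : G) * (n : G) * (h : G)⁻¹ = (n : G) := by
      have := congrArg (fun m : N => (m : G)) h1
      simpa [φ, MulAut.conjNormal_apply] using this
    have := hcomm_fix (h : G) (MulAction.mem_stabilizer_iff.mp h.2) n h2 hn1
    exact Subtype.ext this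
  have : IsCyclic (MulAut N) :=
    isCyclic_of_injective (IsCyclic.mulAutMulEquiv N).toMonoidHom (IsCyclic.mulAutMulEquiv N).injective
  have : IsCyclic (MulAction.stabilizer G x) := isCyclic_of_injective φ hφinj
  have hHdvd : Nat.card (MulAction.stabilizer G x) ∣ r - 1 := by
    have h1 := Subgroup.card_dvd_of_injective φ hφinj
    rw [IsCyclic.card_mulAut N, hNcard, Nat.totient_prime hr] at h1
    exact h1
  have hr1 : 0 < r - 1 := by have := hr.two_le; omega
  have hHne : Nat.card (MulAction.stabilizer G x) ≠ 0 := Nat.card_pos.ne'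
  have hH2 : Nat.card (MulAction.stabilizer G x) =
      2 ^ (Nat.card (MulAction.stabilizer G x)).primeFactorsList.length := by
    apply Nat.eq_prime_pow_of_unique_prime_dvd hHne
    intro d hd hdH
    rcases hpr d hd (hdH.trans (hGcard ▸ Dvd.intro _ rfl)) with h | h
    · exact h
    · exfalso
      have h3 : d ∣ r - 1 := hdH.trans hHdvd
      rw [h] at h3
      have := Nat.le_of_dvd hr1 h3
      omega
  set k := (Nat.card (MulAction.stabilizer G x)).primeFactorsList.length with hk
  obtain ⟨t, ht⟩ := IsCyclic.exists_generator (α := MulAction.stabilizer G x)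
  have hordt : orderOf t = 2 ^ k := by
    rw [orderOf_eq_card_of_forall_mem_zpowers ht, ← hH2]
  have hordt' : orderOf (t : G) = 2 ^ k := by rw [Subgroup.orderOf_coe]; exact hordt
  have htx : (t : G) • x = x := MulAction.mem_stabilizer_iff.mp t.2
  refine ⟨(t : G), k, x, hordt', ?_, htx, ?_⟩
  · rw [hGcard, hH2, Nat.factorization_mul (by positivity) hr.ne_zero]
    simp only [Finsupp.coe_add, Pi.add_apply]
    rw [Nat.Prime.factorization_pow Nat.prime_two,
      Nat.factorization_eq_zero_of_not_dvd (fun h => hr2 ((Nat.prime_dvd_prime_iff_eq Nat.prime_two hr).mp h).symm)]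
    simp
  · intro j hj hj' y hy
    by_contra hyx
    obtain ⟨n, hn⟩ := MulAction.exists_smul_eq N x y
    have hn1 : n ≠ 1 := by
      rintro rfl
      rw [one_smul] at hn
      exact hyx hn.symm
    have hhx : (t : G) ^ j • x = x := by
      have : (t : G) ^ j ∈ MulAction.stabilizer G x := Subgroup.pow_mem _ t.2 j
      exact MulAction.mem_stabilizer_iff.mp this
    have hhx' : ((t : G) ^ j)⁻¹ • x = x := by
      rw [inv_smul_eq_iff, hhx]
    have hconj : (t : G) ^ j * (n : G) * ((t : G) ^ j)⁻¹ = (n : G) := by
      have hmem : (t : G) ^ j * (n : G) * ((t : G) ^ j)⁻¹ ∈ N := hNnorm.conj_mem _ n.2 _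
      have h1 : ((n : G)⁻¹ * ((t : G) ^ j * (n : G) * ((t : G) ^ j)⁻¹)) • x = x := by
        rw [mul_smul, mul_smul, mul_smul, hhx']
        change (n : G)⁻¹ • (t : G) ^ j • (n • x) = x
        rw [hn, hy, ← hn]
        change (n : G)⁻¹ • (n : G) • x = x
        rw [inv_smul_smul]
      have h2 := hfree _ (N.mul_mem (N.inv_mem n.2) hmem) x h1
      rw [inv_mul_eq_one] at h2
      exact h2.symm
    have h1 := hcomm_fix ((t : G) ^ j) hhx n hconj hn1
    exact pow_ne_one_of_lt_orderOf hj.ne' (hordt' ▸ hj') h1

end Cfsg.Agent.Lib.Helper46.Ah
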