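import Cfsg.Agent.Lib.Helper46.AhDefs

/-!
# Ah hive (S2538, helper46), leaf AH-CC, part CC2: the arithmetic half.
-/

set_option autoImplicit false

namespace Cfsg.Agent.Lib.Helper46.Ah

/-- `v_2(r - 1) + 1 ≤ v_2(r!)` for `r ≥ 5`. -/
theorem cc2_val (r : ℕ) (h5 : 5 ≤ r) :
    (r - 1).factorization 2 + 1 ≤ (r.factorial).factorization 2 := by
  obtain ⟨k, rfl⟩ : ∃ k, r = k + 5 := ⟨r - 5, by omega⟩
  have h1 : (k + 5).factorial = (k + 5) * ((k + 4) * (k + 3).factorial) := by
    rw [Nat.factorial_succ (k + 4), Nat.factorial_succ (k + 3)]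
  have h2 : (2 : ℕ) ∣ (k + 3).factorial := Nat.dvd_factorial (by norm_num) (by omega)
  have hne3 : (k + 3).factorial ≠ 0 := Nat.factorial_ne_zero _
  have hne4 : (k + 4) * (k + 3).factorial ≠ 0 := Nat.mul_ne_zero (by omega) hne3
  have hsub : k + 5 - 1 = k + 4 := by omega
  rw [hsub, h1, Nat.factorization_mul (by omega) hne4, Nat.factorization_mul (by omega) hne3]
  simp only [Finsupp.coe_add, Pi.add_apply]
  have h3 : 1 ≤ ((k + 3).factorial).factorization 2 :=
    (Nat.Prime.dvd_iff_one_le_factorization Nat.prime_two hne3).mp h2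
  omega

/-- AH-CC2: the arithmetic contradiction. Use with `A = Nat.card (alternatingGroup α)`, `m = Nat.card M`. -/
theorem cc2_arith (r : ℕ) (hr : r.Prime) (h5 : 5 ≤ r) {A m : ℕ} (hA : 2 * A = r.factorial)
    (h2 : A.factorization 2 ≤ m.factorization 2)
    (hdvd : 2 * 2 ^ m.factorization 2 ∣ r - 1) : False := by
  have hA0 : A ≠ 0 := by
    rintro rfl
    exact Nat.factorial_ne_zero r (by simpa using hA.symm)
  have hv : (r.factorial).factorization 2 = A.factorization 2 + 1 := by
    rw [← hA, Nat.factorization_mul (by norm_num) hA0]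
    simp only [Finsupp.coe_add, Pi.add_apply, Nat.Prime.factorization_self Nat.prime_two]
    omega
  have h1 := cc2_val r h5
  have hr1 : r - 1 ≠ 0 := by omega
  have h3 : m.factorization 2 + 1 ≤ (r - 1).factorization 2 := by
    have : 2 ^ (m.factorization 2 + 1) ∣ r - 1 := by
      rw [pow_succ, mul_comm]; exact hdvd
    exact (Nat.Prime.pow_dvd_iff_le_factorization Nat.prime_two hr1).mp this
  omega

end Cfsg.Agent.Lib.Helper46.Ah
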