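import Cfsg.Agent.Lib.Helper46.AhDefs

/-!
# Ah hive (S2538, helper46), leaf AH-CC, part CC-SIGN: a semiregular even 2-element with a unique
fixed point forces `2^(a+1) ∣ r - 1`.
-/

set_option autoImplicit false

namespace Cfsg.Agent.Lib.Helper46.Ah

open Equiv

variable {α : Type*} [Fintype α] [DecidableEq α]

/-- every cycle of `t` has full length `2 ^ a`. -/
theorem ccs_cycleType (t : Perm α) (a : ℕ) (x : α) (hord : orderOf t = 2 ^ a) (hx : t x = x)
    (hfix : ∀ j : ℕ, 0 < j → j < 2 ^ a → ∀ y, (t ^ j) y = y → y = x) :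
    ∀ b ∈ t.cycleType, b = 2 ^ a := by
  intro b hb
  have hdvd : b ∣ 2 ^ a := hord ▸ Perm.dvd_of_mem_cycleType hb
  have hb2 : 2 ≤ b := Perm.two_le_of_mem_cycleType hb
  by_contra hne
  have hlt : b < 2 ^ a := lt_of_le_of_ne (Nat.le_of_dvd (by positivity) hdvd) hne
  rw [Perm.cycleType_def, Multiset.mem_map] at hb
  obtain ⟨c, hc, hcb⟩ := hb
  have hc' : c ∈ t.cycleFactorsFinset := by simpa using hc
  have hcyc : c.IsCycle := (Perm.mem_cycleFactorsFinset_iff.mp hc').1
  obtain ⟨y, hy⟩ := hcyc.nonempty_support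
  have hceq : c = t.cycleOf y := Perm.cycle_is_cycleOf hy hc'
  have hpow : (t ^ b) y = y := by
    rw [← Perm.cycleOf_pow_apply_self, ← hceq]
    have : c ^ b = 1 := by
      have h1 : orderOf c = b := by rw [hcyc.orderOf]; exact hcb
      rw [← h1]; exact pow_orderOf_eq_one c
    rw [this]; rfl
  have hyx : y = x := hfix b (by omega) hlt y hpow
  have hys : y ∈ t.support := Perm.mem_cycleFactorsFinset_support_le hc' hy
  rw [Perm.mem_support, hyx] at hys
  exact hys hx

/-- AH-CC, part CC-SIGN. -/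
theorem ccs_sign (t : Perm α) (a : ℕ) (x : α) (hord : orderOf t = 2 ^ a) (hx : t x = x)
    (hfix : ∀ j : ℕ, 0 < j → j < 2 ^ a → ∀ y, (t ^ j) y = y → y = x)
    (hsign : Perm.sign t = 1) (hodd : Odd (Fintype.card α)) :
    2 * 2 ^ a ∣ Fintype.card α - 1 := by
  rcases Nat.eq_zero_or_pos a with rfl | ha
  · obtain ⟨m, hm⟩ := hodd
    simp only [pow_zero, mul_one]
    exact ⟨m, by omega⟩
  have hct := ccs_cycleType t a x hord hx hfix
  set k := Multiset.card t.cycleType with hk
  have hrep : t.cycleType = Multiset.replicate k (2 ^ a) :=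
    Multiset.eq_replicate.mpr ⟨rfl, hct⟩
  have hsum : t.support.card = k * 2 ^ a := by
    rw [← Perm.sum_cycleType, hrep, Multiset.sum_replicate, smul_eq_mul]
  have hsupp : t.support = Finset.univ.erase x := by
    ext y
    simp only [Perm.mem_support, Finset.mem_erase, Finset.mem_univ, and_true]
    constructor
    · intro h hyx
      exact h (hyx ▸ hx)
    · intro h hty
      exact h (hfix 1 one_pos (Nat.one_lt_two_pow (by omega)) y (by simpa using hty))
  have hcard : Fintype.card α - 1 = k * 2 ^ a := by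
    rw [← hsum, hsupp, Finset.card_erase_of_mem (Finset.mem_univ x), Finset.card_univ]
  have hs : Perm.sign t = (-1) ^ (k * 2 ^ a + k) := by
    rw [Perm.sign_of_cycleType, hrep, Multiset.sum_replicate, Multiset.card_replicate, smul_eq_mul]
  have heven : Even k := by
    by_contra hk'
    have hkodd : Odd k := Nat.not_even_iff_odd.mp hk'
    have h2 : Even (k * 2 ^ a) := (Nat.even_pow.mpr ⟨even_two, by omega⟩).mul_left k
    have : Odd (k * 2 ^ a + k) := h2.add_odd hkodd
    rw [hs, this.neg_one_pow] at hsign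
    exact absurd hsign (by decide)
  obtain ⟨l, hl⟩ := heven
  rw [hcard]
  exact ⟨l, by rw [hl]; ring⟩

end Cfsg.Agent.Lib.Helper46.Ah
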