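import Cfsg.Agent.Lib.Helper46.AhDefs
import Cfsg.Agent.Lib.Helper96.AhCC1
import Cfsg.Agent.Lib.Helper96.AhCC2
import Cfsg.Agent.Lib.Helper96.AhCCS

/-!
# Ah hive (S2538, helper46), leaf AH-CC `no_two_r_hall`.
-/

set_option autoImplicit false

namespace Cfsg.Agent.Lib.Helper46.Ah

open Cfsg Equiv
open Cfsg.Agent.Lib.Helper15.Hs (resSub mem_resSub)

section leaves

variable {α : Type*} [Fintype α] [DecidableEq α] {π : Set ℕ} (M : Subgroup (Perm α)) (B : Set α)

/-- a subgroup of `Perm α`, `|α| = r` prime, of order divisible by `r` is transitive. -/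
theorem cc_pretransitive (r : ℕ) (hr : r.Prime) (hcard : Fintype.card α = r)
    (hrN : r ∣ Nat.card M) : MulAction.IsPretransitive M α := by
  have : Fact r.Prime := ⟨hr⟩
  obtain ⟨c, hc⟩ := exists_prime_orderOf_dvd_card' r hrN
  have hc' : orderOf (c : Perm α) = r := by rw [Subgroup.orderOf_coe]; exact hc
  obtain ⟨n, hn⟩ := Perm.cycleType_prime_order (σ := (c : Perm α)) (hc'.symm ▸ hr)
  have hsum : (c : Perm α).support.card = (n + 1) * r := by
    rw [← Perm.sum_cycleType, hn, Multiset.sum_replicate, smul_eq_mul, hc']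
  have hle : (c : Perm α).support.card ≤ r := hcard ▸ Finset.card_le_univ _
  have hn0 : n = 0 := by
    have hrpos := hr.pos
    by_contra h
    have : 2 * r ≤ (n + 1) * r := Nat.mul_le_mul_right r (by omega)
    omega
  subst hn0
  have hcyc : (c : Perm α).IsCycle := by
    rw [← Perm.card_cycleType_eq_one, hn]; simp
  have hsupp : (c : Perm α).support = Finset.univ := by
    apply Finset.eq_univ_of_card
    rw [hsum, hcard]; simp
  refine ⟨fun x y => ?_⟩
  have hx : (c : Perm α) x ≠ x := Perm.mem_support.mp (hsupp ▸ Finset.mem_univ x)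
  have hy : (c : Perm α) y ≠ y := Perm.mem_support.mp (hsupp ▸ Finset.mem_univ y)
  obtain ⟨i, hi⟩ := hcyc.exists_zpow_eq hx hy
  refine ⟨c ^ i, ?_⟩
  change ((c ^ i : M) : Perm α) x = y
  rw [Subgroup.coe_zpow]; exact hi

/-- AH-CC, part CC1. -/
theorem cc1_main (r : ℕ) (hr : r.Prime) (h5 : 5 ≤ r) (hcard : Fintype.card α = r)
    (hN : M ≤ alternatingGroup α) (hrN : r ∣ Nat.card M)
    (hpr : ∀ p : ℕ, p.Prime → p ∣ Nat.card M → p = 2 ∨ p = r) :
    2 * 2 ^ (Nat.card M).factorization 2 ∣ r - 1 := by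
  have hsolv : Group.IsSolvable M := by
    have hne : Nat.card M ≠ 0 := Nat.card_pos.ne'
    obtain ⟨a, m, hm, hcm⟩ := Nat.exists_eq_two_pow_mul_odd hne
    have hm0 : m ≠ 0 := by rintro rfl; simp at hm
    have hmr : m = r ^ m.primeFactorsList.length := by
      apply Nat.eq_prime_pow_of_unique_prime_dvd hm0
      intro d hd hdm
      rcases hpr d hd (hdm.trans (hcm ▸ Dvd.intro_left _ rfl)) with h | h
      · exfalso
        rw [h] at hdm
        exact (Nat.not_even_iff_odd.mpr hm) (even_iff_two_dvd.mpr hdm)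
      · exact h
    rw [hmr] at hcm
    exact Cfsg.Agent.Lib.Helper3.isSolvable_of_card_eq_prime_pow_mul 2 r a _ Nat.prime_two hr hcm
  have : MulAction.IsPretransitive M α := cc_pretransitive M r hr hcard hrN
  obtain ⟨t, k, x, hord, hk, htx, hfix⟩ := cc1_abs (G := M) (α := α) r hr (by omega) hcard hsolv hpr
  have hsign : Perm.sign (t : Perm α) = 1 := Perm.mem_alternatingGroup.mp (hN t.2)
  have h1 := ccs_sign (t : Perm α) k x (by rw [Subgroup.orderOf_coe]; exact hord) htx
    (fun j hj hj' y hy => hfix j hj hj' y (by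
      change ((t ^ j : M) : Perm α) y = y
      rw [Subgroup.coe_pow]; exact hy)) hsign
    (by rw [hcard]; exact hr.odd_of_ne_two (by omega))
  rw [hk, ← hcard]
  exact h1

/-- AH-CC -/
theorem no_two_r_hall (r : ℕ) (hr : r.Prime) (h5 : 5 ≤ r) (hcard : Fintype.card α = r)
    (hN : M ≤ alternatingGroup α) (hrN : r ∣ Nat.card M)
    (hpr : ∀ p : ℕ, p.Prime → p ∣ Nat.card M → p = 2 ∨ p = r)
    (h2 : (Nat.card (alternatingGroup α)).factorization 2 ≤ (Nat.card M).factorization 2) :
    False := by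
  have hnt : Nontrivial α := by
    rw [← Fintype.one_lt_card_iff_nontrivial, hcard]; omega
  have hA : 2 * Nat.card (alternatingGroup α) = r.factorial := by
    rw [Nat.card_eq_fintype_card, two_mul_card_alternatingGroup, Fintype.card_perm, hcard]
  exact cc2_arith r hr h5 hA h2 (cc1_main M r hr h5 hcard hN hrN hpr)

end leaves

end Cfsg.Agent.Lib.Helper46.Ah
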