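import Cfsg.Agent.Lib.Helper96.BG1435E
import Cfsg.Agent.Lib.Helper23.BG1435LD

set_option autoImplicit false
set_option linter.style.haveILetI false
set_option linter.unusedSectionVars false
set_option linter.unusedVariables false

/-!
# S1435, clauses 5 and 6: final statement
-/

namespace Cfsg.Agent.Lib.Helper96.BG1435

open Subgroup Cfsg
open scoped commutatorElement

universe u

variable {G : Type u} [Group G] [Finite G]

namespace Cfg

variable {H Ms K E : Subgroup G}

/-- clauses 5 and 6 of S1435 for a configuration -/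
theorem clauses56 (hG : IsMinSimpleOddOrder G) (c : Cfg H Ms K E) :
    K ≤ fittingOf (H ⊓ Ms) ∧ IsComplIn (H ⊓ Ms) (sigmaCore H) H :=
  final_of_centralizes hG c (c.sigmaCore_inf hG) (c.centralizes_commutator hG)

end Cfg

/-- **S1435, clauses 5 and 6**, with explicit hypotheses (no complement `E` needed): `H` is a
maximal subgroup with `κ(H) = ∅`, not conjugate to `M*`; `K ≤ H ∩ M*_σ` has prime order and `M*` is
the only maximal subgroup over `C_G(K)`; no subgroup `S0` of order `s ∈ κ(M*)` has `H` as the only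
maximal subgroup over its centralizer.  Then `K ≤ F(H ∩ M*)` and `H ∩ M*` is a complement of `H_σ`
in `H`. -/
theorem clauses56_of (hG : IsMinSimpleOddOrder G) {H Ms K : Subgroup G}
    (hH : IsCoatom H) (hMs : IsCoatom Ms) (hκ : kappa H = ∅) (hKp : (Nat.card K).Prime)
    (hKH : K ≤ H) (hKMs : K ≤ sigmaCore Ms) (hCK : centralizer (K : Set G) ≤ Ms)
    (hCKu : ∀ L : Subgroup G, IsCoatom L → centralizer (K : Set G) ≤ L → L = Ms)
    (hnc : ∀ g : G, H ≠ Ms.map (MulAut.conj g).toMonoidHom)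
    (hκMs : ∀ s ∈ kappa Ms, ∀ S0 : Subgroup G, Nat.card S0 = s → centralizer (S0 : Set G) ≤ H →
      (∀ L : Subgroup G, IsCoatom L → centralizer (S0 : Set G) ≤ L → L = H) → False) :
    K ≤ fittingOf (H ⊓ Ms) ∧ IsComplIn (H ⊓ Ms) (sigmaCore H) H := by
  have htMs : Nat.card K ∈ sigma Ms :=
    Cfsg.Agent.Lib.Helper47.BG11.mem_sigma_of_dvd_card_le hKMs hKp dvd_rfl
  have htH : Nat.card K ∉ sigma H := fun h => BG141N.sigma_disj hG hMs hH hnc htMs h
  have hcop : (Nat.card K).Coprime (Nat.card ↥(sigmaCore H)) := by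
    rw [Nat.Prime.coprime_iff_not_dvd hKp]
    intro hd
    exact htH (Cfsg.Agent.Lib.Helper47.BG11.mem_sigma_of_dvd_card_le le_rfl hKp hd)
  obtain ⟨E, hE, hKE⟩ := Cfsg.Agent.Lib.Helper63.BG13.exists_compl_ge hG hH.1
    (Cfsg.Agent.Lib.Helper47.BG11.sigmaHallIn_of_coatom hG hH) hKH hcop
  exact Cfg.clauses56 hG ⟨hH, hMs, hκ, hKp, hKMs, hCK, hCKu, hE, hKE, hnc, hκMs⟩

end Cfsg.Agent.Lib.Helper96.BG1435
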