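import Cfsg.Agent.Lib.Helper81.Mi.Defs

set_option autoImplicit false

/-! MI-KS (Mi hive, S2140, owner helper81): the spread argument - the structure (S) cannot hold at every
non-zero vector. Self-contained (imports only `Mi.Defs`). -/

namespace Cfsg.Agent.Lib.Helper81.Mi

open Matrix

variable {F : Type*} [Field F] {n : ℕ}

/-- action of a transvection on a vector -/
theorem ks_tv_mulVec (v φ x : Fin n → F) (h : φ ⬝ᵥ v = 0) :
    ((tv v φ : SLn n F) : Matrix (Fin n) (Fin n) F) *ᵥ x = x + (φ ⬝ᵥ x) • v := by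
  rw [coe_tv v φ h, tmat, Matrix.add_mulVec, Matrix.one_mulVec, Matrix.vecMulVec_mulVec,
    op_smul_eq_smul]

/-- conjugating a transvection with centre `v` by an element fixing `v` -/
theorem ks_conj (h : SLn n F) (v φ : Fin n → F) (hφ : φ ⬝ᵥ v = 0)
    (hv : (h : Matrix (Fin n) (Fin n) F) *ᵥ v = v) :
    h⁻¹ * tv v φ * h = tv v (φ ᵥ* (h : Matrix (Fin n) (Fin n) F)) := by
  have h0 : (φ ᵥ* (h : Matrix (Fin n) (Fin n) F)) ⬝ᵥ v = 0 := by
    rw [← Matrix.dotProduct_mulVec, hv, hφ]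
  rw [mul_assoc, inv_mul_eq_iff_eq_mul]
  apply Subtype.ext
  rw [Matrix.SpecialLinearGroup.coe_mul, Matrix.SpecialLinearGroup.coe_mul, coe_tv _ _ hφ,
    coe_tv _ _ h0, tmat, tmat, add_mul, mul_add, one_mul, mul_one, Matrix.vecMulVec_mul,
    Matrix.mul_vecMulVec, hv]

/-- `T(c v, φ) = T(v, c φ)` -/
theorem ks_tv_smul (c : F) (v φ : Fin n → F) (hφ : φ ⬝ᵥ v = 0) : tv (c • v) φ = tv v (c • φ) := by
  have h1 : φ ⬝ᵥ (c • v) = 0 := by rw [dotProduct_smul, hφ, smul_zero]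
  have h2 : (c • φ) ⬝ᵥ v = 0 := by rw [smul_dotProduct, hφ, smul_zero]
  apply Subtype.ext
  rw [coe_tv _ _ h1, coe_tv _ _ h2, tmat, tmat, Matrix.smul_vecMulVec, Matrix.vecMulVec_smul]

/-- separation: a covector vanishing on a subspace and taking the value `1` at a vector outside -/
theorem ks_sep (W : Submodule F (Fin n → F)) (x : Fin n → F) (hx : x ∉ W) :
    ∃ φ : Fin n → F, (∀ w ∈ W, φ ⬝ᵥ w = 0) ∧ φ ⬝ᵥ x = 1 := by
  obtain ⟨f, hfx, hW⟩ := Submodule.exists_le_ker_of_notMem hx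
  have key : ∀ y : Fin n → F,
      (fun i => (f x)⁻¹ * f (fun j => if i = j then 1 else 0)) ⬝ᵥ y = (f x)⁻¹ * f y := by
    intro y
    conv_rhs => rw [LinearMap.pi_apply_eq_sum_univ f y]
    rw [dotProduct, Finset.mul_sum]
    apply Finset.sum_congr rfl
    intro i _
    rw [smul_eq_mul]
    ring
  refine ⟨fun i => (f x)⁻¹ * f (fun j => if i = j then 1 else 0), fun w hw => ?_, ?_⟩
  · rw [key, LinearMap.mem_ker.mp (hW hw), mul_zero]
  · rw [key, inv_mul_cancel₀ hfx]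

section spread

variable (H : Subgroup (SLn n F)) (X : (Fin n → F) → (Fin n → F))

/-- EQUIVARIANCE: an element of `H` fixing `v` maps `x_v` into the line `l_v = ⟨v, x_v⟩`. -/
theorem ks_equivariance
    (hX2 : ∀ v : Fin n → F, v ≠ 0 → ∀ φ : Fin n → F, φ ⬝ᵥ v = 0 → (tv v φ ∈ H ↔ φ ⬝ᵥ X v = 0))
    (v : Fin n → F) (hv : v ≠ 0) (g : SLn n F) (hg : g ∈ H)
    (hgv : (g : Matrix (Fin n) (Fin n) F) *ᵥ v = v) :
    (g : Matrix (Fin n) (Fin n) F) *ᵥ X v ∈ Submodule.span F {v, X v} := by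
  by_contra hcon
  obtain ⟨φ, hφ0, hφ1⟩ := ks_sep _ _ hcon
  have hφv : φ ⬝ᵥ v = 0 := hφ0 v (Submodule.subset_span (by simp))
  have hφx : φ ⬝ᵥ X v = 0 := hφ0 (X v) (Submodule.subset_span (by simp))
  have hmem : tv v φ ∈ H := (hX2 v hv φ hφv).2 hφx
  have hmem2 : g⁻¹ * tv v φ * g ∈ H := H.mul_mem (H.mul_mem (H.inv_mem hg) hmem) hg
  rw [ks_conj g v φ hφv hgv] at hmem2
  have h0 : (φ ᵥ* (g : Matrix (Fin n) (Fin n) F)) ⬝ᵥ v = 0 := by
    rw [← Matrix.dotProduct_mulVec, hgv, hφv]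
  have h3 := (hX2 v hv _ h0).1 hmem2
  rw [← Matrix.dotProduct_mulVec, hφ1] at h3
  exact one_ne_zero h3

/-- (F0): `x_{c v} ∈ l_v` -/
theorem ks_F0
    (hX2 : ∀ v : Fin n → F, v ≠ 0 → ∀ φ : Fin n → F, φ ⬝ᵥ v = 0 → (tv v φ ∈ H ↔ φ ⬝ᵥ X v = 0))
    (v : Fin n → F) (hv : v ≠ 0) (c : F) (hc : c ≠ 0) :
    X (c • v) ∈ Submodule.span F {v, X v} := by
  by_contra hcon
  obtain ⟨φ, hφ0, hφ1⟩ := ks_sep _ _ hcon
  have hφv : φ ⬝ᵥ v = 0 := hφ0 v (Submodule.subset_span (by simp))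
  have hφx : φ ⬝ᵥ X v = 0 := hφ0 (X v) (Submodule.subset_span (by simp))
  have hcv : c • v ≠ 0 := smul_ne_zero hc hv
  have h1 : (c • φ) ⬝ᵥ v = 0 := by rw [smul_dotProduct, hφv, smul_zero]
  have h2 : (c • φ) ⬝ᵥ X v = 0 := by rw [smul_dotProduct, hφx, smul_zero]
  have hmem : tv v (c • φ) ∈ H := (hX2 v hv _ h1).2 h2
  rw [← ks_tv_smul c v φ hφv] at hmem
  have h3 : φ ⬝ᵥ (c • v) = 0 := by rw [dotProduct_smul, hφv, smul_zero]
  have h4 := (hX2 (c • v) hcv φ h3).1 hmem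
  rw [hφ1] at h4
  exact one_ne_zero h4

/-- (F1): `v' ∈ l_v \ F v` implies `x_{v'} ∈ l_v` -/
theorem ks_F1
    (hX2 : ∀ v : Fin n → F, v ≠ 0 → ∀ φ : Fin n → F, φ ⬝ᵥ v = 0 → (tv v φ ∈ H ↔ φ ⬝ᵥ X v = 0))
    (v : Fin n → F) (hv : v ≠ 0) (v' : Fin n → F) (hv' : v' ∈ Submodule.span F {v, X v})
    (hne : ∀ c : F, v' ≠ c • v) :
    X v' ∈ Submodule.span F {v, X v} := by
  by_contra hcon
  obtain ⟨φ, hφ0, hφ1⟩ := ks_sep _ _ hcon
  have hφv : φ ⬝ᵥ v = 0 := hφ0 v (Submodule.subset_span (by simp))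
  have hφx : φ ⬝ᵥ X v = 0 := hφ0 (X v) (Submodule.subset_span (by simp))
  have hφv' : φ ⬝ᵥ v' = 0 := hφ0 v' hv'
  have hv'0 : v' ≠ 0 := by
    intro h0
    exact hne 0 (by rw [h0, zero_smul])
  have hmem : tv v φ ∈ H := (hX2 v hv φ hφv).2 hφx
  have hfix : ((tv v φ : SLn n F) : Matrix (Fin n) (Fin n) F) *ᵥ v' = v' := by
    rw [ks_tv_mulVec v φ v' hφv, hφv', zero_smul, add_zero]
  have h1 := ks_equivariance H X hX2 v' hv'0 (tv v φ) hmem hfix
  rw [ks_tv_mulVec v φ (X v') hφv, hφ1, one_smul] at h1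
  -- `v ∈ ⟨v', x_{v'}⟩`
  have h2 : v ∈ Submodule.span F {v', X v'} := by
    have h3 : X v' ∈ Submodule.span F {v', X v'} := Submodule.subset_span (by simp)
    have h4 := Submodule.sub_mem _ h1 h3
    rwa [add_sub_cancel_left] at h4
  obtain ⟨a, b, hab⟩ := Submodule.mem_span_pair.mp h2
  have h5 : φ ⬝ᵥ v = a * (φ ⬝ᵥ v') + b * (φ ⬝ᵥ X v') := by
    rw [← hab, dotProduct_add, dotProduct_smul, dotProduct_smul, smul_eq_mul, smul_eq_mul]
  rw [hφv, hφv', hφ1, mul_zero, zero_add, mul_one] at h5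
  rw [← h5, zero_smul, add_zero] at hab
  have ha : a ≠ 0 := by
    intro ha
    rw [ha, zero_smul] at hab
    exact hv hab.symm
  apply hne a⁻¹
  rw [← hab, smul_smul, inv_mul_cancel₀ ha, one_smul]

/-- (F): `0 ≠ y ∈ l_v` implies `x_y ∈ l_v` -/
theorem ks_F
    (hX2 : ∀ v : Fin n → F, v ≠ 0 → ∀ φ : Fin n → F, φ ⬝ᵥ v = 0 → (tv v φ ∈ H ↔ φ ⬝ᵥ X v = 0))
    (v : Fin n → F) (hv : v ≠ 0) (y : Fin n → F) (hy : y ∈ Submodule.span F {v, X v})
    (hy0 : y ≠ 0) :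
    X y ∈ Submodule.span F {v, X v} := by
  by_cases hc : ∃ c : F, y = c • v
  · obtain ⟨c, rfl⟩ := hc
    have hc0 : c ≠ 0 := by
      intro h
      rw [h, zero_smul] at hy0
      exact hy0 rfl
    exact ks_F0 H X hX2 v hv c hc0
  · push Not at hc
    exact ks_F1 H X hX2 v hv y hy hc

/-- `l_v` is two-dimensional -/
theorem ks_finrank (hX1 : ∀ v : Fin n → F, v ≠ 0 → ∀ c : F, X v ≠ c • v)
    (v : Fin n → F) (hv : v ≠ 0) :
    Module.finrank F (Submodule.span F ({v, X v} : Set (Fin n → F))) = 2 := by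
  have hli : LinearIndependent F ![v, X v] := by
    rw [LinearIndependent.pair_iff]
    intro s t hst
    have ht : t = 0 := by
      by_contra ht
      apply hX1 v hv (-(t⁻¹ * s))
      have h1 : t • X v = -(s • v) := by
        rw [eq_neg_iff_add_eq_zero, add_comm]; exact hst
      calc X v = t⁻¹ • (t • X v) := by rw [smul_smul, inv_mul_cancel₀ ht, one_smul]
        _ = -(t⁻¹ * s) • v := by rw [h1, smul_neg, smul_smul, neg_smul]
    refine ⟨?_, ht⟩
    rw [ht, zero_smul, add_zero] at hst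
    exact (smul_eq_zero.mp hst).resolve_right hv
  have h1 := finrank_span_eq_card hli
  have h2 : Set.range ![v, X v] = ({v, X v} : Set (Fin n → F)) := by
    simp [Matrix.range_cons, Set.pair_comm]
  rw [h2] at h1
  rw [h1]
  simp

/-- `0 ≠ y ∈ l_v` implies `l_y = l_v` -/
theorem ks_L_eq (hX1 : ∀ v : Fin n → F, v ≠ 0 → ∀ c : F, X v ≠ c • v)
    (hX2 : ∀ v : Fin n → F, v ≠ 0 → ∀ φ : Fin n → F, φ ⬝ᵥ v = 0 → (tv v φ ∈ H ↔ φ ⬝ᵥ X v = 0))
    (v : Fin n → F) (hv : v ≠ 0) (y : Fin n → F) (hy : y ∈ Submodule.span F {v, X v})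
    (hy0 : y ≠ 0) :
    Submodule.span F ({y, X y} : Set (Fin n → F)) = Submodule.span F {v, X v} := by
  have hle : Submodule.span F ({y, X y} : Set (Fin n → F)) ≤ Submodule.span F {v, X v} := by
    rw [Submodule.span_le]
    intro z hz
    rcases hz with rfl | hz
    · exact hy
    · rw [Set.mem_singleton_iff] at hz
      rw [hz]
      exact ks_F H X hX2 v hv y hy hy0
  apply Submodule.eq_of_le_of_finrank_le hle
  rw [ks_finrank X hX1 v hv, ks_finrank X hX1 y hy0]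

end spread

/-- MI-KS (sub-hive, spread argument). -/
theorem kill_S (hn : 3 ≤ n) (H : Subgroup (SLn n F))
    (h : ∀ v : Fin n → F, v ≠ 0 → CaseS H v) : False := by
  classical
  have h1 : ∀ v : Fin n → F, v ≠ 0 → ∃ x : Fin n → F, (∀ c : F, x ≠ c • v) ∧
      ∀ φ : Fin n → F, φ ⬝ᵥ v = 0 → (tv v φ ∈ H ↔ φ ⬝ᵥ x = 0) := by
    intro v hv
    obtain ⟨x, hx1, hx2⟩ := h v hv 1
    refine ⟨x, hx1, fun φ hφ => ?_⟩
    rw [← hx2 φ hφ, mem_cj, inv_one, one_mul, mul_one]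
  choose! X hX1 hX2 using h1
  -- a non-zero vector
  obtain ⟨v, hv⟩ : ∃ v : Fin n → F, v ≠ 0 := by
    refine ⟨Pi.single ⟨0, by omega⟩ 1, ?_⟩
    intro h0
    have := congrFun h0 ⟨0, by omega⟩
    simp at this
  -- a vector outside `l_v`
  obtain ⟨x, hx⟩ : ∃ x : Fin n → F, x ∉ Submodule.span F ({v, X v} : Set (Fin n → F)) := by
    by_contra hcon
    push Not at hcon
    have htop : Submodule.span F ({v, X v} : Set (Fin n → F)) = ⊤ := by
      rw [Submodule.eq_top_iff']; exact hcon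
    have h2 := ks_finrank X hX1 v hv
    rw [htop, finrank_top, Module.finrank_fin_fun] at h2
    omega
  have hx0 : x ≠ 0 := by
    intro h0
    rw [h0] at hx
    exact hx (Submodule.zero_mem _)
  -- `l_v ∩ l_x = 0`
  have hdisj : ∀ y : Fin n → F, y ∈ Submodule.span F ({v, X v} : Set (Fin n → F)) →
      y ∈ Submodule.span F ({x, X x} : Set (Fin n → F)) → y = 0 := by
    intro y hy1 hy2
    by_contra hy0
    have e1 := ks_L_eq H X hX1 hX2 v hv y hy1 hy0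
    have e2 := ks_L_eq H X hX1 hX2 x hx0 y hy2 hy0
    apply hx
    rw [← e1, e2]
    exact Submodule.subset_span (by simp)
  have hw0 : X x ≠ 0 := by
    intro h0
    exact hX1 x hx0 0 (by rw [h0, zero_smul])
  -- `x ∉ ⟨v, x_v, (X x)⟩`
  have hx3 : x ∉ Submodule.span F ({v, X v} : Set (Fin n → F)) ⊔ Submodule.span F {(X x)} := by
    intro hmem
    obtain ⟨y, hy, z, hz, hyz⟩ := Submodule.mem_sup.mp hmem
    obtain ⟨c, rfl⟩ := Submodule.mem_span_singleton.mp hz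
    have hy2 : y ∈ Submodule.span F ({x, X x} : Set (Fin n → F)) := by
      have : y = x - c • (X x) := eq_sub_of_add_eq hyz
      rw [this]
      exact Submodule.sub_mem _ (Submodule.subset_span (by simp))
        (Submodule.smul_mem _ _ (Submodule.subset_span (by simp)))
    have hy0 := hdisj y hy hy2
    rw [hy0, zero_add] at hyz
    have hc : c ≠ 0 := by
      intro hc
      rw [hc, zero_smul] at hyz
      exact hx0 hyz.symm
    apply hX1 x hx0 c⁻¹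
    calc X x = c⁻¹ • (c • X x) := by rw [smul_smul, inv_mul_cancel₀ hc, one_smul]
      _ = c⁻¹ • x := by rw [hyz]
  obtain ⟨φ, hφ0, hφ1⟩ := ks_sep _ _ hx3
  have hφv : φ ⬝ᵥ v = 0 := hφ0 v (Submodule.mem_sup_left (Submodule.subset_span (by simp)))
  have hφx : φ ⬝ᵥ X v = 0 := hφ0 (X v) (Submodule.mem_sup_left (Submodule.subset_span (by simp)))
  have hφw : φ ⬝ᵥ (X x) = 0 :=
    hφ0 (X x) (Submodule.mem_sup_right (Submodule.subset_span (Set.mem_singleton _)))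
  have hmem : tv v φ ∈ H := (hX2 v hv φ hφv).2 hφx
  have hfix : ((tv v φ : SLn n F) : Matrix (Fin n) (Fin n) F) *ᵥ (X x) = (X x) := by
    rw [ks_tv_mulVec v φ (X x) hφv, hφw, zero_smul, add_zero]
  have h2 := ks_equivariance H X hX2 (X x) hw0 (tv v φ) hmem hfix
  -- `l_w = l_x`
  have hwx : (X x) ∈ Submodule.span F ({x, X x} : Set (Fin n → F)) := Submodule.subset_span (by simp)
  have e3 := ks_L_eq H X hX1 hX2 x hx0 (X x) hwx hw0
  have hxw : x ∈ Submodule.span F ({(X x), X (X x)} : Set (Fin n → F)) := by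
    rw [e3]; exact Submodule.subset_span (by simp)
  obtain ⟨a, b, hab⟩ := Submodule.mem_span_pair.mp hxw
  -- `T(v,φ) x = x + v ∈ l_w`
  have h3 : ((tv v φ : SLn n F) : Matrix (Fin n) (Fin n) F) *ᵥ x ∈
      Submodule.span F ({(X x), X (X x)} : Set (Fin n → F)) := by
    have hxx : ((tv v φ : SLn n F) : Matrix (Fin n) (Fin n) F) *ᵥ x =
        ((tv v φ : SLn n F) : Matrix (Fin n) (Fin n) F) *ᵥ (a • X x + b • X (X x)) := by rw [hab]
    rw [hxx, Matrix.mulVec_add, Matrix.mulVec_smul, Matrix.mulVec_smul, hfix]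
    exact Submodule.add_mem _ (Submodule.smul_mem _ _ (Submodule.subset_span (by simp)))
      (Submodule.smul_mem _ _ h2)
  rw [ks_tv_mulVec v φ x hφv, hφ1, one_smul] at h3
  have h4 : v ∈ Submodule.span F ({(X x), X (X x)} : Set (Fin n → F)) := by
    have := Submodule.sub_mem _ h3 hxw
    rwa [add_sub_cancel_left] at this
  rw [e3] at h4
  exact hv (hdisj v (Submodule.subset_span (by simp)) h4)

end Cfsg.Agent.Lib.Helper81.Mi
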