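import Mathlib
import Cfsg.Agent.Lib.Helper90.PsuDefs
import Cfsg.Agent.Lib.Helper90.PsuVec
import Cfsg.Agent.Lib.Helper42.PsuTS
import Cfsg.Agent.Lib.Helper27.PsuB
import Cfsg.Agent.Lib.Helper27.PsuSPLIT
import Cfsg.Agent.Lib.Helper23.PsuWITT
import Cfsg.Agent.Lib.Helper55.PsuQR
import Cfsg.Agent.Lib.Helper97.PsuPRE
import Cfsg.Agent.Lib.Helper80.PsuXmain

set_option autoImplicit false

/-! # Psu hive (S2412), leaf PSU-42 `small42`: `SU_4(2)` is generated by two elements (inside `GL`). -/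

namespace Cfsg.Agent.Lib.Helper90.Psu

open Matrix Cfsg.Agent.Lib.Helper99 Cfsg.Agent.Lib.Helper13

variable {F : Type*} [Field F] [Fintype F] {q n : ℕ}

local notation "hh" => Cfsg.hermForm n F q

/-! ### the field with four elements -/

theorem s42_two (hF : Fintype.card F = 2 ^ 2) : (2 : F) = 0 := by
  have h := Nat.cast_card_eq_zero F
  rw [hF] at h
  push_cast at h
  have h' : (2 : F) * 2 = 0 := by linear_combination h
  exact mul_self_eq_zero.mp h'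

theorem s42_pow_four (hF : Fintype.card F = 2 ^ 2) (x : F) : x ^ 4 = x := by
  have h := FiniteField.pow_card x
  rw [hF] at h
  norm_num at h
  exact h

theorem s42_exists_omega (hF : Fintype.card F = 2 ^ 2) : ∃ ω : F, ω * ω = ω + 1 := by
  classical
  have h2 := s42_two hF
  have hex : ∃ x : F, x ≠ 0 ∧ x ≠ 1 := by
    by_contra hcon
    push Not at hcon
    have hsub : (Finset.univ : Finset F) ⊆ {0, 1} := by
      intro x _
      by_cases hx : x = 0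
      · simp [hx]
      · simp [hcon x hx]
    have hc := Finset.card_le_card hsub
    have h3 : ({0, 1} : Finset F).card ≤ 2 := Finset.card_le_two
    rw [Finset.card_univ, hF] at hc
    omega
  obtain ⟨x, hx0, hx1⟩ := hex
  have h4 := s42_pow_four hF x
  have h5 : x * ((x - 1) * (x * x + x + 1)) = 0 := by linear_combination h4
  rcases mul_eq_zero.mp h5 with h | h
  · exact absurd h hx0
  · rcases mul_eq_zero.mp h with h | h
    · exact absurd (sub_eq_zero.mp h) hx1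
    · exact ⟨x, by linear_combination h - (x + 1) * h2⟩

theorem s42_cases (hF : Fintype.card F = 2 ^ 2) {ω : F} (hω : ω * ω = ω + 1) (y : F)
    (hy : y ≠ 0) : y = 1 ∨ y = ω ∨ y = ω + 1 := by
  have h2 := s42_two hF
  have h4 := s42_pow_four hF y
  have h5 : y * ((y - 1) * ((y + ω) * (y + ω + 1))) = 0 := by
    grind
  rcases mul_eq_zero.mp h5 with h | h
  · exact absurd h hy
  · rcases mul_eq_zero.mp h with h | h
    · exact Or.inl (sub_eq_zero.mp h)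
    · rcases mul_eq_zero.mp h with h | h
      · exact Or.inr (Or.inl (by linear_combination h - ω * h2))
      · exact Or.inr (Or.inr (by linear_combination h - (ω + 1) * h2))

/-! ### the two matrices of order 5 -/

/-- `A = !![0, 1; 1, ω]` -/
def s42_A (ω : F) : Matrix (Fin 2) (Fin 2) F := !![0, 1; 1, ω]

/-- `A' = (Aᵀ)⁻¹` twisted by the Frobenius: `!![ω + 1, 1; 1, 0]` -/
def s42_A' (ω : F) : Matrix (Fin 2) (Fin 2) F := !![ω + 1, 1; 1, 0]

theorem s42_AA' (h2 : (2 : F) = 0) {ω : F} (hω : ω * ω = ω + 1) :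
    (s42_A ω)ᵀ * (s42_A' ω).map (· ^ 2) = 1 := by
  ext i j
  fin_cases i <;> fin_cases j <;>
    simp [s42_A, s42_A', Matrix.mul_apply, Fin.sum_univ_two] <;> grind

theorem s42_A_det (h2 : (2 : F) = 0) (ω : F) : (s42_A ω).det = 1 := by
  rw [s42_A, Matrix.det_fin_two_of]
  linear_combination (-1 : F) * h2

theorem s42_A_mulVec (ω a0 a1 : F) : s42_A ω *ᵥ ![a0, a1] = ![a1, a0 + ω * a1] := by
  ext i
  fin_cases i <;> simp [s42_A, Matrix.mulVec, dotProduct, Fin.sum_univ_two]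

theorem s42_A'_mulVec (ω b0 b1 : F) :
    s42_A' ω *ᵥ ![b0, b1] = ![(ω + 1) * b0 + b1, b0] := by
  ext i
  fin_cases i <;> simp [s42_A', Matrix.mulVec, dotProduct, Fin.sum_univ_two]

theorem s42_vec2_congr {a b c d : F} (h1 : a = c) (h2 : b = d) : ![a, b] = ![c, d] := by
  rw [h1, h2]

theorem s42_pow_step (M : Matrix (Fin 2) (Fin 2) F) (v w w' : Fin 2 → F) (j : ℕ)
    (h : (M ^ j) *ᵥ v = w) (hs : M *ᵥ w = w') : (M ^ (j + 1)) *ᵥ v = w' := by
  rw [pow_succ', ← Matrix.mulVec_mulVec, h, hs]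

theorem s42_trans_aux (hF : Fintype.card F = 2 ^ 2) {ω : F} (hω : ω * ω = ω + 1)
    (M : Matrix (Fin 2) (Fin 2) F) (v : Fin 2 → F)
    (h10 : ∃ j : ℕ, ∃ p : F, p ≠ 0 ∧ (M ^ j) *ᵥ v = ![p, 0])
    (h01 : ∃ j : ℕ, ∃ p : F, p ≠ 0 ∧ (M ^ j) *ᵥ v = ![0, p])
    (h11 : ∃ j : ℕ, ∃ p : F, p ≠ 0 ∧ (M ^ j) *ᵥ v = ![p, p])
    (h1w : ∃ j : ℕ, ∃ p : F, p ≠ 0 ∧ (M ^ j) *ᵥ v = ![p, p * ω])
    (h1w' : ∃ j : ℕ, ∃ p : F, p ≠ 0 ∧ (M ^ j) *ᵥ v = ![p, p * (ω + 1)]) :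
    ∀ a : Fin 2 → F, a ≠ 0 → ∃ (j : ℕ) (c : F), c ≠ 0 ∧ (M ^ j) *ᵥ v = c • a := by
  intro a ha
  have ha' : a = ![a 0, a 1] := by
    ext i; fin_cases i <;> rfl
  by_cases h1 : a 1 = 0
  · have h0 : a 0 ≠ 0 := by
      intro h0
      apply ha
      rw [ha', h0, h1]
      ext i; fin_cases i <;> rfl
    obtain ⟨j, p, hp, hj⟩ := h10
    refine ⟨j, p * (a 0)⁻¹, mul_ne_zero hp (inv_ne_zero h0), ?_⟩
    rw [hj, ha', h1]
    ext i
    fin_cases i
    · simp; field_simp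
    · simp
  · by_cases h0 : a 0 = 0
    · obtain ⟨j, p, hp, hj⟩ := h01
      refine ⟨j, p * (a 1)⁻¹, mul_ne_zero hp (inv_ne_zero h1), ?_⟩
      rw [hj, ha', h0]
      ext i
      fin_cases i
      · simp
      · simp; field_simp
    · have hρ : a 1 * (a 0)⁻¹ ≠ 0 := mul_ne_zero h1 (inv_ne_zero h0)
      have key : ∀ (r : F), a 1 * (a 0)⁻¹ = r →
          (∃ j : ℕ, ∃ p : F, p ≠ 0 ∧ (M ^ j) *ᵥ v = ![p, p * r]) →
          ∃ (j : ℕ) (c : F), c ≠ 0 ∧ (M ^ j) *ᵥ v = c • a := by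
        intro r hr ⟨j, p, hp, hj⟩
        refine ⟨j, p * (a 0)⁻¹, mul_ne_zero hp (inv_ne_zero h0), ?_⟩
        rw [hj, ha']
        ext i
        fin_cases i
        · simp; field_simp
        · simp
          rw [← hr]
          ring
      rcases s42_cases hF hω _ hρ with h | h | h
      · apply key 1 h
        obtain ⟨j, p, hp, hj⟩ := h11
        exact ⟨j, p, hp, by rw [hj, mul_one]⟩
      · exact key ω h h1w
      · exact key (ω + 1) h h1w'

theorem s42_A_trans (hF : Fintype.card F = 2 ^ 2) (h2 : (2 : F) = 0) {ω : F}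
    (hω : ω * ω = ω + 1) :
    ∀ a : Fin 2 → F, a ≠ 0 → ∃ (j : ℕ) (c : F), c ≠ 0 ∧
      (s42_A ω ^ j) *ᵥ (Pi.single 0 1 : Fin 2 → F) = c • a := by
  have hω0 : ω ≠ 0 := by
    rintro rfl
    simp at hω
  have e0 : (Pi.single 0 1 : Fin 2 → F) = ![1, 0] := by
    ext i; fin_cases i <;> simp
  rw [e0]
  have s0 : (s42_A ω ^ 0) *ᵥ ![1, 0] = ![1, 0] := by simp
  have s1 : (s42_A ω ^ 1) *ᵥ ![1, 0] = ![0, 1] :=
    s42_pow_step _ _ _ _ 0 s0 (by rw [s42_A_mulVec]; exact s42_vec2_congr rfl (by ring))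
  have s2 : (s42_A ω ^ 2) *ᵥ ![1, 0] = ![1, ω] :=
    s42_pow_step _ _ _ _ 1 s1 (by rw [s42_A_mulVec]; exact s42_vec2_congr rfl (by ring))
  have s3 : (s42_A ω ^ 3) *ᵥ ![1, 0] = ![ω, ω] :=
    s42_pow_step _ _ _ _ 2 s2 (by rw [s42_A_mulVec]; exact s42_vec2_congr rfl (by grind))
  have s4 : (s42_A ω ^ 4) *ᵥ ![1, 0] = ![ω, 1] :=
    s42_pow_step _ _ _ _ 3 s3 (by rw [s42_A_mulVec]; exact s42_vec2_congr rfl (by grind))
  refine s42_trans_aux hF hω _ _ ⟨0, 1, one_ne_zero, s0⟩ ⟨1, 1, one_ne_zero, s1⟩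
    ⟨3, ω, hω0, s3⟩ ⟨2, 1, one_ne_zero, by rw [s2, one_mul]⟩
    ⟨4, ω, hω0, by rw [s4]; exact s42_vec2_congr rfl (by grind)⟩

theorem s42_A'_trans (hF : Fintype.card F = 2 ^ 2) (h2 : (2 : F) = 0) {ω : F}
    (hω : ω * ω = ω + 1) :
    ∀ b : Fin 2 → F, b ≠ 0 → ∃ (j : ℕ) (c : F), c ≠ 0 ∧
      (s42_A' ω ^ j) *ᵥ (Pi.single 1 1 : Fin 2 → F) = c • b := by
  have hω1 : ω + 1 ≠ 0 := by
    intro h
    have : ω * ω = 0 := by rw [hω, h]
    have h3 : ω = 0 := mul_self_eq_zero.mp this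
    rw [h3] at h
    simp at h
  have e0 : (Pi.single 1 1 : Fin 2 → F) = ![0, 1] := by
    ext i; fin_cases i <;> simp
  rw [e0]
  have s0 : (s42_A' ω ^ 0) *ᵥ ![0, 1] = ![0, 1] := by simp
  have s1 : (s42_A' ω ^ 1) *ᵥ ![0, 1] = ![1, 0] :=
    s42_pow_step _ _ _ _ 0 s0 (by rw [s42_A'_mulVec]; exact s42_vec2_congr (by ring) rfl)
  have s2 : (s42_A' ω ^ 2) *ᵥ ![0, 1] = ![ω + 1, 1] :=
    s42_pow_step _ _ _ _ 1 s1 (by rw [s42_A'_mulVec]; exact s42_vec2_congr (by ring) rfl)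
  have s3 : (s42_A' ω ^ 3) *ᵥ ![0, 1] = ![ω + 1, ω + 1] :=
    s42_pow_step _ _ _ _ 2 s2 (by rw [s42_A'_mulVec]; exact s42_vec2_congr (by grind) rfl)
  have s4 : (s42_A' ω ^ 4) *ᵥ ![0, 1] = ![1, ω + 1] :=
    s42_pow_step _ _ _ _ 3 s3 (by rw [s42_A'_mulVec]; exact s42_vec2_congr (by grind) rfl)
  refine s42_trans_aux hF hω _ _ ⟨1, 1, one_ne_zero, s1⟩ ⟨0, 1, one_ne_zero, s0⟩
    ⟨3, ω + 1, hω1, s3⟩ ⟨2, ω + 1, hω1, by rw [s2]; exact s42_vec2_congr rfl (by grind)⟩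
    ⟨4, 1, one_ne_zero, by rw [s4, one_mul]⟩

/-! ### calculus in one hyperbolic plane of a Witt configuration -/

section plane

variable {m : ℕ} (C : WittCfg q n m F)

/-- the plane vector `a • e i + b • f i` -/
def s42_pv (i : Fin m) (a b : F) : Fin n → F := a • C.e i + b • C.f i

theorem s42_pv_add (i : Fin m) (a b a' b' : F) :
    s42_pv C i a b + s42_pv C i a' b' = s42_pv C i (a + a') (b + b') := by
  unfold s42_pv
  module

theorem s42_pv_smul (i : Fin m) (c a b : F) :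
    c • s42_pv C i a b = s42_pv C i (c * a) (c * b) := by
  unfold s42_pv
  module

theorem s42_pv_e (i : Fin m) : s42_pv C i 1 0 = C.e i := by
  unfold s42_pv
  module

theorem s42_pv_f (i : Fin m) : s42_pv C i 0 1 = C.f i := by
  unfold s42_pv
  module

theorem s42_pv_congr (i : Fin m) {a b a' b' : F} (h1 : a = a') (h2 : b = b') :
    s42_pv C i a b = s42_pv C i a' b' := by
  rw [h1, h2]

theorem s42_hfe (hF : Fintype.card F = q ^ 2) (i j : Fin m) :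
    hh (C.f i) (C.e j) = if i = j then 1 else 0 := by
  have hq : q ≠ 0 := by have := q_ge_two hF; omega
  rw [← Helper13.hermForm_conj hF, C.hef]
  by_cases h : i = j
  · subst h; simp
  · rw [if_neg h, if_neg (fun h' => h h'.symm), zero_pow hq]

theorem s42_hh_pv (hF : Fintype.card F = q ^ 2) (i : Fin m) (a b c d : F) :
    hh (s42_pv C i a b) (s42_pv C i c d) = a * d ^ q + b * c ^ q := by
  unfold s42_pv
  simp only [Helper13.hermForm_add_left, Helper13.hermForm_add_right hF,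
    Helper13.hermForm_smul_left, Helper13.hermForm_smul_right, C.hee, C.hff, C.hef,
    s42_hfe C hF, if_true]
  ring

theorem s42_hh_e_pv (hF : Fintype.card F = q ^ 2) {j i : Fin m} (hji : j ≠ i) (c d : F) :
    hh (C.e j) (s42_pv C i c d) = 0 := by
  unfold s42_pv
  simp only [Helper13.hermForm_add_right hF, Helper13.hermForm_smul_right, C.hee, C.hef,
    if_neg hji]
  ring

/-- a quasi-reflection along a plane vector of norm `1`, on the plane -/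
theorem s42_qr_pv (hF : Fintype.card F = q ^ 2) (i : Fin m) {c d ν : F}
    (hN : c * d ^ q + d * c ^ q = 1) (hν : ν ≠ 0) (a b : F) :
    ((qr q (s42_pv C i c d) ν : GL (Fin n) F) : Matrix (Fin n) (Fin n) F) *ᵥ s42_pv C i a b =
      s42_pv C i (a + ((ν - 1) * (a * d ^ q + b * c ^ q)) * c)
        (b + ((ν - 1) * (a * d ^ q + b * c ^ q)) * d) := by
  have hb : hh (s42_pv C i c d) (s42_pv C i c d) ≠ 0 := by
    rw [s42_hh_pv C hF, hN]; exact one_ne_zero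
  rw [qr_mulVec hb hν, s42_hh_pv C hF, s42_hh_pv C hF, hN, div_one, s42_pv_smul, s42_pv_add]

/-- a quasi-reflection along a plane vector of norm `1` fixes `e j`, `j ≠ i` -/
theorem s42_qr_e (hF : Fintype.card F = q ^ 2) {j i : Fin m} (hji : j ≠ i) {c d ν : F}
    (hN : c * d ^ q + d * c ^ q = 1) (hν : ν ≠ 0) :
    ((qr q (s42_pv C i c d) ν : GL (Fin n) F) : Matrix (Fin n) (Fin n) F) *ᵥ C.e j = C.e j := by
  have hb : hh (s42_pv C i c d) (s42_pv C i c d) ≠ 0 := by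
    rw [s42_hh_pv C hF, hN]; exact one_ne_zero
  rw [qr_mulVec hb hν, s42_hh_e_pv C hF hji, mul_zero, zero_smul, add_zero]

theorem s42_vec_smul_left (c : F) (a : Fin m → F) : C.vec (c • a) 0 = c • C.vec a 0 := by
  simp [WittCfg.vec, Finset.smul_sum, smul_smul]

theorem s42_vec_smul_right (c : F) (b : Fin m → F) : C.vec 0 (c • b) = c • C.vec 0 b := by
  simp [WittCfg.vec, Finset.smul_sum, smul_smul]

end plane

/-! ### `SU_4(2)` -/

section su42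

variable (C : WittCfg 2 4 2 F)

/-- the element `z` of order 3: product of two commuting quasi-reflections in the plane `⟨e₁, f₁⟩` -/
noncomputable def s42_z (ω : F) : GL (Fin 4) F :=
  qr 2 (s42_pv C 1 1 ω) ω * qr 2 (s42_pv C 1 1 (ω + 1)) (ω + 1)

theorem s42_z_facts (hF : Fintype.card F = 2 ^ 2) {ω : F} (hω : ω * ω = ω + 1) :
    s42_z C ω ∈ suGL (F := F) 4 2 ∧ s42_z C ω ^ (2 + 1) = 1 ∧
      ((s42_z C ω : GL (Fin 4) F) : Matrix (Fin 4) (Fin 4) F) *ᵥ C.e 0 = C.e 0 ∧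
      ((s42_z C ω : GL (Fin 4) F) : Matrix (Fin 4) (Fin 4) F) *ᵥ C.e 1 = C.f 1 := by
  have h2 := s42_two hF
  have hω0 : ω ≠ 0 := by
    rintro rfl
    simp at hω
  have hω1 : ω + 1 ≠ 0 := by
    intro h
    have : ω * ω = 0 := by rw [hω, h]
    have h3 : ω = 0 := mul_self_eq_zero.mp this
    exact hω0 h3
  have hN1 : (1 : F) * ω ^ 2 + ω * 1 ^ 2 = 1 := by grind
  have hN2 : (1 : F) * (ω + 1) ^ 2 + (ω + 1) * 1 ^ 2 = 1 := by grind
  have hb1 : Cfsg.hermForm 4 F 2 (s42_pv C 1 1 ω) (s42_pv C 1 1 ω) ≠ 0 := by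
    rw [s42_hh_pv C hF, hN1]; exact one_ne_zero
  have hb2 : Cfsg.hermForm 4 F 2 (s42_pv C 1 1 (ω + 1)) (s42_pv C 1 1 (ω + 1)) ≠ 0 := by
    rw [s42_hh_pv C hF, hN2]; exact one_ne_zero
  have hb12 : Cfsg.hermForm 4 F 2 (s42_pv C 1 1 ω) (s42_pv C 1 1 (ω + 1)) = 0 := by
    rw [s42_hh_pv C hF]; grind
  have hν1 : ω ^ (2 + 1) = 1 := by grind
  have hν2 : (ω + 1) ^ (2 + 1) = 1 := by grind
  have hcomm : Commute (qr 2 (s42_pv C 1 1 ω) ω) (qr 2 (s42_pv C 1 1 (ω + 1)) (ω + 1)) :=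
    qr_comm hF hb1 hb2 hb12 hω0 hω1
  refine ⟨⟨?_, ?_⟩, ?_, ?_, ?_⟩
  · exact Subgroup.mul_mem _ (qr_mem_GU hF hb1 hν1) (qr_mem_GU hF hb2 hν2)
  · show s42_z C ω ∈ Cfsg.Geo.specialLinear (Fin 4) F
    rw [mem_specialLinear_iff]
    unfold s42_z
    rw [Matrix.GeneralLinearGroup.coe_mul, Matrix.det_mul, qr_det hb1 hω0, qr_det hb2 hω1]
    grind
  · unfold s42_z
    rw [hcomm.mul_pow, qr_pow hF hb1 hω0, qr_pow hF hb2 hω1, hν1, hν2, qr_one, qr_one, one_mul]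
  · unfold s42_z
    rw [Matrix.GeneralLinearGroup.coe_mul, ← Matrix.mulVec_mulVec,
      s42_qr_e C hF (by decide) hN2 hω1, s42_qr_e C hF (by decide) hN1 hω0]
  · unfold s42_z
    rw [Matrix.GeneralLinearGroup.coe_mul, ← Matrix.mulVec_mulVec, ← s42_pv_e C 1,
      s42_qr_pv C hF 1 hN2 hω1, s42_qr_pv C hF 1 hN1 hω0, ← s42_pv_f C 1]
    apply s42_pv_congr <;> grind

/-- the element `x` of order 5 -/
theorem s42_exists_x (hF : Fintype.card F = 2 ^ 2) {ω : F} (hω : ω * ω = ω + 1) :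
    ∃ x : GL (Fin 4) F, x ∈ suGL (F := F) 4 2 ∧
      (∀ a : Fin 2 → F, a ≠ 0 → ∃ (j : ℕ) (c : F), c ≠ 0 ∧
        ((x ^ j : GL (Fin 4) F) : Matrix (Fin 4) (Fin 4) F) *ᵥ C.e 0 = c • C.vec a 0) ∧
      (∀ b : Fin 2 → F, b ≠ 0 → ∃ (j : ℕ) (c : F), c ≠ 0 ∧
        ((x ^ j : GL (Fin 4) F) : Matrix (Fin 4) (Fin 4) F) *ᵥ C.f 1 = c • C.vec 0 b) := by
  have h2 := s42_two hF
  obtain ⟨x, hxS, he, hf, -⟩ := x_core hF C 0 (by norm_num) (s42_A ω) (s42_A' ω)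
    (s42_AA' h2 hω) (0 : Matrix (Fin 0) (Fin 0) F)
    (by rw [Matrix.det_isEmpty, s42_A_det h2]; norm_num)
    (fun i => i.elim0)
    (fun b hb hcard X hdet hX => exists_suGL_of_basis hF b hb hcard X hdet hX)
  refine ⟨x, hxS, ?_, ?_⟩
  · intro a ha
    obtain ⟨j, c, hc, hj⟩ := s42_A_trans hF h2 hω a ha
    refine ⟨j, c, hc, ?_⟩
    have h1 := x_vec_e C _ (s42_A ω) he j (Pi.single 0 1)
    rw [C.vec_single_left, one_smul] at h1
    rw [Units.val_pow_eq_pow_val, h1, hj, s42_vec_smul_left]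
  · intro b hb
    obtain ⟨j, c, hc, hj⟩ := s42_A'_trans hF h2 hω b hb
    refine ⟨j, c, hc, ?_⟩
    have h1 := x_vec_f C _ (s42_A' ω) hf j (Pi.single 1 1)
    rw [C.vec_single_right, one_smul] at h1
    rw [Units.val_pow_eq_pow_val, h1, hj, s42_vec_smul_right]

/-- all isotropic vectors are in `Tset` (the analogue of `caseI_V0` for `n = 2 m = 4`) -/
theorem s42_V0 (hF : Fintype.card F = 2 ^ 2) {H : Subgroup (GL (Fin 4) F)}
    (x z : GL (Fin 4) F) (hxH : x ∈ H) (hxU : x ∈ Cfsg.GU 4 F 2) (hzH : z ∈ H)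
    (hzU : z ∈ Cfsg.GU 4 F 2)
    (hz1 : (z : Matrix (Fin 4) (Fin 4) F) *ᵥ C.e 1 = C.f 1)
    (hxE : ∀ a : Fin 2 → F, a ≠ 0 → ∃ (j : ℕ) (c : F), c ≠ 0 ∧
        ((x ^ j : GL (Fin 4) F) : Matrix (Fin 4) (Fin 4) F) *ᵥ C.e 0 = c • C.vec a 0)
    (hxE' : ∀ b : Fin 2 → F, b ≠ 0 → ∃ (j : ℕ) (c : F), c ≠ 0 ∧
        ((x ^ j : GL (Fin 4) F) : Matrix (Fin 4) (Fin 4) F) *ᵥ C.f 1 = c • C.vec 0 b)
    (he0 : C.e 0 ∈ Tset 2 H) :
    ∀ v : Fin 4 → F, Cfsg.hermForm 4 F 2 v v = 0 → v ∈ Tset 2 H := by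
  classical
  have hpowU : ∀ j : ℕ, x ^ j ∈ Cfsg.GU 4 F 2 := fun j => Subgroup.pow_mem _ hxU j
  have hpowH : ∀ j : ℕ, x ^ j ∈ H := fun j => Subgroup.pow_mem _ hxH j
  have hE : ∀ a : Fin 2 → F, C.vec a 0 ∈ Tset 2 H := by
    intro a
    by_cases ha : a = 0
    · subst ha; rw [C.vec_zero]; exact zero_mem_Tset H
    · obtain ⟨j, c, hc, hj⟩ := hxE a ha
      have h1 : c • C.vec a 0 ∈ Tset 2 H := by
        rw [← hj]
        exact act_mem_Tset hF (hpowH j) (hpowU j) he0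
      have h2 := smul_mem_Tset hF h1 c⁻¹
      rwa [smul_smul, inv_mul_cancel₀ hc, one_smul] at h2
  have he1 : C.e 1 ∈ Tset 2 H := by
    have := hE (Pi.single 1 1)
    rwa [C.vec_single_left, one_smul] at this
  have hf1 : C.f 1 ∈ Tset 2 H := by
    have := act_mem_Tset hF hzH hzU he1
    rwa [hz1] at this
  have hE' : ∀ b : Fin 2 → F, C.vec 0 b ∈ Tset 2 H := by
    intro b
    by_cases hb : b = 0
    · subst hb; rw [C.vec_zero]; exact zero_mem_Tset H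
    · obtain ⟨j, c, hc, hj⟩ := hxE' b hb
      have h1 : c • C.vec 0 b ∈ Tset 2 H := by
        rw [← hj]
        exact act_mem_Tset hF (hpowH j) (hpowU j) hf1
      have h2 := smul_mem_Tset hF h1 c⁻¹
      rwa [smul_smul, inv_mul_cancel₀ hc, one_smul] at h2
  intro v hvv
  obtain ⟨a, b, rfl⟩ := C.exists_vec hF v (fun j hj => absurd j.2 (by omega))
  exact lemmaB hF C hE hE' a b hvv

end su42

/-- PSU-42. -/
theorem small42 (hF : Fintype.card F = 2 ^ 2) :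
    ∃ x y : GL (Fin 4) F, x ∈ suGL (F := F) 4 2 ∧ y ∈ suGL (F := F) 4 2 ∧
      utvGroup 4 2 F ≤ Subgroup.closure ({x, y} : Set (GL (Fin 4) F)) := by
  classical
  have h2 := s42_two hF
  obtain ⟨ω, hω⟩ := s42_exists_omega hF
  obtain ⟨C⟩ := exists_wittCfg (q := 2) (n := 4) (F := F) hF 2 (by norm_num)
  obtain ⟨x, hxS, hxE, hxE'⟩ := s42_exists_x C hF hω
  obtain ⟨hzS, hz3, hze0, hze1⟩ := s42_z_facts C hF hω
  have hee0 := C.hee 0 0
  have hc0 : (1 : F) + 1 ^ 2 = 0 := by grind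
  have htS : utv 2 (C.e 0) 1 ∈ suGL (F := F) 4 2 := utv_mem_suGL hF _ hee0 1 hc0
  refine ⟨x, utv 2 (C.e 0) 1 * s42_z C ω, hxS, Subgroup.mul_mem _ htS hzS, ?_⟩
  set H := Subgroup.closure ({x, utv 2 (C.e 0) 1 * s42_z C ω} : Set (GL (Fin 4) F)) with hH
  have hxH : x ∈ H := Subgroup.subset_closure (by simp)
  have hyH : utv 2 (C.e 0) 1 * s42_z C ω ∈ H := Subgroup.subset_closure (by simp)
  obtain ⟨htH, hzH⟩ := utv_and_z_mem hF _ hee0 1 hc0 (s42_z C ω) hzS.1 hz3 hze0 H hyH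
  have he0 : C.e 0 ∈ Tset 2 H := by
    refine ⟨hee0, fun c hc => ?_⟩
    have hc' : c * (c + 1) = 0 := by linear_combination hc
    rcases mul_eq_zero.mp hc' with h | h
    · rw [h, utv_zero _ hee0]; exact H.one_mem
    · have h1 : c = 1 := by linear_combination h - h2
      rw [h1]; exact htH
  apply utvGroup_le_of_Tset
  exact s42_V0 C hF x (s42_z C ω) hxH hxS.1 hzH hzS.1 hze1 hxE hxE' he0

end Cfsg.Agent.Lib.Helper90.Psu
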