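import Cfsg.Agent.Lib.Helper76.SlDefs
import Cfsg.Agent.Lib.Helper5.SLGen

set_option autoImplicit false

/-! K3-MODB-GEN (Sl hive S2332, K3 sub-hive, K3-MODB architect helper95): the two maximal parabolic subgroups
`N(Q) = {g | column 0 = g₀₀ e₀}` and `N(Q') = {g | last row = g_ll e_lastᵀ}` generate `SL_{m+3}(F)`. -/

namespace Cfsg.Agent.Lib.Helper76.Sl

open Matrix Cfsg

variable {F : Type*} [Field F] [Fintype F] [DecidableEq F]

/-- entries of an elementary transvection -/
theorem k3mbgen_transvection_apply {n : ℕ} {i j : Fin n} (hij : i ≠ j) (c : F) (k l : Fin n) :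
    (Matrix.SpecialLinearGroup.transvection hij c).1 k l =
      (if k = l then 1 else 0) + if i = k ∧ j = l then c else 0 := by
  rw [Matrix.SpecialLinearGroup.transvection_coe, Matrix.add_apply, Matrix.one_apply,
    Matrix.single_apply]

open scoped commutatorElement in
/-- K3-MBGEN -/
theorem closure_NQ_NQ' (m : ℕ) :
    Subgroup.closure {g : Gm F (m + 1) | (∀ i, i ≠ 0 → g.1 i 0 = 0) ∨
      (∀ j, j ≠ Fin.last (m + 2) → g.1 (Fin.last (m + 2)) j = 0)} = ⊤ := by
  set S : Set (Gm F (m + 1)) := {g : Gm F (m + 1) | (∀ i, i ≠ 0 → g.1 i 0 = 0) ∨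
      (∀ j, j ≠ Fin.last (m + 2) → g.1 (Fin.last (m + 2)) j = 0)} with hS
  -- transvections `E_ij(c)` with `j ≠ 0` or `i ≠ last` lie in `S`
  have hmem : ∀ (i j : Fin (m + 3)) (hij : i ≠ j) (c : F), (j ≠ 0 ∨ i ≠ Fin.last (m + 2)) →
      Matrix.SpecialLinearGroup.transvection hij c ∈ Subgroup.closure S := by
    intro i j hij c h
    apply Subgroup.subset_closure
    rcases h with hj | hi
    · left
      intro k hk
      rw [k3mbgen_transvection_apply, if_neg hk, if_neg (fun h => hj h.2), add_zero]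
    · right
      intro l hl
      rw [k3mbgen_transvection_apply, if_neg (Ne.symm hl), if_neg (fun h => hi h.1), add_zero]
  apply Cfsg.Agent.Lib.Helper5.eq_top_of_transvection_mem
  intro i j hij c
  by_cases h : j ≠ 0 ∨ i ≠ Fin.last (m + 2)
  · exact hmem i j hij c h
  · push Not at h
    obtain ⟨hj, hi⟩ := h
    subst hj hi
    have h1l : (1 : Fin (m + 3)) ≠ Fin.last (m + 2) := by
      rw [Ne, Fin.ext_iff]; simp
    have h10 : (1 : Fin (m + 3)) ≠ 0 := by
      rw [Ne, Fin.ext_iff]; simp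
    rw [← Cfsg.Agent.Lib.Helper5.commutator_transvection hij h1l.symm h10 c, commutatorElement_def]
    refine Subgroup.mul_mem _ (Subgroup.mul_mem _ (Subgroup.mul_mem _ ?_ ?_) (Subgroup.inv_mem _ ?_))
      (Subgroup.inv_mem _ ?_)
    · exact hmem _ _ _ _ (Or.inl h10)
    · exact hmem _ _ _ _ (Or.inr h1l)
    · exact hmem _ _ _ _ (Or.inl h10)
    · exact hmem _ _ _ _ (Or.inr h1l)

end Cfsg.Agent.Lib.Helper76.Sl
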