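import Cfsg.Agent.Lib.Helper76.SlDefs

/-!
# Sl hive (S2332, helper76): shared leaf K2-QCARD `card_Qset` (needed by K1/K2/K3/K5).
`Qset F m ≃ (Fin (m+1) → F)`, `a ↦ 1 + e_0 (0,a)ᵀ`.  Imports only `SlDefs`.
-/

set_option autoImplicit false

namespace Cfsg.Agent.Lib.Helper76.Sl

open Matrix

variable {F : Type*} [Field F] [Fintype F] [DecidableEq F]

/-- the row vector `(0, a)`. -/
def qcard_row {m : ℕ} (a : Fin (m + 1) → F) : Fin (m + 2) → F := Fin.cons 0 a

omit [Fintype F] in
theorem qcard_row_zero {m : ℕ} (a : Fin (m + 1) → F) : qcard_row a 0 = 0 := rfl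

omit [Fintype F] in
theorem qcard_row_succ {m : ℕ} (a : Fin (m + 1) → F) (j : Fin (m + 1)) :
    qcard_row a j.succ = a j := by
  simp [qcard_row]

omit [Fintype F] in
theorem qcard_det {m : ℕ} (a : Fin (m + 1) → F) :
    (1 + Matrix.vecMulVec (Pi.single (0 : Fin (m + 2)) (1 : F)) (qcard_row a)).det = 1 := by
  rw [Matrix.vecMulVec_eq Unit, Matrix.det_one_add_replicateCol_mul_replicateRow]
  simp [qcard_row_zero]

/-- the element `1 + e_0 (0,a)ᵀ` of `Q`. -/
def qcard_mk (m : ℕ) (a : Fin (m + 1) → F) : Gm F m :=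
  ⟨1 + Matrix.vecMulVec (Pi.single (0 : Fin (m + 2)) (1 : F)) (qcard_row a), qcard_det a⟩

omit [Fintype F] in
theorem qcard_mk_apply (m : ℕ) (a : Fin (m + 1) → F) (i j : Fin (m + 2)) :
    (qcard_mk m a).1 i j =
      (1 : Matrix (Fin (m + 2)) (Fin (m + 2)) F) i j + if i = 0 then qcard_row a j else 0 := by
  simp only [qcard_mk, Matrix.add_apply, Matrix.vecMulVec_apply, Pi.single_apply]
  split_ifs <;> simp

omit [Fintype F] in
theorem qcard_mk_mem (m : ℕ) (a : Fin (m + 1) → F) : qcard_mk m a ∈ Qset F m := by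
  intro i j hi
  rw [qcard_mk_apply, if_neg hi, add_zero]

omit [Fintype F] in
/-- the `(0,0)` entry of an element of `Q` is `1`. -/
theorem qcard_zero_zero (m : ℕ) (g : Gm F m) (hg : g ∈ Qset F m) : g.1 0 0 = 1 := by
  have htri : Matrix.BlockTriangular g.1 id := by
    intro i j hij
    have hi : i ≠ 0 := by
      rintro rfl
      exact absurd hij (by simp)
    rw [hg i j hi, Matrix.one_apply_ne]
    exact (ne_of_lt hij).symm
  have hdet := Matrix.det_of_upperTriangular htri
  rw [g.2, Fin.prod_univ_succ] at hdet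
  have h1 : ∀ i : Fin (m + 1), g.1 i.succ i.succ = 1 := by
    intro i
    rw [hg i.succ i.succ (Fin.succ_ne_zero i), Matrix.one_apply_eq]
  simp only [h1, Finset.prod_const_one, mul_one] at hdet
  exact hdet.symm

/-- `Q ≃ F^(m+1)`. -/
def qcard_equiv (m : ℕ) : Qset F m ≃ (Fin (m + 1) → F) where
  toFun g := fun j => g.1.1 0 j.succ
  invFun a := ⟨qcard_mk m a, qcard_mk_mem m a⟩
  left_inv g := by
    apply Subtype.ext
    apply Subtype.ext
    ext i j
    show (qcard_mk m (fun j => g.1.1 0 j.succ)).1 i j = g.1.1 i j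
    rw [qcard_mk_apply]
    by_cases hi : i = 0
    · subst hi
      rw [if_pos rfl]
      refine Fin.cases ?_ (fun k => ?_) j
      · rw [qcard_row_zero, add_zero, Matrix.one_apply_eq, qcard_zero_zero m g.1 g.2]
      · rw [qcard_row_succ, Matrix.one_apply_ne (Fin.succ_ne_zero k).symm, zero_add]
    · rw [if_neg hi, add_zero, g.2 i j hi]
  right_inv a := by
    funext j
    show (qcard_mk m a).1 0 j.succ = a j
    rw [qcard_mk_apply, if_pos rfl, qcard_row_succ,
      Matrix.one_apply_ne (Fin.succ_ne_zero j).symm, zero_add]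

/-- K2-QCARD (shared): `|Q| = q^(m+1)`. -/
theorem card_Qset (m : ℕ) : Nat.card (Qset F m) = Fintype.card F ^ (m + 1) := by
  rw [Nat.card_congr (qcard_equiv m), Nat.card_eq_fintype_card, Fintype.card_fun, Fintype.card_fin]

omit [Fintype F] in
/-- every element of `Q` is `qcard_mk` of its first row. -/
theorem qcard_eq_mk (m : ℕ) (g : Gm F m) (hg : g ∈ Qset F m) :
    g = qcard_mk m (fun j => g.1 0 j.succ) :=
  (congrArg (fun x : Qset F m => (x : Gm F m)) ((qcard_equiv m).left_inv ⟨g, hg⟩)).symm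

omit [Fintype F] in
theorem qcard_row_add {m : ℕ} (a b : Fin (m + 1) → F) :
    qcard_row (a + b) = qcard_row a + qcard_row b := by
  funext j
  refine Fin.cases ?_ (fun k => ?_) j
  · simp [qcard_row_zero]
  · simp [qcard_row_succ]

omit [Fintype F] in
/-- `Q` is (isomorphic to) the additive group `F^(m+1)`. -/
theorem qcard_mk_mul (m : ℕ) (a b : Fin (m + 1) → F) :
    qcard_mk m a * qcard_mk m b = qcard_mk m (a + b) := by
  apply Subtype.ext
  show (1 + Matrix.vecMulVec (Pi.single (0 : Fin (m + 2)) (1 : F)) (qcard_row a)) *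
      (1 + Matrix.vecMulVec (Pi.single (0 : Fin (m + 2)) (1 : F)) (qcard_row b)) =
    1 + Matrix.vecMulVec (Pi.single (0 : Fin (m + 2)) (1 : F)) (qcard_row (a + b))
  rw [Matrix.add_mul, Matrix.mul_add, Matrix.mul_add, Matrix.one_mul, Matrix.one_mul, Matrix.mul_one,
    Matrix.vecMulVec_mul_vecMulVec, qcard_row_add, Matrix.vecMulVec_add]
  have h0 : qcard_row a ⬝ᵥ (Pi.single (0 : Fin (m + 2)) (1 : F)) = 0 := by
    simp [qcard_row_zero]
  rw [h0]
  simp only [zero_smul, Matrix.vecMulVec_zero, add_zero]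
  abel

omit [Fintype F] in
theorem qcard_mk_zero (m : ℕ) : qcard_mk m (0 : Fin (m + 1) → F) = 1 := by
  apply Subtype.ext
  ext i j
  rw [qcard_mk_apply]
  have : qcard_row (0 : Fin (m + 1) → F) j = 0 := by
    refine Fin.cases ?_ (fun k => ?_) j
    · exact qcard_row_zero _
    · rw [qcard_row_succ]; rfl
  rw [this]; simp

end Cfsg.Agent.Lib.Helper76.Sl
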