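import Cfsg.Agent.S1350
import Cfsg.Agent.S1378
import Cfsg.Agent.S1404
import Cfsg.Agent.S1417
import Cfsg.Agent.S1418
import Cfsg.Agent.S1420
import Cfsg.Agent.S1423
import Cfsg.Agent.S1425
import Cfsg.Agent.S1432
import Cfsg.Agent.Lib.Helper19.BG124a
import Cfsg.Agent.Lib.Helper22.FStar
import Cfsg.Agent.Lib.Helper23.FitUniqueB
import Cfsg.Agent.Lib.Helper23.TransCore
import Cfsg.Agent.Lib.Helper63.BG13a
import Cfsg.Agent.Lib.Helper64.SylowMax
import Cfsg.Agent.Lib.Helper96.BG127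
import Cfsg.Agent.Lib.Helper96.BG141N
import Cfsg.Agent.Lib.Helper96.BG1435Defs
import Cfsg.Agent.Lib.Helper56.BG143
import Cfsg.Agent.Lib.Helper47.BG1435LA
import Cfsg.Agent.Lib.Helper24.BG1435LB

set_option autoImplicit false
set_option linter.style.haveILetI false
set_option linter.unusedSectionVars false
set_option linter.unusedVariables false

/-!
# S1435, clauses 5 and 6: the core (`K` centralizes `E' = [E,E]`)
-/

namespace Cfsg.Agent.Lib.Helper96.BG1435

open Subgroup Cfsg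
open scoped commutatorElement

universe u

variable {G : Type u} [Group G] [Finite G]

/-- the `n`-torsion of a commutative subgroup -/
def tors (Q : Subgroup G) (hQ : ∀ a ∈ Q, ∀ b ∈ Q, a * b = b * a) (n : ℕ) : Subgroup G where
  carrier := {e | e ∈ Q ∧ e ^ n = 1}
  one_mem' := ⟨Q.one_mem, one_pow n⟩
  mul_mem' := by
    rintro a b ⟨ha, ha'⟩ ⟨hb, hb'⟩
    refine ⟨Q.mul_mem ha hb, ?_⟩
    rw [(show Commute a b from hQ a ha b hb).mul_pow, ha', hb', one_mul]
  inv_mem' := by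
    rintro a ⟨ha, ha'⟩
    exact ⟨Q.inv_mem ha, by rw [inv_pow, ha', inv_one]⟩

theorem mem_tors {Q : Subgroup G} {hQ : ∀ a ∈ Q, ∀ b ∈ Q, a * b = b * a} {n : ℕ} {e : G} :
    e ∈ tors Q hQ n ↔ e ∈ Q ∧ e ^ n = 1 := Iff.rfl

theorem tors_le {Q : Subgroup G} {hQ : ∀ a ∈ Q, ∀ b ∈ Q, a * b = b * a} {n : ℕ} :
    tors Q hQ n ≤ Q := fun _ h => h.1

theorem le_normalizer_tors {Q X : Subgroup G} {hQ : ∀ a ∈ Q, ∀ b ∈ Q, a * b = b * a} {n : ℕ}
    (hX : X ≤ normalizer (Q : Set G)) : X ≤ normalizer ((tors Q hQ n : Subgroup G) : Set G) := by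
  intro g hg
  apply Subgroup.mem_normalizer_fintype
  intro e he
  have he' : e ∈ tors Q hQ n := he
  rw [mem_tors] at he'
  show g * e * g⁻¹ ∈ tors Q hQ n
  rw [mem_tors]
  refine ⟨(mem_normalizer_iff.mp (hX hg) e).mp he'.1, ?_⟩
  rw [conj_pow, he'.2, mul_one, mul_inv_cancel]

theorem isPGroup_tors {Q : Subgroup G} {hQ : ∀ a ∈ Q, ∀ b ∈ Q, a * b = b * a} (p N : ℕ) :
    IsPGroup p (tors Q hQ (p ^ N)) := by
  intro e
  refine ⟨N, ?_⟩
  apply Subtype.ext
  have := e.2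
  rw [mem_tors] at this
  simpa using this.2

/-- `X` normalizes `⁅A, B⁆` if it normalizes `A` and `B` -/
theorem le_normalizer_commutator' {X A B : Subgroup G}
    (hA : X ≤ normalizer (A : Set G)) (hB : X ≤ normalizer (B : Set G)) :
    X ≤ normalizer ((⁅A, B⁆ : Subgroup G) : Set G) := by
  intro y hy
  apply Subgroup.mem_normalizer_fintype
  intro n hn
  have hle : ⁅A, B⁆ ≤ (⁅A, B⁆).comap (MulAut.conj y).toMonoidHom := by
    rw [Subgroup.commutator_le]
    intro a ha b hb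
    rw [Subgroup.mem_comap]
    show (MulAut.conj y).toMonoidHom ⁅a, b⁆ ∈ ⁅A, B⁆
    rw [map_commutatorElement]
    apply Subgroup.commutator_mem_commutator
    · exact (Subgroup.mem_normalizer_iff.mp (hA hy) a).mp ha
    · exact (Subgroup.mem_normalizer_iff.mp (hB hy) b).mp hb
  exact hle hn

namespace Cfg

variable {H Ms K E : Subgroup G}

theorem hK1 (c : Cfg H Ms K E) : K ≠ ⊥ := by
  intro h
  have := c.hKp
  rw [h, Subgroup.card_bot] at this
  exact Nat.not_prime_one this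

theorem hKH (c : Cfg H Ms K E) : K ≤ H := c.hKE.trans c.hE.1

theorem hne (c : Cfg H Ms K E) : H ≠ Ms := by
  intro h
  exact c.hnc 1 (by rw [BG141N.map_conj_one]; exact h)

theorem hnc' (c : Cfg H Ms K E) : ∀ g : G, Ms ≠ H.map (MulAut.conj g).toMonoidHom := by
  intro g h
  apply c.hnc g⁻¹
  rw [h, Cfsg.Agent.Lib.Helper64.map_conj_map_conj, inv_mul_cancel, BG141N.map_conj_one]

/-- `t = |K| ∈ σ(M*)` -/
theorem t_mem (c : Cfg H Ms K E) : Nat.card K ∈ sigma Ms :=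
  Cfsg.Agent.Lib.Helper47.BG11.mem_sigma_of_dvd_card_le c.hKMs c.hKp dvd_rfl

/-- `t = |K| ∉ σ(H)` -/
theorem t_not_mem (hG : IsMinSimpleOddOrder G) (c : Cfg H Ms K E) : Nat.card K ∉ sigma H :=
  fun h => BG141N.sigma_disj hG c.hMs c.hH c.hnc c.t_mem h

/-- an element `k ≠ 1` of `K` generates `K` -/
theorem zpowers_eq (c : Cfg H Ms K E) {k : G} (hk : k ∈ K) (hk1 : k ≠ 1) : zpowers k = K := by
  have hle : zpowers k ≤ K := (zpowers_le).mpr hk
  apply Subgroup.eq_of_le_of_card_ge hle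
  have h1 : Nat.card (zpowers k) ∣ Nat.card K := Subgroup.card_dvd_of_le hle
  rcases (Nat.dvd_prime c.hKp).mp h1 with h | h
  · exfalso
    apply hk1
    have := Subgroup.card_eq_one.mp h
    rw [zpowers_eq_bot] at this
    exact this
  · exact h.ge

theorem orderOf_eq (c : Cfg H Ms K E) {k : G} (hk : k ∈ K) (hk1 : k ≠ 1) :
    orderOf k = Nat.card K := by
  rw [← Nat.card_zpowers, c.zpowers_eq hk hk1]

theorem centralizer_eq (c : Cfg H Ms K E) {k : G} (hk : k ∈ K) (hk1 : k ≠ 1) :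
    centralizer ({k} : Set G) = centralizer (K : Set G) := by
  rw [← BG141N.centralizer_zpowers_eq, c.zpowers_eq hk hk1]

theorem exists_ne_one (c : Cfg H Ms K E) : ∃ k ∈ K, k ≠ 1 := by
  by_contra h
  apply c.hK1
  rw [Subgroup.eq_bot_iff_forall]
  intro k hk
  by_contra hk1
  exact h ⟨k, hk, hk1⟩

/-- (K1) `K` acts fixed-point-freely on `H_σ` -/
theorem cent_K (hG : IsMinSimpleOddOrder G) (c : Cfg H Ms K E) :
    sigmaCore H ⊓ centralizer (K : Set G) = ⊥ := by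
  rw [Subgroup.eq_bot_iff_forall]
  intro x hx
  by_contra hx1
  obtain ⟨k, hk, hk1⟩ := c.exists_ne_one
  have hkx : k * x = x * k := (mem_centralizer_iff.mp hx.2) k hk
  have hCN : centralizer ({k} : Set G) ≤ Ms := by rw [c.centralizer_eq hk hk1]; exact c.hCK
  have := BG141N.mem_kappa_of_cent_unique hG c.hH c.hKp (c.hKH hk) (c.orderOf_eq hk hk1)
    (c.t_not_mem hG) hx.1 hx1 hkx c.hMs c.hne.symm hCN
  rw [c.hκ] at this
  exact this

/-- (K2) `H_σ ∩ M* = 1` -/
theorem sigmaCore_inf (hG : IsMinSimpleOddOrder G) (c : Cfg H Ms K E) :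
    sigmaCore H ⊓ Ms = ⊥ := by
  rw [Subgroup.eq_bot_iff_forall]
  intro y hy
  have hbot := BG141N.sigmaCore_inf_eq_bot hG c.hMs c.hH c.hnc
  have hyc : y ∈ sigmaCore H ⊓ centralizer (K : Set G) := by
    refine ⟨hy.1, ?_⟩
    show y ∈ centralizer (K : Set G)
    rw [mem_centralizer_iff]
    intro k hk
    have h1 : y * k * y⁻¹ * k⁻¹ ∈ sigmaCore Ms := by
      have h2 : y * k * y⁻¹ ∈ sigmaCore Ms :=
        Cfsg.Agent.Lib.Helper56.BG143.conj_mem_sigmaCore hy.2 (c.hKMs hk)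
      exact mul_mem h2 (inv_mem (c.hKMs hk))
    have h3 : y * k * y⁻¹ * k⁻¹ ∈ sigmaCore H := by
      have h4 : k * y⁻¹ * k⁻¹ ∈ sigmaCore H :=
        Cfsg.Agent.Lib.Helper56.BG143.conj_mem_sigmaCore (c.hKH hk) (inv_mem hy.1)
      have : y * k * y⁻¹ * k⁻¹ = y * (k * y⁻¹ * k⁻¹) := by group
      rw [this]
      exact mul_mem hy.1 h4
    have h5 : y * k * y⁻¹ * k⁻¹ ∈ sigmaCore Ms ⊓ sigmaCore H := ⟨h1, h3⟩
    rw [hbot, mem_bot] at h5
    calc k * y = (y * k * y⁻¹ * k⁻¹)⁻¹ * y * k := by group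
      _ = y * k := by rw [h5]; group
  rw [c.cent_K hG, mem_bot] at hyc
  exact hyc

theorem commutator_le_self' (E : Subgroup G) : ⁅E, E⁆ ≤ E := by
  rw [Subgroup.commutator_le]
  intro a ha b hb
  exact E.mul_mem (E.mul_mem (E.mul_mem ha hb) (E.inv_mem ha)) (E.inv_mem hb)

theorem le_normalizer_sigmaCore (M : Subgroup G) : M ≤ normalizer ((sigmaCore M : Subgroup G) : Set G) := by
  intro m hm
  apply Subgroup.mem_normalizer_fintype
  intro n hn
  exact Cfsg.Agent.Lib.Helper56.BG143.conj_mem_sigmaCore hm hn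

/-- (K3') `K` centralizes `E' = ⁅E,E⁆` -/
theorem centralizes_commutator (hG : IsMinSimpleOddOrder G) (c : Cfg H Ms K E) :
    K ≤ centralizer ((⁅E, E⁆ : Subgroup G) : Set G) := by
  by_contra hncent
  have hσH := (Cfsg.Agent.S1350.result hG H c.hH).1
  have h20 := Cfsg.Agent.S1420.result hG H c.hH E c.hE
  have hQ : ∀ a ∈ ⁅E, E⁆, ∀ b ∈ ⁅E, E⁆, a * b = b * a := by
    intro a ha b hb
    exact congrArg Subtype.val (h20.2.1.is_comm.comm ⟨a, ha⟩ ⟨b, hb⟩)
  have hEE : E ≤ normalizer ((⁅E, E⁆ : Subgroup G) : Set G) :=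
    le_normalizer_commutator' le_normalizer le_normalizer
  have hKQ : K ≤ normalizer ((⁅E, E⁆ : Subgroup G) : Set G) := c.hKE.trans hEE
  have hE'E : ⁅E, E⁆ ≤ E := commutator_le_self' E
  have hEH : E ≤ H := c.hE.1
  haveI : Fact (Nat.card K).Prime := ⟨c.hKp⟩
  -- the `t`-part
  have ht : ∀ e ∈ ⁅E, E⁆, e ^ (Nat.card K) ^ (Nat.card ↥⁅E, E⁆) = 1 → ∀ k ∈ K, k * e = e * k := by
    intro e he hpow k hk
    have hKP : K ≤ normalizer ((tors ⁅E, E⁆ hQ ((Nat.card K) ^ (Nat.card ↥⁅E, E⁆)) : Subgroup G) : Set G) :=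
      le_normalizer_tors hKQ
    have hKpg : IsPGroup (Nat.card K) K := IsPGroup.of_card (n := 1) (by rw [pow_one])
    have hT : IsPGroup (Nat.card K) (K ⊔ tors ⁅E, E⁆ hQ ((Nat.card K) ^ (Nat.card ↥⁅E, E⁆)) : Subgroup G) :=
      hKpg.to_sup_of_normal_right' (isPGroup_tors _ _) hKP
    have hTH : K ⊔ tors ⁅E, E⁆ hQ ((Nat.card K) ^ (Nat.card ↥⁅E, E⁆)) ≤ H :=
      sup_le c.hKH (tors_le.trans (hE'E.trans hEH))
    have hnil : Group.IsNilpotent ↥(K ⊔ tors ⁅E, E⁆ hQ ((Nat.card K) ^ (Nat.card ↥⁅E, E⁆)) : Subgroup G) :=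
      hT.isNilpotent
    have hprimes : ∀ p : ℕ, p.Prime →
        p ∣ Nat.card ↥(K ⊔ tors ⁅E, E⁆ hQ ((Nat.card K) ^ (Nat.card ↥⁅E, E⁆)) : Subgroup G) → p ∉ sigma H := by
      intro p hp hd
      obtain ⟨n, hn⟩ := hT.exists_card_eq
      rw [hn] at hd
      have : p = Nat.card K := (Nat.prime_dvd_prime_iff_eq hp c.hKp).mp (hp.dvd_of_dvd_pow hd)
      rw [this]
      exact c.t_not_mem hG
    have hcomm := h20.1 _ hTH hnil hprimes
    exact congrArg Subtype.val
      (hcomm.is_comm.comm ⟨k, (le_sup_left : K ≤ _) hk⟩ ⟨e, (le_sup_right : _ ≤ K ⊔ _) ⟨he, hpow⟩⟩)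
  obtain ⟨s, hs, hst, S, hSQ, hS1, hSs, hKS, hfpf⟩ :=
    exists_fpf_of_not_centralizes hQ hKQ c.hKp ht hncent
  haveI : Fact s.Prime := ⟨hs⟩
  have hSE : S ≤ E := hSQ.trans hE'E
  have hSH : S ≤ H := hSE.trans hEH
  have hnormσ := le_normalizer_sigmaCore H
  have hcopE : (Nat.card ↥(sigmaCore H)).Coprime (Nat.card E) :=
    Nat.Coprime.coprime_mul_right_right (BG141N.coprime_sigmaCore hG c.hH c.hE c.hMs c.hnc')
  have hsolv : Group.IsSolvable ↥(sigmaCore H) :=
    Cfsg.Agent.Lib.Helper23.isSolvable_of_ne_top hG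
      (fun h => c.hH.1 (top_le_iff.mp (h ▸ Cfsg.Agent.Lib.Helper56.BG143.sigmaCore_le' H)))
  have hScent : S ≤ centralizer ((sigmaCore H : Subgroup G) : Set G) :=
    le_centralizer_of_frobenius c.hK1 hKS hfpf (hSH.trans hnormσ) (c.hKH.trans hnormσ) hsolv
      (Nat.Coprime.mul_right (hcopE.coprime_dvd_right (Subgroup.card_dvd_of_le hSE))
        (hcopE.coprime_dvd_right (Subgroup.card_dvd_of_le c.hKE))) (c.cent_K hG)
  obtain ⟨x, hx, hx1⟩ : ∃ x ∈ sigmaCore H, x ≠ 1 := by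
    by_contra h
    apply Cfsg.Agent.Lib.Helper19.BG124.sigmaCore_ne_bot hG c.hH
    rw [Subgroup.eq_bot_iff_forall]
    intro y hy
    by_contra hy1
    exact h ⟨y, hy, hy1⟩
  -- every non-identity element of `S` has order `s ∈ τ₂(H)` and `H` is the only maximal
  -- subgroup over its centralizer
  have key : ∀ x' ∈ S, x' ≠ 1 → s ∈ tau2 H ∧ centralizer ({x'} : Set G) ≤ H ∧
      ∀ L : Subgroup G, IsCoatom L → centralizer ({x'} : Set G) ≤ L → L = H := by
    intro x' hx' hx'1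
    have ho : orderOf x' = s := orderOf_eq_prime (hSs x' hx') hx'1
    have hsE : s ∣ Nat.card E := by
      rw [← ho]
      have := orderOf_dvd_natCard (⟨x', hSE hx'⟩ : E)
      rwa [Subgroup.orderOf_mk] at this
    have hsσ : s ∉ sigma H := BG127.not_mem_sigma_of_dvd_card_compl hσH c.hE hs hsE
    have hmem : x' ∈ H ⊓ centralizer ({x} : Set G) := by
      refine ⟨hSH hx', ?_⟩
      show x' ∈ centralizer ({x} : Set G)
      rw [mem_centralizer_singleton_iff]
      exact ((mem_centralizer_iff.mp (hScent hx')) x hx).symm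
    have hσ' : ∀ p : ℕ, p.Prime → p ∣ orderOf x' → p ∉ sigma H := by
      intro p hp hd
      rw [ho] at hd
      rw [(Nat.prime_dvd_prime_iff_eq hp hs).mp hd]
      exact hsσ
    rcases Cfsg.Agent.S1432.result hG H c.hH x hx hx1 x' hmem hx'1 hσ' with h | h
    · exfalso
      have := h.1 s hs (by rw [ho])
      rw [c.hκ] at this
      exact this
    · exact ⟨h.1 s hs (by rw [ho]), h.2.2.1, h.2.2.2⟩
  obtain ⟨x', hx'S, hx'1⟩ : ∃ x' ∈ S, x' ≠ 1 := by
    by_contra h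
    apply hS1
    rw [Subgroup.eq_bot_iff_forall]
    intro y hy
    by_contra hy1
    exact h ⟨y, hy, hy1⟩
  obtain ⟨hτ2, hCx', hux'⟩ := key x' hx'S hx'1
  have hScomm : IsMulCommutative S :=
    ⟨⟨fun a b => Subtype.ext (hQ a (hSQ a.2) b (hSQ b.2))⟩⟩
  have hxS : x ∈ centralizer (S : Set G) := by
    rw [mem_centralizer_iff]
    intro y hy
    exact ((mem_centralizer_iff.mp (hScent hy)) x hx).symm
  -- `|S| = s`
  have hScard : Nat.card S = s := by
    have hSp : IsPGroup s S := by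
      intro a
      refine ⟨1, ?_⟩
      apply Subtype.ext
      simpa using hSs a a.2
    obtain ⟨n, hn⟩ := hSp.exists_card_eq
    have hr2 : Nat.card S ≤ s ^ 2 := by
      have h1 := hτ2.2.2.1 (S.subgroupOf H)
        ⟨⟨fun a b => by
          apply Subtype.ext
          apply Subtype.ext
          exact hQ a.1.1 (hSQ a.2) b.1.1 (hSQ b.2)⟩⟩
        (by
          intro a ha
          apply Subtype.ext
          have := hSs a.1 (mem_subgroupOf.mp ha)
          simpa using this)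
      rwa [Nat.card_congr (Subgroup.subgroupOfEquivOfLe hSH).toEquiv] at h1
    have hn0 : n ≠ 0 := by
      intro h0
      rw [h0, pow_zero] at hn
      exact hS1 (Subgroup.card_eq_one.mp hn)
    have hn2 : n ≠ 2 := by
      intro h2
      rw [h2] at hn
      have h17 := Cfsg.Agent.S1417.result hG H c.hH s hτ2 S ⟨hSH, ⟨hScomm, hSs⟩, hn⟩
      have hbot := h17.2.2.2.1
      have : x ∈ sigmaCore H ⊓ centralizer (S : Set G) := ⟨hx, hxS⟩
      rw [hbot, mem_bot] at this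
      exact hx1 this
    have hnle : n ≤ 2 := by
      rw [hn] at hr2
      exact (Nat.pow_le_pow_iff_right hs.one_lt).mp hr2
    have : n = 1 := by omega
    rw [hn, this, pow_one]
  -- `S = ⟨x'⟩`
  have hSz : zpowers x' = S := by
    have hle : zpowers x' ≤ S := (zpowers_le).mpr hx'S
    apply Subgroup.eq_of_le_of_card_ge hle
    rw [Nat.card_zpowers, orderOf_eq_prime (hSs x' hx'S) hx'1, hScard]
  have hCS : centralizer (S : Set G) = centralizer ({x'} : Set G) := by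
    rw [← hSz, BG141N.centralizer_zpowers_eq]
  -- an elementary abelian subgroup `A` of order `s²` of `E`
  obtain ⟨A, hAE, hAel, hAc⟩ := BG127.exists_elemAb_sq_le_compl c.hE hτ2
  have h18 := Cfsg.Agent.S1418.result hG H c.hH E c.hE s hτ2 A ⟨hAE, hAel, hAc⟩
  have hEA : E ≤ normalizer (A : Set G) := h18.1.1
  have hKA : K ≤ normalizer (A : Set G) := c.hKE.trans hEA
  have hAH : A ≤ H := hAE.trans hEH
  have h17 := Cfsg.Agent.S1417.result hG H c.hH s hτ2 A ⟨hAH, hAel, hAc⟩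
  have hCA : sigmaCore H ⊓ centralizer (A : Set G) = ⊥ := h17.2.2.2.1
  have hAcomm : ∀ a ∈ A, ∀ b ∈ A, a * b = b * a := by
    intro a ha b hb
    exact congrArg Subtype.val (hAel.1.is_comm.comm ⟨a, ha⟩ ⟨b, hb⟩)
  -- a non-identity element `b` of `A` centralized by `K`
  obtain ⟨b, hbA, hb1, hbK⟩ : ∃ b ∈ A, b ≠ 1 ∧ ∀ k ∈ K, k * b = b * k := by
    by_contra hno
    have hfpfA : ∀ e ∈ K, e ≠ 1 → ∀ u ∈ A, e * u = u * e → u = 1 := by
      intro e he he1 u hu hcomm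
      by_contra hu1
      apply hno
      refine ⟨u, hu, hu1, ?_⟩
      intro k hk
      have : k ∈ zpowers e := by rw [c.zpowers_eq he he1]; exact hk
      obtain ⟨n, rfl⟩ := mem_zpowers_iff.mp this
      exact ((Commute.zpow_left (show Commute e u from hcomm) n)).eq
    have hAcent : A ≤ centralizer ((sigmaCore H : Subgroup G) : Set G) :=
      le_centralizer_of_frobenius c.hK1 hKA hfpfA (hAH.trans hnormσ) (c.hKH.trans hnormσ) hsolv
        (Nat.Coprime.mul_right (hcopE.coprime_dvd_right (Subgroup.card_dvd_of_le hAE))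
          (hcopE.coprime_dvd_right (Subgroup.card_dvd_of_le c.hKE))) (c.cent_K hG)
    have : x ∈ sigmaCore H ⊓ centralizer (A : Set G) := by
      refine ⟨hx, ?_⟩
      show x ∈ centralizer (A : Set G)
      rw [mem_centralizer_iff]
      intro a ha
      exact ((mem_centralizer_iff.mp (hAcent ha)) x hx).symm
    rw [hCA, mem_bot] at this
    exact hx1 this
  obtain ⟨k, hk, hk1⟩ := c.exists_ne_one
  have hbo : orderOf b = s := orderOf_eq_prime (hAel.2 b hbA) hb1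
  have hbMs : b ∈ Ms := by
    apply c.hCK
    rw [mem_centralizer_iff]
    intro k' hk'
    exact hbK k' hk'
  by_cases hsMs : s ∈ sigma Ms
  · -- (iv) `s ∈ σ(M*)`
    have hY1 : K ⊔ S ≠ ⊥ := fun h => c.hK1 (le_bot_iff.mp (h ▸ le_sup_left))
    have hYσ : ∀ p : ℕ, p.Prime → p ∣ Nat.card ↥(K ⊔ S) → p ∈ sigma Ms := by
      intro p hp hd
      have hdvd := Cfsg.Agent.Lib.Helper23.card_sup_dvd_of_le_normalizer K S hKS
      rcases (Nat.Prime.dvd_mul hp).mp (hd.trans hdvd) with h | h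
      · rw [(Nat.prime_dvd_prime_iff_eq hp c.hKp).mp h]
        exact c.t_mem
      · rw [hScard] at h
        rw [(Nat.prime_dvd_prime_iff_eq hp hs).mp h]
        exact hsMs
    obtain ⟨g, hg⟩ := Cfsg.Agent.S1425.result hG Ms c.hMs (K ⊔ S) hY1 hYσ
    have hwS : k * x' * k⁻¹ * x'⁻¹ ∈ S :=
      S.mul_mem ((mem_normalizer_iff.mp (hKS hk) x').mp hx'S) (S.inv_mem hx'S)
    have hw1 : k * x' * k⁻¹ * x'⁻¹ ≠ 1 := by
      intro h
      apply hx'1
      apply hfpf k hk hk1 x' hx'S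
      calc k * x' = (k * x' * k⁻¹ * x'⁻¹) * x' * k := by group
        _ = x' * k := by rw [h, one_mul]
    have hgk : g * k * g⁻¹ ∈ sigmaCore Ms := hg ⟨k, (le_sup_left : K ≤ K ⊔ S) hk, rfl⟩
    have hgx : g * x' * g⁻¹ ∈ sigmaCore Ms := hg ⟨x', (le_sup_right : S ≤ K ⊔ S) hx'S, rfl⟩
    have hgw : g * (k * x' * k⁻¹ * x'⁻¹) * g⁻¹ = ⁅g * k * g⁻¹, g * x' * g⁻¹⁆ := by
      rw [commutatorElement_def]
      group
    have hXcomm : g * (k * x' * k⁻¹ * x'⁻¹) * g⁻¹ ∈ ⁅sigmaCore Ms, sigmaCore Ms⁆ := by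
      rw [hgw]
      exact Subgroup.commutator_mem_commutator hgk hgx
    have hwo : orderOf (k * x' * k⁻¹ * x'⁻¹) = s := orderOf_eq_prime (hSs _ hwS) hw1
    have hXc : Nat.card (zpowers (g * (k * x' * k⁻¹ * x'⁻¹) * g⁻¹)) = s := by
      have hoc : orderOf (g * (k * x' * k⁻¹ * x'⁻¹) * g⁻¹) = orderOf (k * x' * k⁻¹ * x'⁻¹) := by
        have := orderOf_injective (MulAut.conj g).toMonoidHom (MulAut.conj g).injective
          (k * x' * k⁻¹ * x'⁻¹)
        simpa using this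
      rw [Nat.card_zpowers, hoc, hwo]
    have hXle : zpowers (g * (k * x' * k⁻¹ * x'⁻¹) * g⁻¹) ≤ ⁅sigmaCore Ms, sigmaCore Ms⁆ :=
      (zpowers_le).mpr hXcomm
    have hXMs : zpowers (g * (k * x' * k⁻¹ * x'⁻¹) * g⁻¹) ≤ Ms :=
      hXle.trans ((commutator_le_self' _).trans (Cfsg.Agent.Lib.Helper56.BG143.sigmaCore_le' Ms))
    obtain ⟨P⟩ : Nonempty (Sylow s ↥(sigmaCore Ms)) := inferInstance
    have h23 := Cfsg.Agent.S1423.result hG Ms c.hMs s hsMs _ hXMs hXc P (Or.inr hXle)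
    have hSw : zpowers (k * x' * k⁻¹ * x'⁻¹) = S := by
      have hle : zpowers (k * x' * k⁻¹ * x'⁻¹) ≤ S := (zpowers_le).mpr hwS
      apply Subgroup.eq_of_le_of_card_ge hle
      rw [Nat.card_zpowers, hwo, hScard]
    have hCw : centralizer ({k * x' * k⁻¹ * x'⁻¹} : Set G) ≤ H := by
      rw [← BG141N.centralizer_zpowers_eq, hSw, hCS]
      exact hCx'
    have hle : centralizer ((zpowers (g * (k * x' * k⁻¹ * x'⁻¹) * g⁻¹) : Subgroup G) : Set G) ≤
        H.map (MulAut.conj g).toMonoidHom := by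
      rw [BG141N.centralizer_zpowers_eq, ← Cfsg.Agent.Lib.Helper22.map_conj_centralizer_singleton]
      exact Subgroup.map_mono hCw
    have := h23.1.2 (H.map (MulAut.conj g).toMonoidHom)
      (Cfsg.Agent.Lib.Helper64.isCoatom_map_conj c.hH g) hle
    exact c.hnc' g this.symm
  · -- (v) `s ∉ σ(M*)`
    have hmem : b ∈ Ms ⊓ centralizer ({k} : Set G) := by
      refine ⟨hbMs, ?_⟩
      show b ∈ centralizer ({k} : Set G)
      rw [mem_centralizer_singleton_iff]
      exact (hbK k hk).symm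
    have hσ' : ∀ p : ℕ, p.Prime → p ∣ orderOf b → p ∉ sigma Ms := by
      intro p hp hd
      rw [hbo] at hd
      rw [(Nat.prime_dvd_prime_iff_eq hp hs).mp hd]
      exact hsMs
    rcases Cfsg.Agent.S1432.result hG Ms c.hMs k (c.hKMs hk) hk1 b hmem hb1 hσ' with h | h
    · -- (v.1) `s ∈ κ(M*)`
      exact c.hκMs s (h.1 s hs (by rw [hbo])) S hScard (by rw [hCS]; exact hCx')
        (by rw [hCS]; exact hux')
    · -- (v.2) `s ∈ τ₂(M*)`
      have hτ2' : s ∈ tau2 Ms := h.1 s hs (by rw [hbo])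
      have hAMs : A ≤ Ms := by
        intro a ha
        apply h.2.2.1
        rw [mem_centralizer_singleton_iff]
        exact hAcomm a ha b hbA
      have h17' := Cfsg.Agent.S1417.result hG Ms c.hMs s hτ2' A ⟨hAMs, hAel, hAc⟩
      have hbot := h17'.2.2.2.2.1 H c.hH c.hne hAH
      have : k ∈ sigmaCore Ms ⊓ H := ⟨c.hKMs hk, c.hKH hk⟩
      rw [hbot, mem_bot] at this
      exact hk1 this

end Cfg

end Cfsg.Agent.Lib.Helper96.BG1435
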