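import Mathlib
import Cfsg.Agent.S0556

set_option autoImplicit false

/-! Groups in which the centralizer of every noncentral element is maximal. -/

namespace Cfsg.Agent.Lib.Helper96

open Subgroup

section
variable {G : Type*} [Group G]

theorem mem_center_of_centralizer_eq_top {g : G} (h : centralizer ({g} : Set G) = ⊤) :
    g ∈ center G := by
  rw [mem_center_iff]
  intro w
  have : w ∈ centralizer ({g} : Set G) := h ▸ mem_top w
  exact mem_centralizer_singleton_iff.mp this

theorem centralizer_ne_top_of_not_mem_center {g : G} (h : g ∉ center G) :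
    centralizer ({g} : Set G) ≠ ⊤ := fun ht => h (mem_center_of_centralizer_eq_top ht)

theorem centralizer_pow_eq
    (hc : ∀ g : G, g ∉ center G → IsCoatom (centralizer ({g} : Set G)))
    {g : G} (hg : g ∉ center G) {k : ℕ} (hk : g ^ k ∉ center G) :
    centralizer ({g ^ k} : Set G) = centralizer ({g} : Set G) := by
  refine ((hc g hg).le_iff_eq (centralizer_ne_top_of_not_mem_center hk)).mp ?_
  intro w hw
  rw [mem_centralizer_singleton_iff] at hw ⊢
  exact (Commute.pow_right (show Commute w g from hw) k).eq

/-- Key lemma: commuting noncentral elements with different centralizers have the same order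
modulo the centre. -/
theorem pow_mem_center_of_commute
    (hc : ∀ g : G, g ∉ center G → IsCoatom (centralizer ({g} : Set G)))
    {x y : G} (hx : x ∉ center G) (hy : y ∉ center G) (hxy : Commute x y)
    (hne : centralizer ({x} : Set G) ≠ centralizer ({y} : Set G)) {n : ℕ}
    (hn : x ^ n ∈ center G) : y ^ n ∈ center G := by
  by_contra hyn
  have hwn : (x * y) ^ n = x ^ n * y ^ n := hxy.mul_pow n
  have hwnZ : (x * y) ^ n ∉ center G := by
    intro h
    apply hyn
    have : y ^ n = (x ^ n)⁻¹ * ((x * y) ^ n) := by rw [hwn]; group
    rw [this]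
    exact (center G).mul_mem ((center G).inv_mem hn) h
  have hwZ : x * y ∉ center G := fun h => hwnZ ((center G).pow_mem h n)
  have h1 : centralizer ({(x * y) ^ n} : Set G) = centralizer ({y ^ n} : Set G) := by
    ext w
    rw [mem_centralizer_singleton_iff, mem_centralizer_singleton_iff, hwn]
    have hcz : ∀ v : G, v * x ^ n = x ^ n * v := fun v => (mem_center_iff.mp hn v)
    constructor
    · intro h
      have : x ^ n * (w * y ^ n) = x ^ n * (y ^ n * w) := by
        calc x ^ n * (w * y ^ n) = w * (x ^ n * y ^ n) := by
              rw [← mul_assoc, ← hcz w, mul_assoc]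
          _ = x ^ n * y ^ n * w := h
          _ = x ^ n * (y ^ n * w) := by rw [mul_assoc]
      exact mul_left_cancel this
    · intro h
      calc w * (x ^ n * y ^ n) = x ^ n * (w * y ^ n) := by rw [← mul_assoc, hcz w, mul_assoc]
        _ = x ^ n * (y ^ n * w) := by rw [h]
        _ = x ^ n * y ^ n * w := by rw [mul_assoc]
  have h2 := centralizer_pow_eq hc hwZ hwnZ
  have h3 := centralizer_pow_eq hc hy hyn
  have h4 : centralizer ({x * y} : Set G) = centralizer ({y} : Set G) := by
    rw [← h2, h1, h3]
  apply hne
  refine ((hc y hy).le_iff_eq (centralizer_ne_top_of_not_mem_center hx)).mp ?_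
  intro w hw
  have hw' : w ∈ centralizer ({x * y} : Set G) := h4 ▸ hw
  rw [mem_centralizer_singleton_iff] at hw hw' ⊢
  calc w * x = w * (x * y) * y⁻¹ := by group
    _ = x * y * w * y⁻¹ := by rw [hw']
    _ = x * (y * w) * y⁻¹ := by group
    _ = x * (w * y) * y⁻¹ := by rw [hw]
    _ = x * w := by group

/-- commuting noncentral elements with different centralizers have a common prime order modulo
the centre -/
theorem exists_prime_pow_mem_center [Finite G]
    (hc : ∀ g : G, g ∉ center G → IsCoatom (centralizer ({g} : Set G)))
    {x y : G} (hx : x ∉ center G) (hy : y ∉ center G) (hxy : Commute x y)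
    (hne : centralizer ({x} : Set G) ≠ centralizer ({y} : Set G)) :
    ∃ p : ℕ, p.Prime ∧ x ^ p ∈ center G ∧ y ^ p ∈ center G := by
  -- n = order of x modulo centre
  set n := orderOf (QuotientGroup.mk' (center G) x) with hn
  have hmem : ∀ (g : G) (k : ℕ), g ^ k ∈ center G ↔ (QuotientGroup.mk' (center G) g) ^ k = 1 := by
    intro g k
    rw [← map_pow]
    exact (QuotientGroup.eq_one_iff _).symm
  have hn1 : n ≠ 1 := by
    intro h
    rw [hn, orderOf_eq_one_iff] at h
    exact hx ((QuotientGroup.eq_one_iff x).mp h)
  have hxn : x ^ n ∈ center G := by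
    rw [hmem, hn]; exact pow_orderOf_eq_one _
  obtain ⟨p, hp, hpn⟩ := Nat.exists_prime_and_dvd hn1
  obtain ⟨b, hb⟩ := hpn
  have hxp : x ^ p ∈ center G := by
    by_contra hxp
    have h1 := centralizer_pow_eq hc hx hxp
    have h2 : (x ^ p) ^ b ∈ center G := by rw [← pow_mul, ← hb]; exact hxn
    have h3 : y ^ b ∈ center G :=
      pow_mem_center_of_commute hc hxp hy (hxy.pow_left p) (by rw [h1]; exact hne) h2
    have h4 : x ^ b ∈ center G :=
      pow_mem_center_of_commute hc hy hx hxy.symm (Ne.symm hne) h3
    rw [hmem] at h4
    have h5 : n ∣ b := orderOf_dvd_of_pow_eq_one h4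
    have hnpos : 0 < n := orderOf_pos _
    have hbpos : 0 < b := by
      rcases Nat.eq_zero_or_pos b with h | h
      · rw [h, mul_zero] at hb; omega
      · exact h
    have h6 : n ≤ b := Nat.le_of_dvd hbpos h5
    have h7 : b < n := by
      rw [hb]
      calc b = 1 * b := (one_mul b).symm
        _ < p * b := Nat.mul_lt_mul_of_pos_right hp.one_lt hbpos
    omega
  exact ⟨p, hp, hxp, pow_mem_center_of_commute hc hx hy hxy hne hxp⟩

end

/-- Main reduction: if odd-order nilpotent maximal subgroups force solvability (Thompson), then a
finite group all of whose noncentral centralizers are maximal is solvable. -/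
theorem isSolvable_of_centralizers_isCoatom.{u}
    (hT : ∀ (H : Type u) [Group H] [Finite H] (M : Subgroup H), IsCoatom M →
      Group.IsNilpotent M → Odd (Nat.card M) → Group.IsSolvable H)
    {G : Type u} [Group G] [Finite G]
    (hc : ∀ g : G, g ∉ center G → IsCoatom (centralizer ({g} : Set G))) : Group.IsSolvable G := by
  classical
  -- abelian centralizer: Herstein
  by_cases hab : ∃ x : G, x ∉ center G ∧ IsMulCommutative (centralizer ({x} : Set G))
  · obtain ⟨x, hx, hcomm⟩ := hab
    have := Cfsg.Agent.S0556.result (centralizer ({x} : Set G)) (hc x hx)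
    exact (Group.isSolvable_def G).mpr ⟨3, this⟩
  push Not at hab
  set Z := center G with hZ
  set π := QuotientGroup.mk' Z with hπ
  have hπs : Function.Surjective π := QuotientGroup.mk'_surjective Z
  have hπone : ∀ g : G, π g = 1 ↔ g ∈ Z := fun g => QuotientGroup.eq_one_iff g
  -- every noncentral element has prime order p mod Z and its centralizer has exponent p mod Z
  have key : ∀ x : G, x ∉ Z → ∃ p : ℕ, p.Prime ∧ orderOf (π x) = p ∧
      ∀ m ∈ centralizer ({x} : Set G), m ^ p ∈ Z := by
    intro x hx
    have hna := hab x hx
    -- noncommuting pair in the centralizer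
    obtain ⟨a, b, hab'⟩ : ∃ a b : centralizer ({x} : Set G), a * b ≠ b * a := by
      by_contra hno
      push Not at hno
      exact hna ⟨⟨fun a b => hno a b⟩⟩
    have haZ : (a : G) ∉ Z := by
      intro h
      apply hab'
      apply Subtype.ext
      exact (mem_center_iff.mp h (b : G)).symm
    have hax : Commute x (a : G) := (mem_centralizer_singleton_iff.mp a.2).symm
    have hne : centralizer ({x} : Set G) ≠ centralizer ({(a : G)} : Set G) := by
      intro h
      have : (b : G) ∈ centralizer ({(a : G)} : Set G) := h ▸ b.2
      rw [mem_centralizer_singleton_iff] at this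
      apply hab'
      apply Subtype.ext
      exact this.symm
    obtain ⟨p, hp, hxp, hap⟩ := exists_prime_pow_mem_center hc hx haZ hax hne
    haveI := Fact.mk hp
    have hordx : orderOf (π x) = p := by
      refine orderOf_eq_prime ?_ ?_
      · rw [← map_pow, hπone]; exact hxp
      · rw [Ne, hπone]; exact hx
    have horda : orderOf (π (a : G)) = p := by
      refine orderOf_eq_prime ?_ ?_
      · rw [← map_pow, hπone]; exact hap
      · rw [Ne, hπone]; exact haZ
    refine ⟨p, hp, hordx, ?_⟩
    intro m hm
    by_cases hmZ : m ∈ Z
    · exact Z.pow_mem hmZ p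
    have hxm : Commute x m := (mem_centralizer_singleton_iff.mp hm).symm
    by_cases hcm : centralizer ({x} : Set G) = centralizer ({m} : Set G)
    · -- use a
      have ham : Commute m (a : G) := by
        have : (a : G) ∈ centralizer ({m} : Set G) := hcm ▸ a.2
        exact (mem_centralizer_singleton_iff.mp this).symm
      obtain ⟨q, hq, hmq, haq⟩ := exists_prime_pow_mem_center hc hmZ haZ ham (by rw [← hcm]; exact hne)
      haveI := Fact.mk hq
      have : orderOf (π (a : G)) = q := by
        refine orderOf_eq_prime ?_ ?_
        · rw [← map_pow, hπone]; exact haq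
        · rw [Ne, hπone]; exact haZ
      have hqp : q = p := by rw [← this, horda]
      rw [← hqp]; exact hmq
    · obtain ⟨q, hq, hxq, hmq⟩ := exists_prime_pow_mem_center hc hx hmZ hxm hcm
      haveI := Fact.mk hq
      have : orderOf (π x) = q := by
        refine orderOf_eq_prime ?_ ?_
        · rw [← map_pow, hπone]; exact hxq
        · rw [Ne, hπone]; exact hx
      have hqp : q = p := by rw [← this, hordx]
      rw [← hqp]; exact hmq
  -- G/Z solvable
  have hquot : Group.IsSolvable (G ⧸ Z) := by
    by_cases hodd : ∃ y : G, y ∉ Z ∧ orderOf (π y) ≠ 2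
    · obtain ⟨y, hy, hy2⟩ := hodd
      obtain ⟨p, hp, hordy, hexp⟩ := key y hy
      haveI := Fact.mk hp
      set M := centralizer ({y} : Set G) with hM
      have hZM : Z ≤ M := center_le_centralizer _
      have hker : π.ker = Z := QuotientGroup.ker_mk' Z
      have hcomap : (M.map π).comap π = M := by
        rw [comap_map_eq, hker, sup_eq_left.mpr hZM]
      have hco : IsCoatom (M.map π) := by
        refine ⟨?_, ?_⟩
        · intro h
          rw [h, comap_top] at hcomap
          exact (hc y hy).1 hcomap.symm
        · intro K hK
          have h1 : M ≤ K.comap π := by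
            rw [← hcomap]; exact comap_mono hK.le
          have h2 : K.comap π ≠ M := by
            intro h
            have : K = M.map π := by
              rw [← h, map_comap_eq_self_of_surjective hπs]
            exact hK.ne' this
          have h3 : K.comap π = ⊤ := (hc y hy).2 _ (lt_of_le_of_ne h1 (Ne.symm h2))
          rw [← map_comap_eq_self_of_surjective hπs K, h3, ← MonoidHom.range_eq_map,
            MonoidHom.range_eq_top.mpr hπs]
      have hpg : IsPGroup p (M.map π) := by
        rintro ⟨_, m, hm, rfl⟩
        refine ⟨1, Subtype.ext ?_⟩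
        simp only [pow_one, SubgroupClass.coe_pow, coe_one]
        rw [← map_pow, hπone]
        exact hexp m hm
      have hnil : Group.IsNilpotent (M.map π) := hpg.isNilpotent
      have hoddc : Odd (Nat.card (M.map π)) := by
        obtain ⟨k, hk⟩ := IsPGroup.iff_card.mp hpg
        rw [hk]
        have hp2 : p ≠ 2 := by rw [← hordy]; exact hy2
        exact (hp.odd_of_ne_two hp2).pow
      exact hT (G ⧸ Z) (M.map π) hco hnil hoddc
    · push Not at hodd
      -- exponent 2 modulo Z : 2-group
      have hpg : IsPGroup 2 (G ⧸ Z) := by
        intro g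
        obtain ⟨y, rfl⟩ := hπs g
        by_cases hy : y ∈ Z
        · exact ⟨0, by rw [(hπone y).mpr hy]; simp⟩
        · refine ⟨1, ?_⟩
          rw [pow_one, ← hodd y hy]
          exact pow_orderOf_eq_one _
      haveI : Fact (Nat.Prime 2) := ⟨Nat.prime_two⟩
      haveI := hpg.isNilpotent
      exact inferInstance
  haveI : Group.IsSolvable Z := by
    haveI : IsMulCommutative Z := inferInstance
    exact Group.isSolvable_of_comm (fun a b => mul_comm' a b)
  exact Group.isSolvable_of_ker_le_range Z.subtype π (by
    rw [QuotientGroup.ker_mk', Subgroup.range_subtype])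

end Cfsg.Agent.Lib.Helper96
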