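import Cfsg.Agent.Lib.Helper96.E0Main
import Cfsg.Agent.Lib.Helper24.HallDecomp
import Cfsg.Agent.Lib.Helper90.BGPP2
import Cfsg.Agent.Lib.Helper76.BGSigU3
import Cfsg.Agent.S1350
import Cfsg.Agent.S1405
import Cfsg.Agent.S1417
import Cfsg.Agent.S1418

/-!
# B&G Theorem 12.12(b) / 12.9(b) with (PP) and (STRUCTURE) plugged in

Only the nonabelian case `NonabStmt` remains a hypothesis here.  `s1360_of` is S1360 in this form.
-/

set_option autoImplicit false
set_option linter.unusedSectionVars false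
set_option linter.unusedVariables false
set_option linter.style.haveILetI false

universe u

namespace Cfsg.Agent.Lib.Helper96.E0Main

open Subgroup Cfsg
open Cfsg.Agent.Lib.Helper10.BG13

variable {G : Type u} [Group G]

theorem stmtR1417 [Finite G] (hG : IsMinSimpleOddOrder G) : StmtR1417 G :=
  fun M hM p _ hp A hA => Cfsg.Agent.S1417.result hG M hM p hp A hA

theorem stmtR1418 [Finite G] (hG : IsMinSimpleOddOrder G) : StmtR1418 G :=
  fun M hM E hE p _ hp A hA => Cfsg.Agent.S1418.result hG M hM E hE p hp A hA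

theorem ppStmt [Finite G] (hG : IsMinSimpleOddOrder G) : PPStmt G :=
  fun M E hM hE p _ hp A hA x hxE r k hr _ hxo hreg =>
    Cfsg.Agent.Lib.Helper90.BGPP.pp_main hG hM hE hp hA hxE hr hxo hreg

theorem structStmt [Finite G] : StructStmt G :=
  fun V T Pf hPf => Cfsg.Agent.Lib.Helper24.HallDecomp.exists_abelian_hall_decomp T Pf hPf

/-- **B&G 12.12(b) / 12.9(b)** for a normal Hall subgroup `V` of `E`, modulo the nonabelian case. -/
theorem exists_regular_full_exponent_of_nonab [Finite G] (hG : IsMinSimpleOddOrder G)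
    (hNon : NonabStmt G) {M E : Subgroup G}
    (hM : IsCoatom M) (hE : IsComplIn E (sigmaCore M) M)
    {V : Subgroup G} (hVE : V ≤ E) (hVn : E ≤ normalizer (V : Set G))
    (hVhall : (Nat.card V).Coprime (V.relIndex E))
    (hH : ∀ e ∈ V, e ≠ 1 → (∀ q : ℕ, q.Prime → q ∣ orderOf e → q ∈ tau1 M ∪ tau3 M) →
      sigmaCore M ⊓ centralizer ({e} : Set G) = ⊥) :
    ∃ V₀ : Subgroup G, V₀ ≤ V ∧ Monoid.exponent V₀ = Monoid.exponent V ∧
      ∀ e ∈ V₀, e ≠ 1 → sigmaCore M ⊓ centralizer ({e} : Set G) = ⊥ :=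
  exists_regular_full_exponent_of hG (stmtR1417 hG) (stmtR1418 hG) (ppStmt hG) structStmt hNon
    hM hE hVE hVn hVhall hH

/-- `τ₂(M)` is disjoint from `τ₁(M) ∪ τ₃(M)` -/
theorem not_tau13_of_tau2 {M : Subgroup G} {q : ℕ} (h2 : q ∈ tau2 M) :
    q ∉ tau1 M ∪ tau3 M := by
  rintro (h | h)
  · exact h2.2.2.2 h.2.2.2.2
  · exact h2.2.2.2 h.2.2.2

/-- **S1360**, modulo the nonabelian case. -/
theorem s1360_of [Finite G] (hG : IsMinSimpleOddOrder G) (hNon : NonabStmt G)
    (M : Subgroup G) (hM : IsCoatom M) (K U : Subgroup G) (hKU : IsSigmaDecomposition M K U) :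
    ∃ U₀ : Subgroup G, U₀ ≤ U ∧ Monoid.exponent U₀ = Monoid.exponent U ∧
      ∀ u ∈ U₀, u ∈ sigmaHat M → u = 1 := by
  classical
  have h50 := Cfsg.Agent.S1350.result hG M hM
  have h05 := Cfsg.Agent.S1405.result hG M hM
  have hσ : IsPiHallOf (sigma M) (sigmaCore M) M := h50.1
  have hE : IsComplIn (U ⊔ K) (sigmaCore M) M :=
    Cfsg.Agent.Lib.Helper76.BGSigU.isComplIn_UK hσ hKU
  have hVE : U ≤ U ⊔ K := le_sup_left
  have hVn : U ⊔ K ≤ normalizer (U : Set G) := sup_le le_normalizer hKU.normal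
  have hrel : U.relIndex (U ⊔ K) ∣ Nat.card K := by
    have h1 := Cfsg.Agent.Lib.Helper10.card_sup_mul_card_inf hKU.normal
    have h2 := Cfsg.Agent.Lib.Helper76.BGSigU.card_mul_relIndex hVE
    have h3 : Nat.card (U ⊔ K : Subgroup G) ∣ Nat.card K * Nat.card U := by
      rw [sup_comm]
      exact Dvd.intro _ h1
    rw [← h2, mul_comm (Nat.card K)] at h3
    exact Nat.dvd_of_mul_dvd_mul_left Nat.card_pos h3
  have hVhall : (Nat.card U).Coprime (U.relIndex (U ⊔ K)) := by
    apply Nat.coprime_of_dvd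
    intro q hq hqU hqr
    exact Cfsg.Agent.Lib.Helper76.BGSigU.not_kappa_of_dvd_card_U hKU hq hqU
      (hKU.hall.2.1 q hq (hqr.trans hrel))
  have hH : ∀ e ∈ U, e ≠ 1 →
      (∀ q : ℕ, q.Prime → q ∣ orderOf e → q ∈ tau1 M ∪ tau3 M) →
      sigmaCore M ⊓ centralizer ({e} : Set G) = ⊥ := by
    intro e heU he1 hq13
    rw [eq_bot_iff]
    intro y hy
    rw [Subgroup.mem_bot]
    by_contra hy1
    obtain ⟨q, hq, m, hm⟩ := exists_prime_order_pow he1
    haveI : Fact q.Prime := ⟨hq⟩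
    have hv1 : e ^ m ≠ 1 := by
      intro h
      rw [h, orderOf_one] at hm
      exact hq.one_lt.ne' hm.symm
    have hvq : (e ^ m) ^ q = 1 := by rw [← hm]; exact pow_orderOf_eq_one _
    have hye : e * y = y * e := by
      have := (Subgroup.mem_centralizer_iff.mp hy.2) e rfl
      exact this
    have hc : e ^ m * y = y * e ^ m := by
      have : Commute e y := hye
      exact (this.pow_left m).eq
    have hq2 : q ∈ tau2 M :=
      Cfsg.Agent.Lib.Helper76.BGSigU.mem_tau2_of_mem_U hG.1 hσ h05.1 h05.2.2.1 hKU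
        (U.pow_mem heU m) hv1 hvq hy.1 hy1 hc
    have hqd : q ∣ orderOf e := by
      rw [← hm]
      exact orderOf_pow_dvd m
    exact not_tau13_of_tau2 hq2 (hq13 q hq hqd)
  obtain ⟨U₀, hU₀U, hexp, hreg⟩ :=
    exists_regular_full_exponent_of_nonab hG hNon hM hE hVE hVn hVhall hH
  refine ⟨U₀, hU₀U, hexp, ?_⟩
  rintro u hu ⟨huM, y, hy, hy1, huy⟩
  by_contra hu1
  have h1 := hreg u hu hu1
  apply hy1
  have h3 : y ∈ centralizer ({u} : Set G) := by
    rw [Subgroup.mem_centralizer_iff]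
    intro z hz
    rw [Set.mem_singleton_iff] at hz
    subst hz
    exact huy
  have h2 : y ∈ sigmaCore M ⊓ centralizer ({u} : Set G) := ⟨hy, h3⟩
  rw [h1] at h2
  exact Subgroup.mem_bot.mp h2

end Cfsg.Agent.Lib.Helper96.E0Main
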