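import Cfsg.Agent.Lib.Helper96.FLCORETRIVcore
import Cfsg.Agent.Lib.Helper4.FLCORESPLIT

set_option autoImplicit false

/-! # FL hive (S2863), leaf FL-CORETRIV `core_triv` (exact skeleton statement). -/

namespace Cfsg.Agent.Lib.Helper47.FL

open Cfsg

section core

variable {H : Type*} [Group H] {Y A : Subgroup H}

/-- LEAF CORE-TRIV. -/
theorem core_triv (h : CoreSetup Y A) {a : H} (ha : a ∈ A)
    (hfix : ∀ x : H, x * a * x⁻¹ * a⁻¹ ∈ Y ⊓ Subgroup.center H) : a ∈ Y ⊓ Subgroup.center H :=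
  coretriv_core h (fun _ hg _ ha' => core_split h hg ha') ha hfix

end core

end Cfsg.Agent.Lib.Helper47.FL
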