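import Cfsg.Agent.Lib.Helper6.Ls.Defs
import Cfsg.Agent.Lib.Helper13.UnitaryConfig
import Cfsg.Agent.Lib.Helper13.UnitaryLift
import Cfsg.Prelude.Def_Classical

set_option autoImplicit false

/-! # Ls hive (S2334/S2335), leaf LS-C-FIXT: the core, with the statements of C-EMAT
(`Emat_mulVec`, `coe_Eelt`, `Eelt_mem_suGL`) and C-ZG (`Zgrp_smul`) as hypotheses. -/

namespace Cfsg.Agent.Lib.Helper6.Ls

open Module Cfsg.Agent.Lib.Helper99

section concrete

variable {F : Type*} [Field F] [Fintype F] {q : ℕ}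

/-- conjugating a root subgroup by an element of `SU`. -/
theorem cfixt_map_conj (hF : Fintype.card F = q ^ 2) {n : ℕ} (g : SUg F n q) (x : Fin n → F)
    (hx : Cfsg.hermForm n F q x x = 0) :
    (Zgrp x).map (MulAut.conj g).toMonoidHom =
      Zgrp (Matrix.mulVec ((g : GL (Fin n) F) : Matrix (Fin n) (Fin n) F) x) := by
  unfold Zgrp
  rw [MonoidHom.map_closure]
  congr 1
  ext h
  constructor
  · rintro ⟨z, ⟨c, hc, hz⟩, rfl⟩
    refine ⟨c, hc, ?_⟩
    show ((g * z * g⁻¹ : SUg F n q) : GL (Fin n) F) = _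
    rw [Subgroup.coe_mul, Subgroup.coe_mul, Subgroup.coe_inv, hz]
    exact conj_utv _ g.2.1 x hx c
  · rintro ⟨c, hc, hh'⟩
    refine ⟨⟨utv q x c, utv_mem_suGL hF x hx c hc⟩, ⟨c, hc, rfl⟩, ?_⟩
    apply Subtype.ext
    show ((g * ⟨utv q x c, utv_mem_suGL hF x hx c hc⟩ * g⁻¹ : SUg F n q) : GL (Fin n) F) = _
    rw [Subgroup.coe_mul, Subgroup.coe_mul, Subgroup.coe_inv, hh']
    exact conj_utv _ g.2.1 x hx c

theorem cfixt_act_mul {n : ℕ} (g1 g2 : SUg F n q) (x : Fin n → F) :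
    Matrix.mulVec (((g1 * g2 : SUg F n q) : GL (Fin n) F) : Matrix (Fin n) (Fin n) F) x =
      Matrix.mulVec ((g1 : GL (Fin n) F) : Matrix (Fin n) (Fin n) F)
        (Matrix.mulVec ((g2 : GL (Fin n) F) : Matrix (Fin n) (Fin n) F) x) := by
  rw [Subgroup.coe_mul, Units.val_mul, ← Matrix.mulVec_mulVec]

/-- a Siegel element with centre `c0` and direction `w0` (both isotropic, orthogonal). -/
theorem cfixt_siegel (hF : Fintype.card F = q ^ 2) {n : ℕ}
    (hEm : ∀ (e w : Fin n → F) (c : F) (x : Fin n → F), Matrix.mulVec (Emat q e w c) x =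
      x + Cfsg.hermForm n F q x e • (w + c • e) - Cfsg.hermForm n F q x w • e)
    (hcoe : ∀ (e w : Fin n → F), Cfsg.hermForm n F q e e = 0 → Cfsg.hermForm n F q w e = 0 →
      ∀ c : F, ((Eelt q e w c : GL (Fin n) F) : Matrix (Fin n) (Fin n) F) = Emat q e w c)
    (hmem : ∀ (e w : Fin n → F), Cfsg.hermForm n F q e e = 0 → Cfsg.hermForm n F q w e = 0 →
      ∀ c : F, c + c ^ q + Cfsg.hermForm n F q w w = 0 → Eelt q e w c ∈ suGL (F := F) n q)
    (c0 w0 : Fin n → F) (hcc : Cfsg.hermForm n F q c0 c0 = 0)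
    (hww : Cfsg.hermForm n F q w0 w0 = 0) (hwc : Cfsg.hermForm n F q w0 c0 = 0) (σ : F) :
    ∃ g : SUg F n q, ∀ x : Fin n → F,
      Matrix.mulVec ((g : GL (Fin n) F) : Matrix (Fin n) (Fin n) F) x =
        x + (Cfsg.hermForm n F q x c0 * (-σ) ^ q) • w0 + (σ * Cfsg.hermForm n F q x w0) • c0 := by
  have hq : q ≠ 0 := by have := q_ge_two hF; omega
  have h1 : Cfsg.hermForm n F q ((-σ) ^ q • w0) c0 = 0 := by
    rw [Helper13.hermForm_smul_left, hwc, mul_zero]
  have h2 : (0 : F) + 0 ^ q + Cfsg.hermForm n F q ((-σ) ^ q • w0) ((-σ) ^ q • w0) = 0 := by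
    rw [Helper13.hermForm_smul_left, Helper13.hermForm_smul_right, hww, zero_pow hq]
    ring
  refine ⟨⟨Eelt q c0 ((-σ) ^ q • w0) 0, hmem c0 _ hcc h1 0 h2⟩, fun x => ?_⟩
  show Matrix.mulVec ((Eelt q c0 ((-σ) ^ q • w0) 0 : GL (Fin n) F) : Matrix (Fin n) (Fin n) F) x = _
  rw [hcoe c0 _ hcc h1, hEm, Helper13.hermForm_smul_right, Helper13.pow_q_pow_q hF]
  module

/-- the two families of unipotent elements acting on the totally isotropic line `⟨e, u⟩`, and the
element moving `(e, u)` to a prescribed pair of independent points of the line. -/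
theorem cfixt_pair (hF : Fintype.card F = q ^ 2) {n : ℕ}
    (hEm : ∀ (e w : Fin n → F) (c : F) (x : Fin n → F), Matrix.mulVec (Emat q e w c) x =
      x + Cfsg.hermForm n F q x e • (w + c • e) - Cfsg.hermForm n F q x w • e)
    (hcoe : ∀ (e w : Fin n → F), Cfsg.hermForm n F q e e = 0 → Cfsg.hermForm n F q w e = 0 →
      ∀ c : F, ((Eelt q e w c : GL (Fin n) F) : Matrix (Fin n) (Fin n) F) = Emat q e w c)
    (hmem : ∀ (e w : Fin n → F), Cfsg.hermForm n F q e e = 0 → Cfsg.hermForm n F q w e = 0 →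
      ∀ c : F, c + c ^ q + Cfsg.hermForm n F q w w = 0 → Eelt q e w c ∈ suGL (F := F) n q)
    (e f u u' : Fin n → F)
    (hee : Cfsg.hermForm n F q e e = 0) (hff : Cfsg.hermForm n F q f f = 0)
    (hef : Cfsg.hermForm n F q e f = 1)
    (huu : Cfsg.hermForm n F q u u = 0) (hu'u' : Cfsg.hermForm n F q u' u' = 0)
    (huu' : Cfsg.hermForm n F q u u' = 1)
    (heu : Cfsg.hermForm n F q e u = 0) (heu' : Cfsg.hermForm n F q e u' = 0)
    (hfu : Cfsg.hermForm n F q f u = 0)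
    (a b a' b' : F) (hab : a ≠ 0 ∨ b ≠ 0) (hD : a * b' - b * a' ≠ 0) :
    ∃ g : SUg F n q, ∃ l l' : F, l ≠ 0 ∧ l' ≠ 0 ∧
      Matrix.mulVec ((g : GL (Fin n) F) : Matrix (Fin n) (Fin n) F) e = l • (a • e + b • u) ∧
      Matrix.mulVec ((g : GL (Fin n) F) : Matrix (Fin n) (Fin n) F) u = l' • (a' • e + b' • u) := by
  have hue : Cfsg.hermForm n F q u e = 0 := hermForm_eq_zero_comm hF heu
  have huf : Cfsg.hermForm n F q u f = 0 := hermForm_eq_zero_comm hF hfu
  have hu'e : Cfsg.hermForm n F q u' e = 0 := hermForm_eq_zero_comm hF heu'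
  -- `L σ : e ↦ e + σ u, u ↦ u`
  have hL : ∀ σ : F, ∃ g : SUg F n q,
      Matrix.mulVec ((g : GL (Fin n) F) : Matrix (Fin n) (Fin n) F) e = e + σ • u ∧
      Matrix.mulVec ((g : GL (Fin n) F) : Matrix (Fin n) (Fin n) F) u = u := by
    intro σ
    obtain ⟨g, hg⟩ := cfixt_siegel hF hEm hcoe hmem u f huu hff hfu σ
    refine ⟨g, ?_, ?_⟩
    · rw [hg, heu, hef]; module
    · rw [hg, huu, huf]; module
  -- `U τ : e ↦ e, u ↦ u + τ e`
  have hU : ∀ τ : F, ∃ g : SUg F n q,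
      Matrix.mulVec ((g : GL (Fin n) F) : Matrix (Fin n) (Fin n) F) e = e ∧
      Matrix.mulVec ((g : GL (Fin n) F) : Matrix (Fin n) (Fin n) F) u = u + τ • e := by
    intro τ
    obtain ⟨g, hg⟩ := cfixt_siegel hF hEm hcoe hmem e u' hee hu'u' hu'e τ
    refine ⟨g, ?_, ?_⟩
    · rw [hg, hee, heu']; module
    · rw [hg, hue, huu']; module
  by_cases ha : a = 0
  · -- `a = 0`
    have hb : b ≠ 0 := by
      rcases hab with h | h
      · exact absurd ha h
      · exact h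
    have ha' : a' ≠ 0 := by
      intro h
      apply hD
      rw [ha, h]; ring
    obtain ⟨gA, hAe, hAu⟩ := hL 1
    obtain ⟨gB, hBe, hBu⟩ := hU (-1)
    obtain ⟨gC, hCe, hCu⟩ := hL (b' / a')
    refine ⟨gC * (gA * (gB * gA)), b⁻¹, -a'⁻¹, inv_ne_zero hb, neg_ne_zero.mpr (inv_ne_zero ha'),
      ?_, ?_⟩
    · rw [cfixt_act_mul, cfixt_act_mul, cfixt_act_mul, hAe, Matrix.mulVec_add, Matrix.mulVec_smul,
        hBe, hBu]
      have h1 : e + (1 : F) • (u + (-1 : F) • e) = u := by module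
      rw [h1, hAu, hCu, ha, smul_add, smul_smul, smul_smul, inv_mul_cancel₀ hb]
      module
    · rw [cfixt_act_mul, cfixt_act_mul, cfixt_act_mul, hAu, hBu, Matrix.mulVec_add,
        Matrix.mulVec_smul, hAu, hAe]
      have h1 : u + (-1 : F) • (e + (1 : F) • u) = (-1 : F) • e := by module
      rw [h1, Matrix.mulVec_smul, hCe]
      have h2 : b' / a' = a'⁻¹ * b' := by field_simp
      have h3 : (-a'⁻¹) • (a' • e + b' • u) = (-(a'⁻¹ * a')) • e + (-(a'⁻¹ * b')) • u := by module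
      rw [h3, inv_mul_cancel₀ ha', h2]
      module
  · -- `a ≠ 0`
    obtain ⟨D, hDdef⟩ : ∃ D : F, D = a * b' - b * a' := ⟨_, rfl⟩
    rw [← hDdef] at hD
    obtain ⟨g1, h1e, h1u⟩ := hL (b / a)
    obtain ⟨g2, h2e, h2u⟩ := hU (a * a' / D)
    refine ⟨g1 * g2, a⁻¹, a / D, inv_ne_zero ha, div_ne_zero ha hD, ?_, ?_⟩
    · rw [cfixt_act_mul, h2e, h1e]
      have h2 : b / a = a⁻¹ * b := by field_simp
      have h3 : a⁻¹ • (a • e + b • u) = (a⁻¹ * a) • e + (a⁻¹ * b) • u := by module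
      rw [h3, inv_mul_cancel₀ ha, h2]
      module
    · rw [cfixt_act_mul, h2u, Matrix.mulVec_add, Matrix.mulVec_smul, h1u, h1e]
      have hc1 : a * a' / D = a / D * a' := by field_simp
      have hc2 : 1 + a * a' / D * (b / a) = a / D * b' := by
        field_simp
        rw [hDdef]
        ring
      have h3 : u + (a * a' / D) • (e + (b / a) • u) =
          (a * a' / D) • e + (1 + a * a' / D * (b / a)) • u := by
        module
      rw [h3, hc2, hc1]
      module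

/-- LS-C-FIXT with the statements of C-EMAT and C-ZG as hypotheses. -/
theorem cfixt_core (hF : Fintype.card F = q ^ 2) (n : ℕ)
    (hEm : ∀ (e w : Fin n → F) (c : F) (x : Fin n → F), Matrix.mulVec (Emat q e w c) x =
      x + Cfsg.hermForm n F q x e • (w + c • e) - Cfsg.hermForm n F q x w • e)
    (hcoe : ∀ (e w : Fin n → F), Cfsg.hermForm n F q e e = 0 → Cfsg.hermForm n F q w e = 0 →
      ∀ c : F, ((Eelt q e w c : GL (Fin n) F) : Matrix (Fin n) (Fin n) F) = Emat q e w c)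
    (hmem : ∀ (e w : Fin n → F), Cfsg.hermForm n F q e e = 0 → Cfsg.hermForm n F q w e = 0 →
      ∀ c : F, c + c ^ q + Cfsg.hermForm n F q w w = 0 → Eelt q e w c ∈ suGL (F := F) n q)
    (hsm : ∀ (e : Fin n → F), Cfsg.hermForm n F q e e = 0 → ∀ l : F, l ≠ 0 →
      (Zgrp (l • e) : Subgroup (SUg F n q)) = Zgrp e)
    (e f u u' : Fin n → F)
    (hee : Cfsg.hermForm n F q e e = 0) (hff : Cfsg.hermForm n F q f f = 0)
    (hef : Cfsg.hermForm n F q e f = 1)
    (huu : Cfsg.hermForm n F q u u = 0) (hu'u' : Cfsg.hermForm n F q u' u' = 0)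
    (huu' : Cfsg.hermForm n F q u u' = 1)
    (heu : Cfsg.hermForm n F q e u = 0) (heu' : Cfsg.hermForm n F q e u' = 0)
    (hfu : Cfsg.hermForm n F q f u = 0)
    (v v' : {v : F × F // v ≠ 0}) (hvv' : v.1.1 * v'.1.2 - v.1.2 * v'.1.1 ≠ 0) :
    ∃ g : SUg F n q, (Zgrp e).map (MulAut.conj g).toMonoidHom = Zgrp (v.1.1 • e + v.1.2 • u) ∧
      (Zgrp u).map (MulAut.conj g).toMonoidHom = Zgrp (v'.1.1 • e + v'.1.2 • u) := by
  have hue : Cfsg.hermForm n F q u e = 0 := hermForm_eq_zero_comm hF heu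
  have hiso : ∀ α β : F, Cfsg.hermForm n F q (α • e + β • u) (α • e + β • u) = 0 := by
    intro α β
    simp only [Helper13.hermForm_add_left, Helper13.hermForm_add_right hF,
      Helper13.hermForm_smul_left, Helper13.hermForm_smul_right, hee, huu, heu, hue]
    ring
  have hab : v.1.1 ≠ 0 ∨ v.1.2 ≠ 0 := by
    by_contra hcon
    push Not at hcon
    exact v.2 (Prod.ext hcon.1 hcon.2)
  obtain ⟨g, l, l', hl, hl', hge, hgu⟩ := cfixt_pair hF hEm hcoe hmem e f u u' hee hff hef huu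
    hu'u' huu' heu heu' hfu v.1.1 v.1.2 v'.1.1 v'.1.2 hab hvv'
  refine ⟨g, ?_, ?_⟩
  · rw [cfixt_map_conj hF g e hee, hge, hsm _ (hiso _ _) l hl]
  · rw [cfixt_map_conj hF g u huu, hgu, hsm _ (hiso _ _) l' hl']

end concrete

end Cfsg.Agent.Lib.Helper6.Ls
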