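import Cfsg.Agent.Lib.Helper6.Ls.Defs
import Cfsg.Agent.Lib.Helper13.UnitaryConfig
import Cfsg.Agent.Lib.Helper13.UnitaryLift
import Cfsg.Prelude.Def_Classical
import Cfsg.Agent.Lib.Helper6.Ls.LinePt
import Cfsg.Agent.Lib.Helper96.LsCFIXTcore
import Cfsg.Agent.Lib.Helper8.LsCEMAT
import Cfsg.Agent.Lib.Helper95.LsCZG

set_option autoImplicit false

/-! # Ls hive (S2334/S2335), leaf LS-C-FIXT, BACKUP copy `cfixt_exists_conj_line` (the hive imports Helper99.LsCFIXT `exists_conj_line`),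
from `cfixt_core` (Helper96.LsCFIXTcore) and the landed leaves C-EMAT (helper8), C-ZG (helper95). -/

namespace Cfsg.Agent.Lib.Helper6.Ls

open Module Cfsg.Agent.Lib.Helper99

section concrete

variable {F : Type*} [Field F] [Fintype F] {q : ℕ}

/-- C-FIXT -/
theorem cfixt_exists_conj_line (hF : Fintype.card F = q ^ 2) (n : ℕ) (hn : 4 ≤ n) (e f u u' : Fin n → F)
    (hee : Cfsg.hermForm n F q e e = 0) (hff : Cfsg.hermForm n F q f f = 0)
    (hef : Cfsg.hermForm n F q e f = 1)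
    (huu : Cfsg.hermForm n F q u u = 0) (hu'u' : Cfsg.hermForm n F q u' u' = 0)
    (huu' : Cfsg.hermForm n F q u u' = 1)
    (heu : Cfsg.hermForm n F q e u = 0) (heu' : Cfsg.hermForm n F q e u' = 0)
    (hfu : Cfsg.hermForm n F q f u = 0) (hfu' : Cfsg.hermForm n F q f u' = 0)
    (v v' : LinePt F) (hvv' : v.1.1 * v'.1.2 - v.1.2 * v'.1.1 ≠ 0) :
    ∃ g : SUg F n q, (Zgrp e).map (MulAut.conj g).toMonoidHom = Zgrp (v.1.1 • e + v.1.2 • u) ∧
      (Zgrp u).map (MulAut.conj g).toMonoidHom = Zgrp (v'.1.1 • e + v'.1.2 • u) :=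
  cfixt_core hF n (fun e w c x => Emat_mulVec e w c x)
    (fun e w h1 h2 c => coe_Eelt hF e w h1 h2 c)
    (fun e w h1 h2 c hc => Eelt_mem_suGL hF e w h1 h2 c hc)
    (fun e he l hl => Zgrp_smul hF e he l hl)
    e f u u' hee hff hef huu hu'u' huu' heu heu' hfu v v' hvv'

end concrete

end Cfsg.Agent.Lib.Helper6.Ls
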