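import Mathlib

set_option autoImplicit false

/-! MI-DS core (Mi hive S2140, owner helper81; MI-DS sub-hive architect helper73): the linear-algebra and
counting heart of `caseS_of_num`, stated on `E = Fin k → F` with the standard dot product
(`E` = both `{φ | φ · e0 = 0}` and `F^n / F e0`, `n = k + 1`). Mathlib only. -/

namespace Cfsg.Agent.Lib.Helper81.Mi

open Matrix

section dscore

/-- the `F_p`-algebra structure of a field `F` of characteristic `p = ringChar F` -/
noncomputable abbrev dscAlg (F : Type*) [Field F] : Algebra (ZMod (ringChar F)) F :=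
  ZMod.algebra F (ringChar F)

attribute [local instance] dscAlg

variable {F : Type*} [Field F] [Finite F] {k : ℕ}

/-- the trace pairing `(φ, x) ↦ tr_{F/F_p}(φ · x)` as an `F_p`-bilinear form on `F^k` -/
noncomputable def dscB (F : Type*) [Field F] (k : ℕ) :
    LinearMap.BilinForm (ZMod (ringChar F)) (Fin k → F) :=
  LinearMap.mk₂ (ZMod (ringChar F))
    (fun φ x => Algebra.trace (ZMod (ringChar F)) F (φ ⬝ᵥ x))
    (fun φ₁ φ₂ x => by rw [add_dotProduct, map_add])
    (fun c φ x => by rw [smul_dotProduct, map_smul])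
    (fun φ x₁ x₂ => by rw [dotProduct_add, map_add])
    (fun c φ x => by rw [dotProduct_smul, map_smul])

theorem dscB_apply (φ x : Fin k → F) :
    dscB F k φ x = Algebra.trace (ZMod (ringChar F)) F (φ ⬝ᵥ x) := rfl

theorem dscB_comm (φ x : Fin k → F) : dscB F k φ x = dscB F k x φ := by
  rw [dscB_apply, dscB_apply, dotProduct_comm]

/-- nondegeneracy of the trace form, vector version -/
theorem dsc_sepLeft (φ : Fin k → F) (h : ∀ x : Fin k → F, dscB F k φ x = 0) : φ = 0 := by
  funext i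
  by_contra hi
  obtain ⟨b, hb⟩ := FiniteField.trace_to_zmod_nondegenerate F (a := φ i) hi
  apply hb
  have := h (Pi.single i b)
  rwa [dscB_apply, dotProduct_single] at this

theorem dscB_nondegenerate : (dscB F k).Nondegenerate := by
  refine ⟨fun φ h => dsc_sepLeft φ h, fun x h => dsc_sepLeft x (fun φ => ?_)⟩
  rw [dscB_comm]; exact h φ

/-- exact duality: `|K^⊥| * |K| = q^k` -/
theorem dsc_dual (K : AddSubgroup (Fin k → F)) :
    Nat.card {x : Fin k → F // ∀ φ ∈ K, Algebra.trace (ZMod (ringChar F)) F (φ ⬝ᵥ x) = 0} *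
      Nat.card K = Nat.card F ^ k := by
  haveI : Fact (ringChar F).Prime := ⟨CharP.char_is_prime F _⟩
  set W : Submodule (ZMod (ringChar F)) (Fin k → F) := AddSubgroup.toZModSubmodule _ K with hW
  have h1 := LinearMap.BilinForm.finrank_orthogonal (dscB_nondegenerate (F := F) (k := k)) W
  have h2 : Nat.card {x : Fin k → F // ∀ φ ∈ K, Algebra.trace (ZMod (ringChar F)) F (φ ⬝ᵥ x) = 0}
      = Nat.card ((dscB F k).orthogonal W) := by
    apply Nat.card_congr
    refine Equiv.subtypeEquivRight (fun x => ?_)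
    rw [LinearMap.BilinForm.mem_orthogonal_iff]
    constructor
    · intro h φ hφ
      exact h φ hφ
    · intro h φ hφ
      exact h φ hφ
  have h3 : Nat.card K = Nat.card W := rfl
  rw [h2, h3, Module.natCard_eq_pow_finrank (K := ZMod (ringChar F)),
    Module.natCard_eq_pow_finrank (K := ZMod (ringChar F)) (V := W), ← pow_add, h1]
  have h4 : Module.finrank (ZMod (ringChar F)) W ≤ Module.finrank (ZMod (ringChar F)) (Fin k → F) :=
    Submodule.finrank_le W
  rw [Nat.sub_add_cancel h4, ← Module.natCard_eq_pow_finrank, Nat.card_fun, Nat.card_fin]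


/-- trace nondegeneracy in the form used below -/
theorem dsc_trace_nd (a : F) (h : ∀ c : F, Algebra.trace (ZMod (ringChar F)) F (c * a) = 0) :
    a = 0 := by
  by_contra ha
  obtain ⟨b, hb⟩ := FiniteField.trace_to_zmod_nondegenerate F (a := a) ha
  apply hb
  rw [mul_comm]
  exact h b

/-- the hyperplane `x^⊥` has `q^(k-1)` elements -/
theorem dsc_card_perp (x : Fin k → F) (hx : x ≠ 0) :
    Nat.card {φ : Fin k → F // φ ⬝ᵥ x = 0} * Nat.card F = Nat.card F ^ k := by
  have h1 := dsc_dual (F := F) (k := k) (Submodule.span F {x}).toAddSubgroup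
  have h2 : Nat.card ((Submodule.span F {x}).toAddSubgroup) = Nat.card F :=
    (Nat.card_congr (LinearEquiv.toSpanNonzeroSingleton F (Fin k → F) x hx).toEquiv).symm
  rw [h2] at h1
  rw [← h1]
  congr 1
  apply Nat.card_congr
  refine Equiv.subtypeEquivRight (fun φ => ?_)
  constructor
  · intro h y hy
    obtain ⟨c, rfl⟩ := Submodule.mem_span_singleton.mp hy
    rw [smul_dotProduct, dotProduct_comm, h, smul_zero, map_zero]
  · intro h
    apply dsc_trace_nd
    intro c
    have := h (c • x) (Submodule.smul_mem _ _ (Submodule.mem_span_singleton_self x))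
    rwa [smul_dotProduct, smul_eq_mul, dotProduct_comm] at this

/-- the `F_p`-hyperplane `M_x = {φ | tr (φ · x) = 0}` has `q^k / p` elements -/
theorem dsc_card_M (x : Fin k → F) (hx : x ≠ 0) :
    Nat.card {φ : Fin k → F // Algebra.trace (ZMod (ringChar F)) F (φ ⬝ᵥ x) = 0} * ringChar F =
      Nat.card F ^ k := by
  haveI : Fact (ringChar F).Prime := ⟨CharP.char_is_prime F _⟩
  have h1 := dsc_dual (F := F) (k := k) (AddSubgroup.zmultiples x)
  have h2 : Nat.card (AddSubgroup.zmultiples x) = ringChar F := by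
    rw [Nat.card_zmultiples]
    apply addOrderOf_eq_prime
    · ext i
      rw [Pi.smul_apply, Pi.zero_apply, nsmul_eq_mul, CharP.cast_eq_zero, zero_mul]
    · exact hx
  rw [h2] at h1
  rw [← h1]
  congr 1
  apply Nat.card_congr
  refine Equiv.subtypeEquivRight (fun φ => ?_)
  constructor
  · intro h y hy
    obtain ⟨m, rfl⟩ := AddSubgroup.mem_zmultiples_iff.mp hy
    rw [smul_dotProduct, dotProduct_comm, map_zsmul, h, smul_zero]
  · intro h
    have := h x (AddSubgroup.mem_zmultiples x)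
    rwa [dotProduct_comm] at this

/-- a non-trivial homomorphism to `F_p` has a kernel of index `p` -/
theorem dsc_card_inter (K : AddSubgroup (Fin k → F)) (x : Fin k → F)
    (h : ¬ ∀ φ ∈ K, Algebra.trace (ZMod (ringChar F)) F (φ ⬝ᵥ x) = 0) :
    Nat.card {φ : Fin k → F // φ ∈ K ∧ Algebra.trace (ZMod (ringChar F)) F (φ ⬝ᵥ x) = 0} *
      ringChar F = Nat.card K := by
  haveI : Fact (ringChar F).Prime := ⟨CharP.char_is_prime F _⟩
  let lam : K →+ ZMod (ringChar F) :=
    { toFun := fun φ => Algebra.trace (ZMod (ringChar F)) F ((φ : Fin k → F) ⬝ᵥ x)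
      map_zero' := by simp
      map_add' := fun φ ψ => by
        show Algebra.trace (ZMod (ringChar F)) F (((φ + ψ : K) : Fin k → F) ⬝ᵥ x) = _
        rw [AddSubgroup.coe_add, add_dotProduct, map_add] }
  have h1 := AddSubgroup.card_mul_index lam.ker
  rw [AddSubgroup.index_ker] at h1
  have h2 : lam.range = ⊤ := by
    haveI : Fact (Nat.card (ZMod (ringChar F))).Prime := by
      rw [Nat.card_eq_fintype_card, ZMod.card]; infer_instance
    rcases AddSubgroup.eq_bot_or_eq_top_of_prime_card lam.range with h2 | h2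
    · exfalso
      apply h
      intro φ hφ
      have : lam ⟨φ, hφ⟩ ∈ lam.range := ⟨_, rfl⟩
      rw [h2, AddSubgroup.mem_bot] at this
      exact this
    · exact h2
  rw [h2] at h1
  have h3 : Nat.card (⊤ : AddSubgroup (ZMod (ringChar F))) = ringChar F := by
    rw [AddSubgroup.card_top, Nat.card_eq_fintype_card, ZMod.card]
  rw [h3] at h1
  rw [← h1]
  congr 1
  apply Nat.card_congr
  exact
    { toFun := fun φ => ⟨⟨φ.1, φ.2.1⟩, φ.2.2⟩
      invFun := fun φ => ⟨φ.1.1, φ.1.2, φ.2⟩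
      left_inv := fun φ => rfl
      right_inv := fun φ => rfl }


theorem dsc_natCard_subtype {α : Type*} [Fintype α] (P : α → Prop) [DecidablePred P] :
    Nat.card {a // P a} = (Finset.univ.filter P).card := by
  rw [Nat.card_eq_fintype_card, Fintype.card_subtype]

/-- the double count: for `x ≠ 0` exactly `q` of the `ω` have `K ω ≤ M_x` -/
theorem dsc_count {Ω : Type*} [Finite Ω] (K : Ω → AddSubgroup (Fin k → F)) (f : ℕ)
    (h1 : ∀ ω, Nat.card (K ω) * Nat.card F = Nat.card F ^ k)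
    (h2 : ∀ φ : Fin k → F, φ ≠ 0 → Nat.card {ω // φ ∈ K ω} = f)
    (h3 : Nat.card Ω = f + Nat.card F ^ k)
    (h6 : f * (Nat.card F - 1) + Nat.card F = Nat.card F ^ k)
    (x : Fin k → F) (hx : x ≠ 0) :
    Nat.card {ω // ∀ φ ∈ K ω, Algebra.trace (ZMod (ringChar F)) F (φ ⬝ᵥ x) = 0} = Nat.card F := by
  classical
  haveI : Fact (ringChar F).Prime := ⟨CharP.char_is_prime F _⟩
  haveI : Fintype Ω := Fintype.ofFinite Ω
  haveI : Fintype F := Fintype.ofFinite F
  set p := ringChar F with hp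
  have hp1 : 1 < p := (Fact.out : p.Prime).one_lt
  set q := Nat.card F with hq
  have hq1 : 1 < q := Finite.one_lt_card
  set tr : (Fin k → F) → ZMod p := fun φ => Algebra.trace (ZMod p) F (φ ⬝ᵥ x) with htr
  -- the finsets
  set M : Finset (Fin k → F) := Finset.univ.filter (fun φ => tr φ = 0) with hM
  set A : Finset Ω := Finset.univ.filter (fun ω => ∀ φ ∈ K ω, tr φ = 0) with hA
  have hMcard : M.card * p = q ^ k := by
    rw [hM, ← dsc_natCard_subtype]
    exact dsc_card_M x hx
  -- κ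
  obtain ⟨κ, hκ⟩ : ∃ κ : ℕ, ∀ ω, Nat.card (K ω) = κ ∧ κ * q = q ^ k := by
    refine ⟨q ^ k / q, fun ω => ?_⟩
    have := h1 ω
    have h' : Nat.card (K ω) = q ^ k / q := by
      rw [← this, Nat.mul_div_cancel _ (by omega)]
    exact ⟨h', by rw [← h', this]⟩
  have hκq : κ * q = q ^ k := by
    rcases isEmpty_or_nonempty Ω with hE | ⟨⟨ω⟩⟩
    · exfalso
      have : Nat.card Ω = 0 := Nat.card_of_isEmpty
      rw [this] at h3
      have : 0 < q ^ k := pow_pos (by omega) k
      omega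
    · exact (hκ ω).2
  -- double count
  have hdc : ∑ φ ∈ M, (Finset.univ.filter (fun ω => φ ∈ K ω)).card =
      ∑ ω, (M.filter (fun φ => φ ∈ K ω)).card := by
    simp_rw [Finset.card_filter]
    rw [Finset.sum_comm]
  -- the left side
  have h0M : (0 : Fin k → F) ∈ M := by
    rw [hM, Finset.mem_filter]
    exact ⟨Finset.mem_univ _, by rw [htr]; simp⟩
  have hL : ∑ φ ∈ M, (Finset.univ.filter (fun ω => φ ∈ K ω)).card + f =
      Nat.card Ω + M.card * f := by
    rw [← Finset.add_sum_erase M _ h0M]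
    have e0 : (Finset.univ.filter (fun ω => (0 : Fin k → F) ∈ K ω)).card = Nat.card Ω := by
      rw [Nat.card_eq_fintype_card, ← Finset.card_univ]
      congr 1
      ext ω
      simp
    have e1 : ∑ φ ∈ M.erase 0, (Finset.univ.filter (fun ω => φ ∈ K ω)).card =
        (M.card - 1) * f := by
      rw [Finset.sum_congr rfl (g := fun _ => f), Finset.sum_const, smul_eq_mul,
        Finset.card_erase_of_mem h0M]
      intro φ hφ
      rw [← dsc_natCard_subtype]
      exact h2 φ (Finset.ne_of_mem_erase hφ)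
    have hM1 : 1 ≤ M.card := Finset.card_pos.mpr ⟨0, h0M⟩
    rw [e0, e1, add_assoc]
    congr 1
    have : (M.card - 1) * f + f = M.card * f := by
      conv_rhs => rw [← Nat.sub_add_cancel hM1]
      ring
    exact this
  -- the right side
  have hR : p * ∑ ω, (M.filter (fun φ => φ ∈ K ω)).card + A.card * κ =
      Nat.card Ω * κ + A.card * (p * κ) := by
    have e2 : ∀ ω, p * (M.filter (fun φ => φ ∈ K ω)).card + (if ω ∈ A then κ else 0) =
        κ + (if ω ∈ A then p * κ else 0) := by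
      intro ω
      have hcard : (Finset.univ.filter (fun φ : Fin k → F => φ ∈ K ω)).card = κ := by
        rw [← dsc_natCard_subtype]; exact (hκ ω).1
      by_cases hω : ω ∈ A
      · rw [if_pos hω, if_pos hω]
        have : M.filter (fun φ => φ ∈ K ω) = Finset.univ.filter (fun φ : Fin k → F => φ ∈ K ω) := by
          ext φ
          simp only [hM, hA, Finset.mem_filter, Finset.mem_univ, true_and] at hω ⊢
          exact ⟨fun h => h.2, fun h => ⟨hω φ h, h⟩⟩
        rw [this, hcard]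
        ring
      · rw [if_neg hω, if_neg hω, add_zero, add_zero]
        have hω' : ¬ ∀ φ ∈ K ω, Algebra.trace (ZMod (ringChar F)) F (φ ⬝ᵥ x) = 0 := by
          simpa [hA] using hω
        have := dsc_card_inter (K ω) x hω'
        rw [(hκ ω).1, dsc_natCard_subtype] at this
        rw [← this, mul_comm]
        congr 2
        ext φ
        simp only [hM, Finset.mem_filter, Finset.mem_univ, true_and]
        exact and_comm
    have e3 : ∑ ω, (p * (M.filter (fun φ => φ ∈ K ω)).card + (if ω ∈ A then κ else 0)) =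
        ∑ ω, (κ + (if ω ∈ A then p * κ else 0)) := Finset.sum_congr rfl (fun ω _ => e2 ω)
    rw [Finset.sum_add_distrib, Finset.sum_add_distrib, ← Finset.mul_sum, Finset.sum_const,
      Finset.card_univ, smul_eq_mul, Finset.sum_ite_mem, Finset.sum_ite_mem,
      Finset.univ_inter, Finset.sum_const, Finset.sum_const, smul_eq_mul, smul_eq_mul,
      ← Nat.card_eq_fintype_card] at e3
    exact e3
  -- conclusion
  have hAcard : A.card = q := by
    have hq0 : (1:ℤ) ≤ q := by exact_mod_cast hq1.le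
    have E1 : ((∑ φ ∈ M, (Finset.univ.filter (fun ω => φ ∈ K ω)).card : ℕ) : ℤ) + f =
        (Nat.card Ω : ℤ) + M.card * f := by exact_mod_cast hL
    have E1' : (p : ℤ) * ((∑ ω, (M.filter (fun φ => φ ∈ K ω)).card : ℕ) : ℤ) + A.card * κ =
        (Nat.card Ω : ℤ) * κ + A.card * (p * κ) := by exact_mod_cast hR
    rw [hdc] at E1
    have E2 : (M.card : ℤ) * p = (q : ℤ) ^ k := by exact_mod_cast hMcard
    have E3 : (Nat.card Ω : ℤ) = f + (q : ℤ) ^ k := by exact_mod_cast h3
    have E4 : (κ : ℤ) * q = (q : ℤ) ^ k := by exact_mod_cast hκq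
    have E5 : (f : ℤ) * ((q : ℤ) - 1) + q = (q : ℤ) ^ k := by
      have := h6
      have h' : ((q - 1 : ℕ) : ℤ) = (q : ℤ) - 1 := by
        rw [Nat.cast_sub hq1.le]; simp
      rw [← h']
      exact_mod_cast this
    have hκ0 : (0 : ℤ) < κ := by
      have : 0 < κ := by
        rcases Nat.eq_zero_or_pos κ with h | h
        · rw [h, zero_mul] at hκq
          have : 0 < q ^ k := pow_pos (by omega) k
          omega
        · exact h
      exact_mod_cast this
    have hp0 : (0 : ℤ) < (p : ℤ) - 1 := by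
      have : (1 : ℤ) < p := by exact_mod_cast hp1
      linarith
    have key : ((A.card : ℤ) - q) * (((p : ℤ) - 1) * κ) = 0 := by
      set S : ℤ := ((∑ ω, (M.filter (fun φ => φ ∈ K ω)).card : ℕ) : ℤ) with hS
      set d : ℤ := (Nat.card Ω : ℤ) with hd
      set Qk : ℤ := (q : ℤ) ^ k with hQk
      have e1' : (p : ℤ) * d + Qk * f - p * f = d * κ + A.card * ((p : ℤ) - 1) * κ := by
        rw [← E2]
        linear_combination (-(p : ℤ)) * E1 + E1'
      rw [E3] at e1'
      linear_combination (-1 : ℤ) * e1' + (-((p : ℤ) + f)) * E4 + (κ : ℤ) * E5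
    rcases mul_eq_zero.mp key with h | h
    · have : (A.card : ℤ) = q := by linarith
      exact_mod_cast this
    · exfalso
      have := mul_pos hp0 hκ0
      linarith
  rw [dsc_natCard_subtype, ← hAcard]


omit [Finite F] in
/-- separation: a covector vanishing on a subspace and taking the value `1` at a vector outside -/
theorem dsc_sep (W : Submodule F (Fin k → F)) (x : Fin k → F) (hx : x ∉ W) :
    ∃ φ : Fin k → F, (∀ w ∈ W, φ ⬝ᵥ w = 0) ∧ φ ⬝ᵥ x = 1 := by
  obtain ⟨g, hgx, hW⟩ := Submodule.exists_le_ker_of_notMem hx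
  have key : ∀ y : Fin k → F,
      (fun i => (g x)⁻¹ * g (fun j => if i = j then 1 else 0)) ⬝ᵥ y = (g x)⁻¹ * g y := by
    intro y
    conv_rhs => rw [LinearMap.pi_apply_eq_sum_univ g y]
    rw [dotProduct, Finset.mul_sum]
    apply Finset.sum_congr rfl
    intro i _
    rw [smul_eq_mul]
    ring
  refine ⟨fun i => (g x)⁻¹ * g (fun j => if i = j then 1 else 0), fun w hw => ?_, ?_⟩
  · rw [key, LinearMap.mem_ker.mp (hW hw), mul_zero]
  · rw [key, inv_mul_cancel₀ hgx]

/-- MI-DS core: a family of index-`q` additive subgroups of `F^k` with the counting properties of the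
point stabilisers of a transvection group, invariant under the transvections of the dual space,
consists of `F`-hyperplanes. -/
theorem dsc_core {Ω : Type*} [Finite Ω] (K : Ω → AddSubgroup (Fin k → F)) (f : ℕ)
    (h1 : ∀ ω, Nat.card (K ω) * Nat.card F = Nat.card F ^ k)
    (h2 : ∀ φ : Fin k → F, φ ≠ 0 → Nat.card {ω // φ ∈ K ω} = f)
    (h3 : Nat.card Ω = f + Nat.card F ^ k)
    (h4 : ∀ x ψ : Fin k → F, ψ ⬝ᵥ x = 0 →
      ∃ σ : Ω → Ω, ∀ ω φ, φ ∈ K ω ↔ φ - (φ ⬝ᵥ x) • ψ ∈ K (σ ω))
    (h5 : ∀ ω, Nat.card F ≤ Nat.card {ω' // K ω' = K ω})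
    (h6 : f * (Nat.card F - 1) + Nat.card F = Nat.card F ^ k) :
    ∀ ω, ∃ x : Fin k → F, x ≠ 0 ∧ ∀ φ, φ ∈ K ω ↔ φ ⬝ᵥ x = 0 := by
  classical
  intro ω0
  haveI : Fintype Ω := Fintype.ofFinite Ω
  haveI : Fintype F := Fintype.ofFinite F
  set q := Nat.card F with hq
  have hq1 : 1 < q := Finite.one_lt_card
  set tr : F → ZMod (ringChar F) := fun a => Algebra.trace (ZMod (ringChar F)) F a with htr
  -- `Y = (K ω0)^⊥` has exactly `q` elements
  set Y : Finset (Fin k → F) := Finset.univ.filter (fun x => ∀ φ ∈ K ω0, tr (φ ⬝ᵥ x) = 0) with hY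
  have hκ0 : 0 < Nat.card (K ω0) := Nat.card_pos
  have hYcard : Y.card = q := by
    have e1 := dsc_dual (K ω0)
    rw [dsc_natCard_subtype] at e1
    have e2 := h1 ω0
    have e3 : Y.card * Nat.card (K ω0) = q * Nat.card (K ω0) := by
      rw [hY, e1, mul_comm q, e2]
    exact Nat.eq_of_mul_eq_mul_right hκ0 e3
  -- a non-zero element of `Y`
  obtain ⟨x, hxY, hx0⟩ : ∃ x ∈ Y, x ≠ 0 := by
    have : 1 < Y.card := by rw [hYcard]; exact hq1
    obtain ⟨a, ha, b, hb, hab⟩ := Finset.one_lt_card.mp this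
    by_cases ha0 : a = 0
    · refine ⟨b, hb, ?_⟩
      rw [← ha0]; exact hab.symm
    · exact ⟨a, ha, ha0⟩
  have hxY' : ∀ φ ∈ K ω0, tr (φ ⬝ᵥ x) = 0 := by
    have := hxY
    rw [hY, Finset.mem_filter] at this
    exact this.2
  -- Claim 1: `x ∈ (K ω')^⊥` forces `K ω' = K ω0`
  have hcl1 : ∀ ω', (∀ φ ∈ K ω', tr (φ ⬝ᵥ x) = 0) → K ω' = K ω0 := by
    have e1 := dsc_count K f h1 h2 h3 h6 x hx0
    rw [dsc_natCard_subtype] at e1
    have e2 := h5 ω0
    rw [dsc_natCard_subtype] at e2
    have hsub : Finset.univ.filter (fun ω' => K ω' = K ω0) ⊆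
        Finset.univ.filter (fun ω' => ∀ φ ∈ K ω', tr (φ ⬝ᵥ x) = 0) := by
      intro ω' hω'
      rw [Finset.mem_filter] at hω' ⊢
      refine ⟨Finset.mem_univ _, ?_⟩
      rw [hω'.2]
      exact hxY'
    have heq := Finset.eq_of_subset_of_card_le hsub (by rw [e1]; exact e2)
    intro ω' hω'
    have : ω' ∈ Finset.univ.filter (fun ω' => ∀ φ ∈ K ω', tr (φ ⬝ᵥ x) = 0) := by
      rw [Finset.mem_filter]; exact ⟨Finset.mem_univ _, hω'⟩
    rw [← heq, Finset.mem_filter] at this
    exact this.2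
  -- Claim 2: `K ω0` is invariant under `φ ↦ φ - (φ·x) ψ` for `ψ ⊥ x`
  have hcl2 : ∀ ψ : Fin k → F, ψ ⬝ᵥ x = 0 → ∀ φ ∈ K ω0, φ - (φ ⬝ᵥ x) • ψ ∈ K ω0 := by
    intro ψ hψ φ hφ
    obtain ⟨σ, hσ⟩ := h4 x ψ hψ
    have hKσ : K (σ ω0) = K ω0 := by
      apply hcl1
      intro φ' hφ'
      -- `φ' = φ'' - (φ''·x) ψ` with `φ'' = φ' + (φ'·x) ψ`
      have e1 : (φ' + (φ' ⬝ᵥ x) • ψ) ⬝ᵥ x = φ' ⬝ᵥ x := by
        rw [add_dotProduct, smul_dotProduct, hψ, smul_zero, add_zero]
      have e2 : (φ' + (φ' ⬝ᵥ x) • ψ) - ((φ' + (φ' ⬝ᵥ x) • ψ) ⬝ᵥ x) • ψ = φ' := by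
        rw [e1, add_sub_cancel_right]
      have e3 : φ' + (φ' ⬝ᵥ x) • ψ ∈ K ω0 := by
        rw [hσ ω0, e2]; exact hφ'
      have := hxY' _ e3
      rwa [e1] at this
    rw [← hKσ]
    exact (hσ ω0 φ).mp hφ
  -- Claim 3: `(ψ·y) x ∈ Y` for `y ∈ Y`, `ψ ⊥ x`
  have hcl3 : ∀ y ∈ Y, ∀ ψ : Fin k → F, ψ ⬝ᵥ x = 0 → (ψ ⬝ᵥ y) • x ∈ Y := by
    intro y hy ψ hψ
    rw [hY, Finset.mem_filter] at hy ⊢
    refine ⟨Finset.mem_univ _, fun φ hφ => ?_⟩
    have e1 := hy.2 _ (hcl2 ψ hψ φ hφ)
    rw [sub_dotProduct, smul_dotProduct] at e1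
    have e2 := hy.2 φ hφ
    simp only [htr, map_sub] at e1 e2 ⊢
    rw [e2, zero_sub, neg_eq_zero] at e1
    rw [dotProduct_smul, smul_eq_mul, mul_comm]
    rwa [smul_eq_mul] at e1
  -- the line `F x`
  set L : Finset (Fin k → F) := Finset.univ.image (fun c : F => c • x) with hL
  have hLcard : L.card = q := by
    rw [hL, Finset.card_image_of_injective _ (smul_left_injective F hx0), Finset.card_univ,
      hq, Nat.card_eq_fintype_card]
  -- Claim 4: `Y ⊆ L`
  have hcl4 : Y ⊆ L := by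
    by_contra hnot
    obtain ⟨y, hyY, hyL⟩ := Finset.not_subset.mp hnot
    have hyW : y ∉ Submodule.span F ({x} : Set (Fin k → F)) := by
      intro hmem
      obtain ⟨c, rfl⟩ := Submodule.mem_span_singleton.mp hmem
      apply hyL
      rw [hL, Finset.mem_image]
      exact ⟨c, Finset.mem_univ _, rfl⟩
    obtain ⟨ψ, hψ0, hψ1⟩ := dsc_sep _ _ hyW
    have hψx : ψ ⬝ᵥ x = 0 := hψ0 x (Submodule.mem_span_singleton_self x)
    have hLY : L ⊆ Y := by
      intro z hz
      rw [hL, Finset.mem_image] at hz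
      obtain ⟨c, _, rfl⟩ := hz
      have e1 : (c • ψ) ⬝ᵥ x = 0 := by rw [smul_dotProduct, hψx, smul_zero]
      have e2 := hcl3 y hyY (c • ψ) e1
      rwa [smul_dotProduct, hψ1, smul_eq_mul, mul_one] at e2
    have hlt : L.card < Y.card := by
      apply Finset.card_lt_card
      refine ⟨hLY, fun h => hyL (h hyY)⟩
    rw [hLcard, hYcard] at hlt
    exact lt_irrefl _ hlt
  have hYL : Y = L := Finset.eq_of_subset_of_card_le hcl4 (by rw [hLcard, hYcard])
  -- Claim 6: `K ω0 ⊆ x^⊥`
  have hcl6 : ∀ φ ∈ K ω0, φ ⬝ᵥ x = 0 := by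
    intro φ hφ
    apply dsc_trace_nd
    intro c
    have hc : c • x ∈ Y := by
      rw [hYL, hL, Finset.mem_image]
      exact ⟨c, Finset.mem_univ _, rfl⟩
    rw [hY, Finset.mem_filter] at hc
    have := hc.2 φ hφ
    rwa [dotProduct_smul, smul_eq_mul] at this
  -- Claim 7: equality by cardinality
  have hsub : Finset.univ.filter (fun φ : Fin k → F => φ ∈ K ω0) ⊆
      Finset.univ.filter (fun φ : Fin k → F => φ ⬝ᵥ x = 0) := by
    intro φ hφ
    rw [Finset.mem_filter] at hφ ⊢
    exact ⟨Finset.mem_univ _, hcl6 φ hφ.2⟩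
  have hcardeq : (Finset.univ.filter (fun φ : Fin k → F => φ ⬝ᵥ x = 0)).card ≤
      (Finset.univ.filter (fun φ : Fin k → F => φ ∈ K ω0)).card := by
    have e1 := dsc_card_perp x hx0
    rw [dsc_natCard_subtype] at e1
    have e2 := h1 ω0
    have e3 : Nat.card (K ω0) = (Finset.univ.filter (fun φ : Fin k → F => φ ∈ K ω0)).card :=
      dsc_natCard_subtype _
    rw [e3, ← e1] at e2
    exact (Nat.eq_of_mul_eq_mul_right (by omega) e2).ge
  have heq := Finset.eq_of_subset_of_card_le hsub hcardeq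
  refine ⟨x, hx0, fun φ => ?_⟩
  constructor
  · exact hcl6 φ
  · intro h
    have : φ ∈ Finset.univ.filter (fun φ : Fin k → F => φ ⬝ᵥ x = 0) := by
      rw [Finset.mem_filter]; exact ⟨Finset.mem_univ _, h⟩
    rw [← heq, Finset.mem_filter] at this
    exact this.2

end dscore

end Cfsg.Agent.Lib.Helper81.Mi
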