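import Mathlib
import Cfsg.Agent.Lib.Helper59.MiDsDefs

/-! MI-DS-DUAL (Mi hive S2140, MI-DS sub-hive of helper59): weak trace duality. -/

set_option autoImplicit false

namespace Cfsg.Agent.Lib.Helper81.Mi

open Matrix

section abstract

/-- a finite `ZMod p`-vector space and its dual have the same cardinality -/
theorem dsdual_card_dual {p : ℕ} [Fact p.Prime] (W : Type*) [AddCommGroup W] [Module (ZMod p) W]
    [Finite W] : Nat.card (Module.Dual (ZMod p) W) = Nat.card W := by
  have : Module.Finite (ZMod p) W := Module.Finite.of_finite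
  rw [Module.natCard_eq_pow_finrank (K := ZMod p) (V := Module.Dual (ZMod p) W),
    Module.natCard_eq_pow_finrank (K := ZMod p) (V := W), Subspace.dual_finrank_eq]

/-- `|Hom(W, ZMod p)| = |W|` for a finite abelian group killed by `p` -/
theorem dsdual_card_hom {p : ℕ} [Fact p.Prime] (W : Type*) [AddCommGroup W] [Finite W]
    (hW : ∀ w : W, p • w = 0) : Nat.card (W →+ ZMod p) = Nat.card W := by
  letI : Module (ZMod p) W := AddCommGroup.zmodModule hW
  rw [← dsdual_card_dual (p := p) W]
  exact Nat.card_congr (AddMonoidHom.toZModLinearMapEquiv p).toEquiv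

variable {F V : Type*} [Field F] [Finite F] [AddCommGroup V] [Module F V] [Finite V]
  {p : ℕ} [Fact p.Prime] [CharP F p]

/-- MI-DS-DUAL (M/H, weak trace duality). -/
theorem dsdual_weak96 (lam : F →+ ZMod p) (hlam : ∀ a : F, a ≠ 0 → ∃ b : F, lam (a * b) ≠ 0)
    (A : AddSubgroup V) :
    Nat.card {x : Module.Dual F V // A ≤ dsM lam x} ≤ A.index := by
  have hW : ∀ w : V ⧸ A, p • w = 0 := by
    intro w
    induction w using QuotientAddGroup.induction_on with
    | H v =>
      rw [← QuotientAddGroup.mk_nsmul]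
      have : p • v = 0 := by
        rw [← Nat.cast_smul_eq_nsmul F, CharP.cast_eq_zero, zero_smul]
      rw [this, QuotientAddGroup.mk_zero]
  have h1 : Nat.card (V ⧸ A →+ ZMod p) = A.index := by
    rw [dsdual_card_hom (p := p) (V ⧸ A) hW]
    rfl
  rw [← h1]
  -- the injection
  let Φ : {x : Module.Dual F V // A ≤ dsM lam x} → (V ⧸ A →+ ZMod p) := fun x =>
    QuotientAddGroup.lift A (lam.comp (x.1 : V →ₗ[F] F).toAddMonoidHom) (by
      intro φ hφ
      have := x.2 hφ
      rw [mem_dsM] at this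
      exact this)
  have hΦ : ∀ (x : {x : Module.Dual F V // A ≤ dsM lam x}) (φ : V),
      Φ x (QuotientAddGroup.mk φ) = lam (x.1 φ) := fun x φ => rfl
  haveI : Finite (V ⧸ A →+ ZMod p) := DFunLike.finite _
  apply Nat.card_le_card_of_injective Φ
  intro x y hxy
  apply Subtype.ext
  by_contra hne
  obtain ⟨φ0, hφ0⟩ : ∃ φ0 : V, x.1 φ0 - y.1 φ0 ≠ 0 := by
    by_contra hall
    push Not at hall
    apply hne
    ext φ
    exact sub_eq_zero.mp (hall φ)
  obtain ⟨b, hb⟩ := hlam _ hφ0
  apply hb
  have e1 := hΦ x (b • φ0)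
  have e2 := hΦ y (b • φ0)
  rw [hxy, e2] at e1
  rw [sub_mul, map_sub, sub_eq_zero]
  have e3 : x.1 φ0 * b = x.1 (b • φ0) := by rw [map_smul, smul_eq_mul, mul_comm]
  have e4 : y.1 φ0 * b = y.1 (b • φ0) := by rw [map_smul, smul_eq_mul, mul_comm]
  rw [e3, e4]
  exact e1.symm

end abstract

end Cfsg.Agent.Lib.Helper81.Mi
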