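import Mathlib

set_option autoImplicit false

/-! If `p` does not divide the index of the centre of a finite group, then the `p'`-elements
form a (characteristic) subgroup: it is the kernel of a power of the transfer into the centre. -/

namespace Cfsg.Agent.Lib.Helper96

open scoped IsMulCommutative

/-- If `p ∤ |K : Z(K)|`, there are `e` coprime to `p` and a subgroup `N = {k | k ^ e = 1}`
containing every `p'`-element. -/
theorem exists_pprime_subgroup_of_center_index {K : Type*} [Group K] [Finite K] {p : ℕ}
    (hp : p.Prime) (hidx : ¬ p ∣ (Subgroup.center K).index) :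
    ∃ (e : ℕ) (N : Subgroup K), e.Coprime p ∧ (∀ k : K, k ∈ N ↔ k ^ e = 1) ∧
      (∀ k : K, (orderOf k).Coprime p → k ∈ N) := by
  classical
  set m := (Subgroup.center K).index with hm
  set c := ordCompl[p] (Nat.card (Subgroup.center K)) with hc
  have hcard : ordProj[p] (Nat.card (Subgroup.center K)) * c = Nat.card (Subgroup.center K) :=
    Nat.ordProj_mul_ordCompl_eq_self _ _
  have hcc : c.Coprime p := (Nat.coprime_ordCompl hp Nat.card_pos.ne').symm
  have hmc : m.Coprime p := ((Nat.Prime.coprime_iff_not_dvd hp).2 hidx).symm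
  let ψ : K →* Subgroup.center K := (powMonoidHom c : Subgroup.center K →* Subgroup.center K).comp (MonoidHom.transferCenterPow K)
  have hψ : ∀ k : K, k ∈ ψ.ker ↔ k ^ (m * c) = 1 := by
    intro k
    rw [MonoidHom.mem_ker]
    show (MonoidHom.transferCenterPow K k) ^ c = 1 ↔ _
    rw [← Subtype.coe_inj, Subgroup.coe_pow, MonoidHom.transferCenterPow_apply, Subgroup.coe_one,
      ← pow_mul]
  refine ⟨m * c, ψ.ker, Nat.Coprime.mul_left hmc hcc, hψ, ?_⟩
  intro k hk
  rw [MonoidHom.mem_ker]
  show (MonoidHom.transferCenterPow K k) ^ c = 1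
  set z₀ := MonoidHom.transferCenterPow K k with hz₀
  have h1 : orderOf z₀ ∣ Nat.card (Subgroup.center K) := orderOf_dvd_natCard z₀
  have h2 : orderOf z₀ ∣ orderOf k := by
    rw [← Subgroup.orderOf_coe, hz₀, MonoidHom.transferCenterPow_apply]
    exact orderOf_pow_dvd _
  have h3 : (orderOf z₀).Coprime p := Nat.Coprime.coprime_dvd_left h2 hk
  rw [← hcard] at h1
  have h4 : orderOf z₀ ∣ c :=
    Nat.Coprime.dvd_of_dvd_mul_left (Nat.Coprime.pow_right _ h3) h1
  exact orderOf_dvd_iff_pow_eq_one.mp h4

end Cfsg.Agent.Lib.Helper96
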