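import Mathlib
import Cfsg.Prelude.Def_FusionSystem
import Cfsg.Agent.Lib.Helper96.ZStarElt

/-! Glauberman's Z*-theorem in fusion system language, derived from the Z*-theorem for
involutions (hypothesis `ZStarHyp`). -/

set_option autoImplicit false
set_option linter.style.haveILetI false
set_option linter.unusedSectionVars false

namespace Cfsg.Agent.Lib.Helper96.ZStarFus

open Cfsg.Agent.Lib.Helper96.ZStarDep Cfsg.Agent.Lib.Helper96.ZStarElt

universe u

variable {G : Type u} [Group G]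

/-- The elements of `S` that are central modulo the odd core. -/
def zs (S : Subgroup G) : Subgroup G :=
  S ⊓ (Subgroup.center (G ⧸ Cfsg.oddCore G)).comap (QuotientGroup.mk' (Cfsg.oddCore G))

theorem mem_zs_iff (S : Subgroup G) (x : G) :
    x ∈ zs S ↔ x ∈ S ∧ ∀ g : G, x * g * x⁻¹ * g⁻¹ ∈ Cfsg.oddCore G := by
  have hn : (Cfsg.oddCore G).Normal := inferInstance
  unfold zs
  rw [Subgroup.mem_inf, Subgroup.mem_comap, Subgroup.mem_center_iff]
  constructor
  · rintro ⟨hxS, h⟩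
    refine ⟨hxS, fun g => ?_⟩
    have h1 := h (QuotientGroup.mk' (Cfsg.oddCore G) g⁻¹)
    rw [← map_mul, ← map_mul] at h1
    have h2 : (g⁻¹ * x)⁻¹ * (x * g⁻¹) ∈ Cfsg.oddCore G := QuotientGroup.eq.mp h1
    have h3 := hn.conj_mem _ h2 x
    have h4 := (Cfsg.oddCore G).inv_mem h3
    have e : (x * ((g⁻¹ * x)⁻¹ * (x * g⁻¹)) * x⁻¹)⁻¹ = x * g * x⁻¹ * g⁻¹ := by group
    rwa [e] at h4
  · rintro ⟨hxS, h⟩
    refine ⟨hxS, fun gb => ?_⟩
    obtain ⟨g, rfl⟩ := QuotientGroup.mk'_surjective (Cfsg.oddCore G) gb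
    rw [← map_mul, ← map_mul]
    apply QuotientGroup.eq.mpr
    have h1 := h g⁻¹
    have h3 := hn.conj_mem _ h1 x⁻¹
    have h4 := (Cfsg.oddCore G).inv_mem h3
    have e : (x⁻¹ * (x * g⁻¹ * x⁻¹ * g⁻¹⁻¹) * x⁻¹⁻¹)⁻¹ = (g * x)⁻¹ * (x * g) := by group
    rwa [e] at h4

variable [Finite G]

theorem oddCore_inf_eq_bot (S : Subgroup G) (hS : IsPGroup 2 S) : Cfsg.oddCore G ⊓ S = ⊥ := by
  haveI : Fact (Nat.Prime 2) := ⟨Nat.prime_two⟩
  apply Disjoint.eq_bot
  apply Subgroup.disjoint_of_coprime_natCard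
  obtain ⟨k, hk⟩ := IsPGroup.iff_card.mp hS
  rw [hk]
  exact Nat.Coprime.pow_right k (Cfsg.Agent.Lib.Helper55.pPrimeCore_card_coprime 2)

theorem zs_comm (S : Subgroup G) (hS : IsPGroup 2 S) {z s : G} (hz : z ∈ zs S) (hs : s ∈ S) :
    z * s = s * z := by
  obtain ⟨hzS, hzc⟩ := (mem_zs_iff S z).mp hz
  have h1 : z * s * z⁻¹ * s⁻¹ ∈ Cfsg.oddCore G ⊓ S :=
    ⟨hzc s, S.mul_mem (S.mul_mem (S.mul_mem hzS hs) (S.inv_mem hzS)) (S.inv_mem hs)⟩
  rw [oddCore_inf_eq_bot S hS, Subgroup.mem_bot] at h1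
  calc z * s = (z * s * z⁻¹ * s⁻¹) * (s * z) := by group
    _ = s * z := by rw [h1, one_mul]

theorem zs_isPGroup (S : Subgroup G) (hS : IsPGroup 2 S) : IsPGroup 2 (zs S) :=
  hS.to_le inf_le_left

theorem oddCore_odd : Odd (Nat.card (Cfsg.oddCore G)) :=
  Nat.coprime_two_right.mp (Cfsg.Agent.Lib.Helper55.pPrimeCore_card_coprime 2)

/-- Every coset of the odd core contains an element centralizing `zs S`. -/
theorem exists_centralizing (S : Subgroup G) (hS : IsPGroup 2 S) (g : G) :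
    ∃ o ∈ Cfsg.oddCore G, ∀ z ∈ zs S, z * (g * o) * z⁻¹ = g * o := by
  have hn : (Cfsg.oddCore G).Normal := inferInstance
  apply exists_fixed_in_left_coset (zs S) (Cfsg.oddCore G) (zs_isPGroup S hS) oddCore_odd g
  intro z hz d hd
  obtain ⟨-, hzc⟩ := (mem_zs_iff S z).mp hz
  have h1 : g⁻¹ * (z * g * z⁻¹ * g⁻¹) * g⁻¹⁻¹ ∈ Cfsg.oddCore G := hn.conj_mem _ (hzc g) g⁻¹
  have h2 : z * d * z⁻¹ ∈ Cfsg.oddCore G := hn.conj_mem _ hd z
  have e : g⁻¹ * (z * (g * d) * z⁻¹) = (g⁻¹ * (z * g * z⁻¹ * g⁻¹) * g⁻¹⁻¹) * (z * d * z⁻¹) := by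
    group
  rw [e]
  exact (Cfsg.oddCore G).mul_mem h1 h2

/-- `zs S` is central in the fusion system of `G` on `S`. -/
theorem isCentral_zs (S : Subgroup G) (hS : IsPGroup 2 S) :
    (Cfsg.groupFusionSystem S).IsCentral (zs S) := by
  have hn : (Cfsg.oddCore G).Normal := inferInstance
  refine ⟨inf_le_left, ?_⟩
  rintro P φ ⟨hPS, hφS, g, hg⟩
  -- g = c * o with c centralizing zs S
  obtain ⟨o1, ho1, hc⟩ := exists_centralizing S hS g
  set c := g * o1 with hcdef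
  set o := o1⁻¹ with hodef
  have hoO : o ∈ Cfsg.oddCore G := (Cfsg.oddCore G).inv_mem ho1
  have hgco : g = c * o := by rw [hcdef, hodef]; group
  have hcz : ∀ z ∈ zs S, z * c = c * z := by
    intro z hz
    calc z * c = (z * c * z⁻¹) * z := by group
      _ = c * z := by rw [hc z hz]
  -- z commutes with o y o⁻¹ for y ∈ P
  have hzoy : ∀ z ∈ zs S, ∀ y ∈ P, z * (o * y * o⁻¹) = (o * y * o⁻¹) * z := by
    intro z hz y hy
    have h1 : g * y * g⁻¹ ∈ S := by
      have := hφS ⟨y, hy⟩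
      rwa [hg] at this
    have h2 := zs_comm S hS hz h1
    have h3 := hcz z hz
    have h3' : z * c⁻¹ = c⁻¹ * z := by
      calc z * c⁻¹ = c⁻¹ * (c * z) * c⁻¹ := by group
        _ = c⁻¹ * (z * c) * c⁻¹ := by rw [h3]
        _ = c⁻¹ * z := by group
    have e : o * y * o⁻¹ = c⁻¹ * (g * y * g⁻¹) * c := by rw [hgco]; group
    rw [e]
    calc z * (c⁻¹ * (g * y * g⁻¹) * c) = (z * c⁻¹) * (g * y * g⁻¹) * c := by group
      _ = c⁻¹ * (z * (g * y * g⁻¹)) * c := by rw [h3']; group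
      _ = c⁻¹ * ((g * y * g⁻¹) * z) * c := by rw [h2]
      _ = c⁻¹ * (g * y * g⁻¹) * (z * c) := by group
      _ = c⁻¹ * (g * y * g⁻¹) * c * z := by rw [h3]; group
  have hzy : ∀ z ∈ zs S, ∀ y ∈ P, z * y = y * z := fun z hz y hy => zs_comm S hS hz (hPS hy)
  -- second application of the coset lemma
  obtain ⟨d, hdD, hd⟩ := exists_fixed_in_left_coset (zs S)
    (Cfsg.oddCore G ⊓ Subgroup.centralizer (P : Set G)) (zs_isPGroup S hS)
    (by
      obtain ⟨k, hk⟩ := Subgroup.card_dvd_of_le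
        (inf_le_left : Cfsg.oddCore G ⊓ Subgroup.centralizer (P : Set G) ≤ Cfsg.oddCore G)
      have := oddCore_odd (G := G)
      rw [hk] at this
      exact (Nat.odd_mul.mp this).1) o
    (by
      intro z hz d hd
      have hzi : z⁻¹ ∈ zs S := (zs S).inv_mem hz
      have e : o⁻¹ * (z * (o * d) * z⁻¹) = (o⁻¹ * (z * o * z⁻¹)) * (z * d * z⁻¹) := by group
      rw [e]
      apply Subgroup.mul_mem
      · refine Subgroup.mem_inf.mpr
          ⟨(Cfsg.oddCore G).mul_mem ((Cfsg.oddCore G).inv_mem hoO) (hn.conj_mem _ hoO z), ?_⟩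
        rw [Subgroup.mem_centralizer_iff]
        intro y hy
        have h1 := hzoy z hz y hy
        have h2 := hzy z⁻¹ hzi y hy
        have h2' : z⁻¹ * y * z = y := by
          calc z⁻¹ * y * z = (z⁻¹ * y) * z := by group
            _ = (y * z⁻¹) * z := by rw [h2]
            _ = y := by group
        have h1' : z * (o * y * o⁻¹) * z⁻¹ = o * y * o⁻¹ := by
          rw [h1]; group
        calc y * (o⁻¹ * (z * o * z⁻¹))
            = o⁻¹ * (o * y * o⁻¹) * (z * o * z⁻¹) := by group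
          _ = o⁻¹ * (z * (o * y * o⁻¹) * z⁻¹) * (z * o * z⁻¹) := by rw [h1']
          _ = o⁻¹ * z * o * (y * z⁻¹) := by group
          _ = o⁻¹ * z * o * (z⁻¹ * y) := by rw [h2]
          _ = o⁻¹ * (z * o * z⁻¹) * y := by group
      · refine Subgroup.mem_inf.mpr ⟨hn.conj_mem _ hd.1 z, ?_⟩
        rw [Subgroup.mem_centralizer_iff]
        intro y hy
        have h1 := (Subgroup.mem_centralizer_iff.mp hd.2) y hy
        have h2 := hzy z hz y hy
        have h3 := hzy z⁻¹ hzi y hy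
        calc y * (z * d * z⁻¹) = (y * z) * d * z⁻¹ := by group
          _ = (z * y) * d * z⁻¹ := by rw [h2]
          _ = z * (y * d) * z⁻¹ := by group
          _ = z * (d * y) * z⁻¹ := by rw [h1]
          _ = z * d * (y * z⁻¹) := by group
          _ = z * d * (z⁻¹ * y) := by rw [h3]
          _ = z * d * z⁻¹ * y := by group)
  set h := c * (o * d) with hh
  have hhz : ∀ z ∈ zs S, h * z * h⁻¹ = z := by
    intro z hz
    have h1 := hd z hz
    have h2 := hcz z hz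
    have h1' : (o * d) * z = z * (o * d) := by
      calc (o * d) * z = (z * (o * d) * z⁻¹) * z := by rw [h1]
        _ = z * (o * d) := by group
    calc h * z * h⁻¹ = c * ((o * d) * z) * (o * d)⁻¹ * c⁻¹ := by rw [hh]; group
      _ = c * (z * (o * d)) * (o * d)⁻¹ * c⁻¹ := by rw [h1']
      _ = (c * z) * c⁻¹ := by group
      _ = (z * c) * c⁻¹ := by rw [h2]
      _ = z := by group
  have hhy : ∀ y ∈ P, h * y * h⁻¹ = g * y * g⁻¹ := by
    intro y hy
    have h1 := (Subgroup.mem_centralizer_iff.mp hdD.2) y hy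
    have h1' : d * y * d⁻¹ = y := by
      calc d * y * d⁻¹ = (d * y) * d⁻¹ := by group
        _ = (y * d) * d⁻¹ := by rw [h1]
        _ = y := by group
    calc h * y * h⁻¹ = c * o * (d * y * d⁻¹) * o⁻¹ * c⁻¹ := by rw [hh]; group
      _ = c * o * y * o⁻¹ * c⁻¹ := by rw [h1']
      _ = g * y * g⁻¹ := by rw [hgco]; group
  have hle : P ⊔ zs S ≤ S.comap (MulAut.conj h).toMonoidHom := by
    apply sup_le
    · intro y hy
      show h * y * h⁻¹ ∈ S
      rw [hhy y hy]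
      have := hφS ⟨y, hy⟩
      rwa [hg] at this
    · intro z hz
      show h * z * h⁻¹ ∈ S
      rw [hhz z hz]
      exact (inf_le_left : zs S ≤ S) hz
  refine ⟨Cfsg.conjHom (P ⊔ zs S) h, ⟨sup_le hPS inf_le_left, fun w => hle w.2, h, fun w => rfl⟩,
    ?_, ?_⟩
  · intro y
    show h * (y : G) * h⁻¹ = φ y
    rw [hhy y y.2, hg]
  · intro z
    show h * (z : G) * h⁻¹ = z
    exact hhz z z.2

/-- A subgroup central in the fusion system of `G` on a Sylow `2`-subgroup `S` lies in `zs S`. -/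
theorem le_zs_of_isCentral (hZ : ZStarHyp.{u}) (S : Sylow 2 G) (Q : Subgroup G)
    (hQ : (Cfsg.groupFusionSystem (S : Subgroup G)).IsCentral Q) : Q ≤ zs (S : Subgroup G) := by
  obtain ⟨hQS, hQc⟩ := hQ
  intro x hxQ
  rw [mem_zs_iff]
  refine ⟨hQS hxQ, ?_⟩
  apply zstar_elt_sylow hZ S x (hQS hxQ)
  intro g hg
  have hP0 : Subgroup.zpowers x ≤ (S : Subgroup G) := by
    rw [Subgroup.zpowers_le]; exact hQS hxQ
  have hφ : Cfsg.conjHom (Subgroup.zpowers x) g ∈
      (Cfsg.groupFusionSystem (S : Subgroup G)).Hom (Subgroup.zpowers x) := by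
    refine ⟨hP0, ?_, g, fun y => rfl⟩
    rintro ⟨y, hy⟩
    obtain ⟨j, rfl⟩ := Subgroup.mem_zpowers_iff.mp hy
    show g * x ^ j * g⁻¹ ∈ (S : Subgroup G)
    have e : g * x ^ j * g⁻¹ = (g * x * g⁻¹) ^ j := by
      simp
    rw [e]
    exact Subgroup.zpow_mem _ hg j
  obtain ⟨ψ, -, hψ1, hψ2⟩ := hQc (Subgroup.zpowers x) _ hφ
  have h1 := hψ1 ⟨x, Subgroup.mem_zpowers x⟩
  have h2 := hψ2 ⟨x, hxQ⟩
  have e : Subgroup.inclusion (le_sup_left : Subgroup.zpowers x ≤ Subgroup.zpowers x ⊔ Q)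
      ⟨x, Subgroup.mem_zpowers x⟩ =
      Subgroup.inclusion (le_sup_right : Q ≤ Subgroup.zpowers x ⊔ Q) ⟨x, hxQ⟩ := Subtype.ext rfl
  rw [e, h2] at h1
  exact h1.symm

/-- S5094 from the Z*-theorem. -/
theorem center_groupFusionSystem (hZ : ZStarHyp.{u}) (S : Sylow 2 G) :
    (Cfsg.groupFusionSystem (S : Subgroup G)).center = (S : Subgroup G) ⊓
      (Subgroup.center (G ⧸ Cfsg.oddCore G)).comap (QuotientGroup.mk' (Cfsg.oddCore G)) := by
  apply le_antisymm
  · apply sSup_le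
    intro Q hQ
    exact le_zs_of_isCentral hZ S Q hQ
  · apply le_sSup
    exact isCentral_zs (S : Subgroup G) S.2

end Cfsg.Agent.Lib.Helper96.ZStarFus
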